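import Cfsg.Agent.BlockB.Ix6
import Cfsg.Agent.BlockB.BF
import Cfsg.Agent.Block.Wat

/-!
# Dominated blocks of major subsections together with their inertial quotients
-/

namespace CF.BlockK

open Cfsg MonoidAlgebra Subgroup CF.Block CF.BlockB CF.Invol

universe u

section Quot

variable {k : Type*} [Field k] {G : Type*} [Group G] [Finite G] {p : ℕ} [Fact p.Prime] [CharP k p]
  [IsAlgClosed k] {K : Type*} [Group K] [Finite K] {π : G →* K}

theorem quot_pair (hR : RegSupp p k K) (hπ : Function.Surjective π) (hker : IsPGroup p π.ker)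
    (hc : π.ker ≤ center G) {B f : k[G]} {Q : Subgroup G} (hf : BPair p ⊤ B Q f)
    (hkQ : π.ker ≤ Q) : ∃ f', BPair p ⊤ (gmap π B) (Q.map π) f' ∧
      (∀ x ∈ stab (Nz ⊤ Q) f, π x ∈ stab (Nz ⊤ (Q.map π)) f') ∧
      ∀ y ∈ stab (Nz ⊤ (Q.map π)) f', ∃ x ∈ stab (Nz ⊤ Q) f,
        ∃ c ∈ centralizer (Q.map π : Set K), y = c * π x := by
  have hp : p.Prime := Fact.out
  have hz : ∀ (R : Subgroup G), π.ker ≤ centralizer (R : Set G) := fun R z hz =>
    mem_centralizer_iff.2 fun y _ => mem_center_iff.1 (hc hz) y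
  have hz' : ∀ y : G, y ∈ centralizer (π.ker : Set G) := fun y =>
    mem_centralizer_iff.2 fun z hz => (mem_center_iff.1 (hc hz) y).symm
  have hfN : IsBlk ((Cz ⊤ Q).map π) (gmap π f) := hf.pair.blk.gmap_of_centralizes hR π hker
    (by rw [Cz_top]; exact hz Q) fun y _ _ => hz' y
  have hk : ∀ g : G, π g ∈ centralizer (Q.map π : Set K) → ∀ u ∈ Q, u⁻¹ * (g * u * g⁻¹) ∈ π.ker :=
    fun g hg u hu => by
      rw [MonoidHom.mem_ker, map_mul, map_mul, map_mul, map_inv, map_inv,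
        conj_eq_of_mem_centralizer hg (mem_map_of_mem π hu), inv_mul_cancel]
  have key : ∀ g : G, ¬ p ∣ orderOf g → π g ∈ centralizer (Q.map π : Set K) →
      g ∈ centralizer (Q : Set G) := fun g hg h1 =>
    mem_centralizer_of_conj_mem hp hker hg (hz' g) (hk g h1)
  have hreg : ∀ y ∈ Cz ⊤ (Q.map π), ¬ p ∣ orderOf y → y ∈ (Cz ⊤ Q).map π := fun y hy hyp => by
    obtain ⟨g, rfl⟩ := hπ y
    have h1 : π (pReg p g) = π g := by rw [map_pReg hp, pReg_of_pRegular hp hyp]
    refine ⟨pReg p g, ?_, h1⟩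
    rw [Cz_top] at hy ⊢
    exact key _ (pReg_pRegular hp g) (h1 ▸ hy)
  have hNH : (Cz ⊤ Q).map π ≤ Cz ⊤ (Q.map π) := by
    rw [Cz_top, Cz_top]
    rintro _ ⟨g, hg, rfl⟩
    refine mem_centralizer_iff.2 ?_
    rintro _ ⟨u, hu, rfl⟩
    rw [← map_mul, ← map_mul, mem_centralizer_iff.1 hg u hu]
  have hnm : ∀ g : G, π g ∈ normalizer (Q.map π : Set K) → g ∈ normalizer (Q : Set G) := by
    intro g hg
    have h1 : ∀ g : G, π g ∈ normalizer (Q.map π : Set K) → ∀ u ∈ Q, g * u * g⁻¹ ∈ Q := by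
      intro g hg u hu
      obtain ⟨w, hw, h1⟩ := (mem_normalizer_iff.1 hg (π u)).1 (mem_map_of_mem π hu)
      have h2 : w⁻¹ * (g * u * g⁻¹) ∈ π.ker := by
        rw [MonoidHom.mem_ker, map_mul, map_inv, h1, map_mul, map_mul, map_inv, inv_mul_cancel]
      simpa using Q.mul_mem hw (hkQ h2)
    exact mem_normalizer_iff.2 fun u => ⟨h1 g hg u, fun h2 => by
      simpa [mul_assoc] using h1 g⁻¹ (by rw [map_inv]; exact inv_mem hg) _ h2⟩
  have hN' : Nz ⊤ (Q.map π) ≤ normalizer (((Cz ⊤ Q).map π : Subgroup K) : Set K) := by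
    intro y hy
    obtain ⟨g, rfl⟩ := hπ y
    exact le_normalizer_map π ⟨g, Nz_le_normalizer_Cz ⊤ Q ⟨hnm g hy.1, trivial⟩, rfl⟩
  have hN := (Cz_le_Nz ⊤ (Q.map π)).trans hN'
  have hf' := hR.isBlk_orb hreg hfN hN hNH
  have hB : IsBlk ⊤ (gmap π B) := by
    have := hf.blk.gmap_of_centralizes hR π hker le_top fun y _ _ => hz' y
    rwa [map_top_of_surjective π hπ] at this
  refine ⟨orb (Cz ⊤ (Q.map π)) (gmap π f), ?_, fun x hx => ?_, fun y hy => ?_⟩
  · refine BPair.of_ne ⟨le_top, hf.pair.isP.map π, hf'⟩ hB fun h1 => hfN.ne ?_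
    have h2 := congrArg (· * gmap π f) h1
    simp only [zero_mul] at h2
    rwa [mul_assoc, hfN.orb_mul hN, ← gmap_Br' π hf.pair.isP (hf.blk.mem_fix_of_le le_top),
      ← map_mul, hf.eq] at h2
  · have h2 : π x ∈ normalizer (Q.map π : Set K) := le_normalizer_map π ⟨x, hx.1.1, rfl⟩
    refine ⟨⟨h2, trivial⟩, ?_⟩
    refine hR.eq_orb hreg (hf'.cj_of_mem_normalizer (Nz_le_normalizer_Cz _ _ ⟨h2, trivial⟩)) hfN hN
      hNH fun h3 => hfN.ne ?_
    have h4 : cj (π x) (gmap π f) = gmap π f := by rw [← gmap_cj, hx.2]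
    have h5 := congrArg (cj (π x)) (hfN.orb_mul hN)
    rwa [map_mul, h4, h3, eq_comm] at h5
  · have h1 := congrArg (cj y) (hfN.mul_orb hN)
    rw [map_mul, hy.2] at h1
    obtain ⟨c, hc', h2⟩ := (hfN.mul_orb_ne_zero_iff (hfN.cj_of_mem_normalizer (hN' hy.1)) hN).1
      (by rw [h1]; exact cj_ne_zero.2 hfN.ne)
    obtain ⟨x, hx⟩ := hπ (c⁻¹ * y)
    have h3 : x ∈ normalizer (Q : Set G) := hnm x (hx ▸ mul_mem (inv_mem (Cz_le_Nz _ _ hc').1) hy.1.1)
    refine ⟨x, ⟨⟨h3, trivial⟩, ?_⟩, c, hc'.1, by rw [hx, mul_inv_cancel_left]⟩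
    refine ((hf.pair.cj_of_mem_Nz ⟨h3, trivial⟩).blk.eq_or_mul_eq_zero hf.pair.blk).resolve_right
      fun h4 => hfN.ne ?_
    have h5 := congrArg (gmap π) h4
    rwa [map_mul, gmap_cj, hx, cj_mul, ← h2, cj_inv_cj, hfN.idem, map_zero] at h5

end Quot

variable {p : ℕ} {M : Ideal AlgInt} {G : Type u} [Group G] [Finite G] {B : Set (IrrCharacter G)}
  {P : Subgroup G} {e : (k M)[G]}

section Forms

variable {K : Type*} [Group K] [Fintype K]

variable (p) in
/-- The minimum of the Cartan form is at least the rank. -/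
def MinGe (b : Set (IrrCharacter K)) : Prop := ∀ φ ∈ Lat p b, φ ≠ 0 →
  ∀ n : ℤ, (p : ℂ) ^ blockDefect p b * classInner φ φ = n → blockRank p b ≤ n

variable (p) in
/-- A family of projective virtual characters which defines a good quadratic form. -/
def Frame (b : Set (IrrCharacter K)) : Prop :=
  ∃ (ι : Type) (_ : Fintype ι) (Ψ : ι → K → ℂ) (m : ℕ), 0 < m ∧
    (∀ i, IsGeneralizedCharacter K (Ψ i) ∧ PV p (Ψ i) ∧ InSpan b (Ψ i)) ∧
    (∀ φ ∈ Lat p b, φ ≠ 0 → ∀ c : ι → ℤ, (∀ i, classInner φ (Ψ i) = c i) → (m : ℤ) ≤ ∑ i, c i ^ 2) ∧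
    ∑ i, classInner (Ψ i) (Ψ i) = m * p ^ blockDefect p b

theorem MinGe.of_dom {H : Type*} [Group H] [Fintype H] {π : H →* K} (h : PQuot p π)
    (hM : IsPModular p M) {b : Set (IrrCharacter H)} (hb : IsPBlock M b)
    (h1 : MinGe p (dom π b)) : MinGe p b := fun φ hφ h0 n hn => by
  obtain ⟨φ', h2, rfl⟩ := (h.mem_lat_iff hM hb).1 hφ
  rw [h.form_rinf hM hb (lat_pv h2)] at hn
  rw [← h.blockRank_dom hM hb]
  exact h1 _ h2 (by rintro rfl; exact h0 (map_zero _)) _ hn

theorem Frame.of_dom {H : Type*} [Group H] [Fintype H] {π : H →* K} (h : PQuot p π)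
    (hM : IsPModular p M) {b : Set (IrrCharacter H)} (hb : IsPBlock M b)
    (h1 : Frame p (dom π b)) : Frame p b := by
  obtain ⟨ι, _, Ψ, m, hm, h1, h2, h3⟩ := h1
  refine ⟨ι, inferInstance, fun i => (Nat.card π.ker : ℂ) • rinf p π (Ψ i), m, hm, fun i =>
    ⟨h.gen_smul_rinf hM.1 (h1 i).1 (h1 i).2.1, (pv_rinf _).smul _, ?_⟩, fun φ hφ h0 c hc => ?_, ?_⟩
  · beta_reduce
    rw [← regProj_eq_self (h1 i).2.2 (h1 i).2.1, ← regProj_comp h.surj (h1 i).2.2.classFun]
    exact (inSpan_regProj hM (nrm_eSet_le_one hM hb) _).smul _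
  · obtain ⟨φ', h4, rfl⟩ := (h.mem_lat_iff hM hb).1 hφ
    refine h2 φ' h4 (by rintro rfl; exact h0 (map_zero _)) c fun i => ?_
    rw [← hc, Char.inner_smul_right, map_natCast, h.inner_rinf hM.1, (lat_pv h4).reg_eq]
  · have h4 := congrArg (Nat.cast (R := ℂ)) (h.pow_blockDefect_dom hM hb)
    push_cast at h4
    rw [h4, mul_left_comm, ← h3, Finset.mul_sum]
    refine Finset.sum_congr rfl fun i _ => ?_
    rw [Char.inner_smul_left, Char.inner_smul_right, map_natCast, h.inner_rinf hM.1,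
      (h1 i).2.1.reg_eq]

variable {x : G} [Fintype (Cen x)] {b : Set (IrrCharacter (Cen x))} (hM : IsPModular p M)
  (hx : ∃ k : ℕ, orderOf x = p ^ k) (hind : IsInducedBlock M (Cen x) b B)
  (hd : blockDefect p b = blockDefect p B)
include hM hx hind hd

theorem MinGe.card_le (h : MinGe p b) : Nat.card B ≤ p ^ blockDefect p B := by
  have h1 := card_mul_le_rank_mul_major hM hx rfl hind hd (m := blockRank p b) h
  rw [mul_comm, hd] at h1
  exact Nat.le_of_mul_le_mul_left h1 (blockRank_pos hM.1 (block_nonempty hM hind.1))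

theorem Frame.card_le (h : Frame p b) : Nat.card B ≤ p ^ blockDefect p B := by
  obtain ⟨ι, _, Ψ, m, hm, h1, h2, h3⟩ := h
  have hb := nrm_eSet_le_one hM hind.1
  obtain ⟨φ, Φ, h⟩ := exists_bSet hM hb
  obtain ⟨C, hC⟩ := h.exists_cartan
  choose c hc using fun i j => exists_int_inner_lat (h.lat j) (h1 i).1 (h1 i).2.1
  have h4 := card_mul_le_form_major hM hx rfl hind hd h hC (W := fun j l => ∑ i, c i j * c i l)
    (Nat.cast_nonneg m) fun a ha => ?_
  · have h5 : ∀ i, classInner (Ψ i) (Ψ i) = (∑ j, ∑ l, c i j * c i l * C l j : ℤ) := fun i => by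
      have h6 : Ψ i = ∑ j, c i j • Φ j := by
        rw [h.eq_sum' hM hb (h1 i).2.2 (h1 i).2.1]
        refine Finset.sum_congr rfl fun j _ => ?_
        rw [← Char.inner_conj_symm, hc, map_intCast, Int.cast_smul_eq_zsmul]
      rw [h6]
      push_cast
      simp only [Char.inner_sum_left, Char.inner_sum_right, Char.inner_zsmul_left,
        Char.inner_zsmul_right, hC, Finset.mul_sum]
      exact Finset.sum_congr rfl fun j _ => Finset.sum_congr rfl fun l _ => by ring
    rw [Finset.sum_congr rfl fun i _ => h5 i, ← Int.cast_sum] at h3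
    have h6 : ∑ i, ∑ j, ∑ l, c i j * c i l * C l j = m * p ^ blockDefect p b := by exact_mod_cast h3
    have h7 : (Nat.card B : ℤ) * m ≤ m * p ^ blockDefect p b := by
      rw [← h6, Finset.sum_comm, Finset.sum_congr rfl fun j _ => Finset.sum_comm]
      simp only [← Finset.sum_mul]
      exact_mod_cast h4
    rw [hd, mul_comm] at h7
    exact_mod_cast le_of_mul_le_mul_left h7 (by exact_mod_cast hm)
  · have := h2 _ ((h.mem_lat_iff' hM hb).2 ⟨a, rfl⟩) (fun h0 => ha (funext fun j => ?_))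
      (fun i => ∑ j, a j * c i j) fun i => ?_
    · have h5 : ∑ i, (∑ j, a j * c i j) ^ 2 = ∑ j, ∑ l, (∑ i, c i j * c i l) * (a j * a l) := by
        simp only [sq, Finset.sum_mul_sum]
        simp only [Finset.sum_mul]
        rw [Finset.sum_comm]
        refine Finset.sum_congr rfl fun j _ => Finset.sum_comm.trans ?_
        exact Finset.sum_congr rfl fun l _ => Finset.sum_congr rfl fun i _ => by ring
      rw [h5] at this
      exact_mod_cast this
    · have := congrArg (classInner · (Φ j)) h0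
      simpa [Char.inner_sum_left, Char.inner_zsmul_left, h.dual, -zsmul_eq_mul, Char.inner_zero_left] using this
    · push_cast
      simp only [Char.inner_sum_left, Char.inner_zsmul_left, hc]

end Forms

variable (p B P e) in
/-- The block dominated by a major subsection. -/
structure Dm (u : P) {K : Type u} [Group K] [Fintype K] {Q : Subgroup K} (ρ : P →* Q)
    (b : Set (IrrCharacter K)) (f : (k M)[K]) : Prop where
  blk : IsPBlock M b
  max : MaxPair p ⊤ (eb M b) Q f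
  surj : Function.Surjective ρ
  ker : ρ.ker = zpowers u
  rank : blockRank p b = blockRank p (sbl p P e u)
  up : ∀ τ ∈ FE Q f, ∃ σ ∈ FE P e, σ u = u ∧ ∀ x, τ (ρ x) = ρ (σ x)
  down : ∀ σ ∈ FE P e, σ u = u → ∃ τ ∈ FE Q f, ∀ x, τ (ρ x) = ρ (σ x)
  minGe : MinGe p b → Nat.card B ≤ Nat.card P
  frame : Frame p b → Nat.card B ≤ Nat.card P

theorem exists_dm (hM : IsPModular p M) (hB : IsPBlock M B) (he : MaxPair p ⊤ (eb M B) P e)
    (u : P) (hc : P ≤ Cen (u : G)) : ∃ (K : Type u) (_ : Group K) (_ : Fintype K) (Q : Subgroup K)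
      (ρ : P →* Q) (b : Set (IrrCharacter K)) (f : (k M)[K]), Dm p B P e u ρ b f := by
  have := Fact.mk hM.1
  have := charP_k hM
  have hp := he.bpair.pair
  obtain ⟨hb, hle⟩ := sbl_spec hM hp u.2
  have h1 := he.maxPair_Cz hle (by rwa [centralizer_zpowers'])
  have h2 := stab_Nz_Cz ⊤ (zpowers (u : G)) P e
  rw [Cz_top_zpowers] at h1 h2
  rw [centralizer_zpowers'] at h2
  obtain ⟨e', rfl⟩ := exists_gmap_subtype h1.bpair.pair.mem_sub
  have hi := (Cen (u : G)).subtype_injective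
  have h3 : MaxPair p ⊤ (eb M (sbl p P (gmap (Cen (u : G)).subtype e') u)) (P.subgroupOf (Cen u)) e' :=
    (maxPair_gmap hi).1 (by rwa [map_top_subtype, map_subgroupOf_subtype hc])
  have h4 : ∀ x : Cen (u : G), x ∈ stab (Nz ⊤ (P.subgroupOf (Cen u))) e' ↔
      (x : G) ∈ stab (Nz ⊤ P) (gmap (Cen (u : G)).subtype e') := fun x => by
    rw [← mem_stab_gmap hi, map_top_subtype, map_subgroupOf_subtype hc, h2]
    exact and_iff_left x.2
  set u' : Cen (u : G) := ⟨u, mem_Cen.2 rfl⟩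
  have hz : zpowers u' ≤ center _ := zpowers_le_of_mem
    (mem_center_iff.2 fun y => Subtype.ext (mem_Cen.1 y.2))
  have : (zpowers u').Normal := Clifford.normal_of_le_center hz
  have hpz : IsPGroup p (zpowers u') := by
    rw [← isPGroup_map_iff hi, MonoidHom.map_zpowers]
    exact hp.isP.to_le (zpowers_le_of_mem u.2)
  have h := pQuot_mk hpz (regCent_of_le_center hz)
  set π := QuotientGroup.mk' (zpowers u')
  have hker : π.ker = zpowers u' := QuotientGroup.ker_mk' _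
  obtain ⟨f, h5, h6, h7⟩ := quot_pair (regSupp hM) h.surj h.ker (hker.le.trans hz) h3.bpair
    (hker.le.trans (zpowers_le_of_mem u.2))
  have hb' := h.isPBlock_dom hM hb
  have hD := h.isDefectGroup_dom hM hb ((isDefectGroup_iff hM hb _).2 h3.isDefGrp)
  rw [← h.eb_dom hM hb] at h5
  have := Fintype.ofFinite (Cen (u : G))
  have := Fintype.ofFinite (Cen (u : G) ⧸ zpowers u')
  have hx := exists_orderOf_of_mem hM.1 hp.isP u.2
  have hind := isInducedBlock_sbl hM hB he.bpair u.2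
  have hd := blockDefect_sbl_of_le hM hB he u.2 hc
  have hP := card_defectGroup hM hB ((isDefectGroup_iff hM hB _).2 he.isDefGrp)
  let ρ : P →* (P.subgroupOf (Cen u)).map π := (π.comp (inclusion hc)).codRestrict _
    fun x => mem_map_of_mem π x.2
  have hρ : ∀ x, (ρ x : Cen (u : G) ⧸ zpowers u') = π (inclusion hc x) := fun _ => rfl
  refine ⟨_, inferInstance, inferInstance, _, ρ, _, f, hb',
    h5.maxPair ((isDefectGroup_iff hM hb' _).1 hD), ?_, ?_, h.blockRank_dom hM hb, ?_, ?_,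
    fun h8 => hP ▸ (h8.of_dom h hM hb).card_le hM hx hind hd,
    fun h8 => hP ▸ (h8.of_dom h hM hb).card_le hM hx hind hd⟩
  · rintro ⟨_, x, hx, rfl⟩
    exact ⟨⟨x, hx⟩, rfl⟩
  · ext x
    rw [MonoidHom.mem_ker, Subtype.ext_iff, hρ, OneMemClass.coe_one, ← MonoidHom.mem_ker, hker,
      ← mem_map_iff_mem hi, ← mem_map_iff_mem P.subtype_injective, MonoidHom.map_zpowers,
      MonoidHom.map_zpowers]
    rfl
  · rintro τ ⟨y, hy, hτ⟩
    obtain ⟨x, hx, c, hc', rfl⟩ := h7 y hy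
    obtain ⟨σ, h8, h9⟩ := exists_autE stab_le_normalizer ((h4 x).1 hx)
    refine ⟨σ, h8, Subtype.ext ?_, fun z => Subtype.ext ?_⟩
    · rw [h9, mem_Cen.1 x.2, mul_inv_cancel_right]
    · have h10 : (ρ (σ z) : Cen (u : G) ⧸ zpowers u') = π x * ρ z * (π x)⁻¹ := by
        rw [hρ, hρ, ← map_inv, ← map_mul, ← map_mul]
        exact congrArg π (Subtype.ext (h9 z))
      rw [hτ, ← conj_eq_of_mem_centralizer hc' (ρ (σ z)).2, h10]
      group
  · rintro σ ⟨t, ht, hσ⟩ hu
    have h8 : t ∈ Cen (u : G) := mem_Cen.2 (by rw [← mul_inv_eq_iff_eq_mul, ← hσ, hu])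
    obtain ⟨τ, h9, h10⟩ := exists_autE stab_le_normalizer (h6 ⟨t, h8⟩ ((h4 _).2 ht))
    refine ⟨τ, h9, fun z => Subtype.ext ?_⟩
    rw [h10, hρ, hρ, ← map_inv, ← map_mul, ← map_mul]
    exact congrArg π (Subtype.ext (hσ z).symm)

end CF.BlockK
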