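import Cfsg.Agent.BlockK.K1

/-!
# Blocks with abelian defect groups and small or freely acting inertial quotients
-/

namespace CF.BlockK

open Cfsg MonoidAlgebra Subgroup CF.Block CF.BlockB CF.Invol

universe u

theorem le_form {ι : Type*} {X : Finset ι} {x a : ι → ℤ} {c y t n : ℤ} (ha : ∀ i ∈ X, a i ≠ 0)
    (hc : c ≠ 0) (ht : 1 ≤ t) (hz : ∃ j ∈ X, c * x j - y * a j ≠ 0)
    (h : c ^ 2 * n = (t * ∑ i ∈ X, a i ^ 2 + c ^ 2) * ∑ i ∈ X, (c * x i - y * a i) ^ 2 -
      t * (∑ i ∈ X, (c * x i - y * a i) * a i) ^ 2) : (X.card : ℤ) ≤ n := by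
  classical
  obtain ⟨j, hj, hz⟩ := hz
  have e1 : ∑ i ∈ X, (c * x i - y * a i) ^ 2 = c ^ 2 * ∑ i ∈ X, x i ^ 2 -
      2 * c * y * ∑ i ∈ X, x i * a i + y ^ 2 * ∑ i ∈ X, a i ^ 2 := by
    simp only [Finset.mul_sum, ← Finset.sum_sub_distrib, ← Finset.sum_add_distrib]
    exact Finset.sum_congr rfl fun i _ => by ring
  have e2 : ∑ i ∈ X, (c * x i - y * a i) * a i = c * ∑ i ∈ X, x i * a i - y * ∑ i ∈ X, a i ^ 2 := by
    simp only [Finset.mul_sum, ← Finset.sum_sub_distrib]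
    exact Finset.sum_congr rfl fun i _ => by ring
  have e3 : ∑ i ∈ X, ∑ l ∈ X, (a i * x l - a l * x i) ^ 2 =
      2 * ((∑ i ∈ X, a i ^ 2) * ∑ i ∈ X, x i ^ 2 - (∑ i ∈ X, x i * a i) ^ 2) := by
    have : ∀ i l, (a i * x l - a l * x i) ^ 2 = a i ^ 2 * x l ^ 2 + x i ^ 2 * a l ^ 2 -
        2 * ((x i * a i) * (x l * a l)) := fun i l => by ring
    simp only [this, Finset.sum_sub_distrib, Finset.sum_add_distrib, ← Finset.mul_sum,
      ← Finset.sum_mul]
    ring
  have e4 : n = t * ((∑ i ∈ X, a i ^ 2) * ∑ i ∈ X, x i ^ 2 - (∑ i ∈ X, x i * a i) ^ 2) +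
      ∑ i ∈ X, (c * x i - y * a i) ^ 2 := by
    refine mul_left_cancel₀ (pow_ne_zero 2 hc) ?_
    rw [h, e1, e2]
    ring
  set S := X.filter fun i => c * x i - y * a i = 0 with hS
  have hS1 : ∀ i ∈ S, 1 ≤ (a i * x j - a j * x i) ^ 2 := fun i hi => by
    obtain ⟨h1, h2⟩ := Finset.mem_filter.1 hi
    refine (sq_pos_of_ne_zero fun h3 => mul_ne_zero (ha i h1) hz ?_ : 0 < (a i * x j - a j * x i) ^ 2)
    linear_combination c * h3 + a j * h2
  have hjS : j ∉ S := fun h1 => hz (Finset.mem_filter.1 h1).2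
  have e5 : 2 * (S.card : ℤ) ≤ ∑ i ∈ X, ∑ l ∈ X, (a i * x l - a l * x i) ^ 2 := by
    refine le_trans ?_ (Finset.sum_le_sum_of_subset_of_nonneg (s := insert j S)
      (Finset.insert_subset hj (Finset.filter_subset _ _))
      fun _ _ _ => Finset.sum_nonneg fun _ _ => sq_nonneg _)
    rw [Finset.sum_insert hjS, two_mul]
    refine add_le_add (le_trans ?_ (Finset.sum_le_sum_of_subset_of_nonneg (s := S)
      (Finset.filter_subset _ _) fun _ _ _ => sq_nonneg _)) ?_
    · simpa using Finset.card_nsmul_le_sum S _ 1 fun i hi => (hS1 i hi).trans_eq (by ring)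
    · simpa using Finset.card_nsmul_le_sum S _ 1 fun i hi => (hS1 i hi).trans
        (Finset.single_le_sum (f := fun l => (a i * x l - a l * x i) ^ 2) (fun _ _ => sq_nonneg _) hj)
  have e6 : ((X.filter fun i => ¬ c * x i - y * a i = 0).card : ℤ) ≤
      ∑ i ∈ X, (c * x i - y * a i) ^ 2 := by
    refine le_trans ?_ (Finset.sum_le_sum_of_subset_of_nonneg (Finset.filter_subset
      (fun i => ¬ c * x i - y * a i = 0) _) fun _ _ _ => sq_nonneg _)
    simpa using Finset.card_nsmul_le_sum _ _ 1 fun i hi =>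
      (sq_pos_of_ne_zero (Finset.mem_filter.1 hi).2 : 1 ≤ (c * x i - y * a i) ^ 2)
  have e7 := Finset.card_filter_add_card_filter_not (s := X) fun i => c * x i - y * a i = 0
  rw [← hS] at e7
  rw [e3] at e5
  have e8 : (0 : ℤ) ≤ S.card := Nat.cast_nonneg _
  rw [e4, ← e7]
  push_cast
  nlinarith

variable {p : ℕ} {M : Ideal AlgInt} {G : Type u} [Group G] {B : Set (IrrCharacter G)}
  {P : Subgroup G} {e : (k M)[G]}

theorem minGe_of_fS [Fintype G] (hF : FS p B P e) : MinGe p B := by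
  classical
  intro φ hφ h0 n hn
  have hM := hF.mod
  have hB := hF.blk
  have := Fintype.ofFinite P
  by_cases hP : P = ⊥
  · have h1 : blockDefect p B = 0 := by
      have := hF.card_eq_pow
      rw [hP, card_bot] at this
      exact (Nat.pow_eq_one.1 this.symm).resolve_left hM.1.ne_one
    rw [blockRank_eq_one_of_defect_zero hM hB h1]
    exact BSet.pos_of_inner_self h0 (pow_pos hM.1.pos _) (by exact_mod_cast hn)
  obtain ⟨w, ζ, a, d, δ, h⟩ := hF.exists_fD'
  set X := (B \ FY ζ).toFinset with hX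
  obtain ⟨m, hm⟩ := hF.dvd_sub_one
  have hE := card_FE_ne_zero (P := P) (e := e)
  have hm' : (Nat.card P - 1) / Nat.card (FE P e) = m := by
    rw [hm, Nat.mul_div_cancel_left _ Nat.card_pos]
  obtain ⟨x, y, hxy⟩ : ∃ (x : IrrCharacter G → ℤ) (y : ℤ), ((m * d - δ : ℤ) : ℂ) • φ =
      pRegularPart p (∑ χ ∈ X, (((m * d - δ) * x χ - y * a χ : ℤ) : ℂ) • (χ : G → ℂ)) := by
    refine Submodule.span_induction ?_ ⟨0, 0, ?_⟩ ?_ ?_ hφ
    · rintro _ ⟨η, hη, rfl⟩
      by_cases h1 : η ∈ FY ζ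
      · refine ⟨0, 1, funext fun g => ?_⟩
        simp only [reg_apply, Pi.smul_apply]
        split_ifs with hg
        · simp
        have h2 := h.relation h1 hg
        rw [finsum_mem_eq_toFinset_sum, hm'] at h2
        simp only [Finset.sum_apply, Pi.smul_apply, smul_eq_mul, Pi.zero_apply, mul_zero, zero_sub,
          one_mul, Int.cast_neg, neg_mul, Finset.sum_neg_distrib]
        push_cast
        linear_combination h2
      · refine ⟨fun χ => if χ = η then 1 else 0, 0, funext fun g => ?_⟩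
        simp only [reg_apply, Pi.smul_apply]
        split_ifs <;> simp [hX, hη, h1, ite_apply]
    · ext g; simp [reg_apply]
    · rintro _ _ - - ⟨x, y, h1⟩ ⟨x', y', h2⟩
      refine ⟨x + x', y + y', ?_⟩
      rw [smul_add, h1, h2]
      ext g
      simp only [reg_apply, Pi.add_apply]
      split_ifs
      · simp
      · simp only [Finset.sum_apply, Pi.smul_apply, smul_eq_mul, ← Finset.sum_add_distrib]
        exact Finset.sum_congr rfl fun _ _ => by push_cast; ring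
    · rintro c _ - ⟨x, y, h1⟩
      refine ⟨c • x, c * y, ?_⟩
      rw [smul_comm, h1]
      ext g
      simp only [reg_apply, Pi.smul_apply]
      split_ifs
      · simp
      · simp only [Finset.sum_apply, Pi.smul_apply, smul_eq_mul, zsmul_eq_mul, Finset.mul_sum]
        exact Finset.sum_congr rfl fun _ _ => by push_cast; ring
  have hm1 : 1 ≤ m := hm' ▸ hF.one_le hP
  have hc0 : m * d - δ ≠ 0 := fun h1 => by
    have h2 : m = 1 := by
      have : (m : ℤ) ∣ 1 := by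
        rcases h.sign with rfl | rfl
        exacts [⟨d, by linarith⟩, ⟨-d, by linarith⟩]
      exact Nat.dvd_one.1 (by exact_mod_cast this)
    refine h.ne_of_one hP (hm'.trans h2) ?_
    rw [h2] at h1
    push_cast at h1
    linarith
  generalize hz : (fun χ => (m * d - δ) * x χ - y * a χ) = z
  have hz' : ∀ χ, (m * d - δ) * x χ - y * a χ = z χ := congrFun hz
  simp only [hz'] at hxy
  set θ := ∑ χ ∈ X, (z χ : ℂ) • (χ : G → ℂ) with hθ
  have h1 : InSpan B θ := inSpan_sum _ fun χ hχ => (inSpan_irr (Set.mem_toFinset.1 hχ).1).smul _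
  have h2 : ∀ u : P, u ≠ 1 → Dv p P e w θ u = (∑ χ ∈ X, z χ * a χ : ℤ) := fun u hu => by
    have h3 : ∀ s : Finset (IrrCharacter G), Dv p P e w (∑ χ ∈ s, (z χ : ℂ) • (χ : G → ℂ)) u =
        ∑ χ ∈ s, z χ * Dv p P e w χ u := fun s => by
      induction s using Finset.induction_on with
      | empty => simpa using Dv_lin (p := p) (e := e) w 0 0 0 0 u
      | insert χ s hχ ih => simpa [Finset.sum_insert hχ, ← ih] using Dv_lin (p := p) (e := e) w χ _ _ 1 u
    rw [h3]
    push_cast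
    exact Finset.sum_congr rfl fun χ hχ => by rw [h.Dv_X (Set.mem_toFinset.1 hχ).2 hu]
  have h3 : classInner θ θ = (∑ χ ∈ X, z χ ^ 2 : ℤ) := by
    simp only [hθ, Char.inner_sum_left, Char.inner_sum_right, Char.inner_smul_left,
      Char.inner_smul_right, Char.inner_irr']
    push_cast
    exact Finset.sum_congr rfl fun χ hχ => by simp [hχ, sq]
  have h4 := inner_sub_reg hM hB hF.max h1 h1.classFun
  have h5 : X.card = blockRank p B := by
    rw [← h.card_FX, hX, Set.toFinset_card, Nat.card_eq_fintype_card]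
  have hc : (Nat.card P : ℂ) ≠ 0 := Char.card_ne_zero_complex
  rw [Finset.sum_congr rfl (g := fun _ => ((∑ χ ∈ X, z χ * a χ : ℤ) : ℂ) ^ 2 /
    (Nat.card P * Nat.card (FE P e))) fun u hu => by
      have hu1 := (Finset.mem_erase.1 hu).1
      have h7 := hF.cm_eq h.glue θ θ hu1
      rw [h2 u hu1, map_intCast] at h7
      rw [hF.fcard_eq u.2 fun h8 => hu1 (Subtype.ext h8), sq, ← h7]
      field_simp, Finset.sum_const, Finset.card_erase_of_mem (Finset.mem_univ _), Finset.card_univ,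
    ← Nat.card_eq_fintype_card, hm, h3, ← inner_reg_reg, nsmul_eq_mul, ← hxy, Char.inner_smul_left,
    Char.inner_smul_right, map_intCast] at h4
  have h6 : (Nat.card P : ℤ) = m * ∑ χ ∈ X, a χ ^ 2 + (m * d - δ) ^ 2 := by
    have h7 := h.norm_eq hP
    rw [finsum_mem_eq_toFinset_sum, hm'] at h7
    have h8 : (Nat.card P : ℤ) = Nat.card (FE P e) * m + 1 := by
      have := Nat.card_pos (α := P)
      exact_mod_cast (by omega : Nat.card P = Nat.card (FE P e) * m + 1)
    have h9 : δ ^ 2 = 1 := by rcases h.sign with rfl | rfl <;> simp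
    linear_combination h8 - m * h7 + (m - 1) * h9
  rw [← h5]
  refine le_form (x := x) (y := y) (fun χ hχ => h.a_ne_zero hP (Set.mem_toFinset.1 hχ)) hc0
    (t := m) (by exact_mod_cast hm1) ?_ ?_
  · by_contra! h8
    refine h0 ((smul_eq_zero.1 (hxy.trans ?_)).resolve_left (by exact_mod_cast hc0))
    rw [hθ, Finset.sum_eq_zero fun χ hχ => by simp [← hz', h8 χ hχ]]
    exact pv_zero.reg_eq
  · simp only [hz']
    have h8 : (p : ℂ) ^ blockDefect p B = Nat.card P := by exact_mod_cast hF.card_eq_pow.symm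
    refine Int.cast_injective (α := ℂ) ?_
    rw [← h6]
    push_cast at h4 ⊢
    rw [← hn, h8]
    field_simp at h4
    linear_combination -h4

variable [Finite G]

theorem rank_eq_of_fS (hfs : FS p B P e) (he3 : Nat.card (FE P e) ≤ 3) :
    blockRank p B = Nat.card (FE P e) := by
  have := Fintype.ofFinite G
  have hM := hfs.mod
  by_cases hP1 : P = ⊥
  · have : Nat.card (FE P e) = 1 := by
      subst hP1
      exact Nat.card_unique
    rw [hfs.rank_of_card_eq_one this, this]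
  have hl := hfs.rank_le hP1
  have hcyc := fun h => hfs.rank_eq_of_cyc h hP1
  have h0 := hfs.rank_of_card_eq_one
  obtain ⟨w, ζ, a, d, δ, h⟩ := hfs.exists_fD'
  have h1 := h.norm_eq hP1
  have h2 := h.one_le_norm hP1
  have h3 := h.rank_eq_sum hP1
  have h4 := hfs.dvd_sub_one
  have h5 := hfs.card_eq_pow
  have h6 := blockRank_pos hM.1 (block_nonempty hM hfs.blk)
  have h7 := h.rank_le_sum hP1
  have h8 := h.sign
  have h9 := hfs.one_le hP1
  generalize Nat.card (FE P e) = e at *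
  by_contra hne
  have hnp : ∀ q : ℕ, q.Prime → Nat.card P ≠ q := fun q hq hq' =>
    have := Fact.mk hq
    hne (hcyc (isCyclic_of_prime_card hq'))
  generalize ∑ᶠ χ ∈ B \ FY ζ, a χ ^ 2 = s at *
  obtain ⟨r, hr⟩ := h4
  have hc1 : 1 ≤ Nat.card P := Nat.card_pos
  have he1 : 0 < e := by omega
  rw [hr, Nat.mul_div_cancel_left _ he1] at h1 h2 h9
  have hn : 2 ≤ (d - δ) ^ 2 + (r - 1 : ℤ) * d ^ 2 := by omega
  have hn' : (d - δ) ^ 2 + (r - 1 : ℤ) * d ^ 2 ≤ e := by omega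
  have hd0 : d ≠ 0 := by
    rintro rfl
    rcases h8 with rfl | rfl <;> simp at hn
  have hd1 : 1 ≤ d ^ 2 := sq_pos_of_ne_zero hd0
  have hr1 : (1 : ℤ) ≤ r := by omega
  have hr4 : (r : ℤ) ≤ e + 1 := by nlinarith [sq_nonneg (d - δ)]
  have hd2 : (d - δ) ^ 2 ≤ 3 := by nlinarith
  have : -2 < d - δ := by nlinarith
  have : d - δ < 2 := by nlinarith
  have hdd : d = δ ∨ d = 2 * δ := by omega
  have h10 : d ^ 2 = 1 ∧ (d - δ) ^ 2 = 0 ∨ d ^ 2 = 4 ∧ (d - δ) ^ 2 = 1 := by
    rcases hdd with rfl | rfl <;> rcases h8 with rfl | rfl <;> simp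
  have h11 : 3 ≤ r := by
    rcases h10 with ⟨h10, h11⟩ | ⟨h10, h11⟩ <;> rw [h10, h11] at hn hn' <;> omega
  obtain ⟨rfl, rfl⟩ | ⟨rfl, rfl⟩ | ⟨rfl, rfl⟩ : (e = 2 ∧ r = 3) ∨ (e = 3 ∧ r = 3) ∨
      (e = 3 ∧ r = 4) := by omega
  · exact hnp 7 (by norm_num) (by omega)
  · have h12 : p ^ blockDefect p B = 10 := by omega
    have h13 := (Nat.prime_dvd_prime_iff_eq Nat.prime_two hM.1).1
      (Nat.prime_two.dvd_of_dvd_pow (n := blockDefect p B) (by rw [h12]; norm_num))
    have h14 := (Nat.prime_dvd_prime_iff_eq Nat.prime_five hM.1).1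
      (Nat.prime_five.dvd_of_dvd_pow (n := blockDefect p B) (by rw [h12]; norm_num))
    omega
  · exact hnp 13 (by norm_num) (by omega)

/-- Stability lemma. -/
theorem fix_of_mem {Q : Type*} [Group Q] {σ : MulAut Q} {x : Q} {n : ℕ} (hn : σ ^ n = 1)
    (h1 : σ (x⁻¹ * σ x) = x⁻¹ * σ x) (h2 : (orderOf (x⁻¹ * σ x)).Coprime n) : σ x = x := by
  have h3 : ∀ i : ℕ, (σ ^ i) x = x * (x⁻¹ * σ x) ^ i := fun i => by
    induction i with
    | zero => simp
    | succ i ih => rw [pow_succ', MulAut.mul_apply, ih, map_mul, map_pow, h1, pow_succ', ← mul_assoc,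
        mul_inv_cancel_left]
  have h4 := h3 n
  rw [hn, MulAut.one_apply, left_eq_mul, ← orderOf_dvd_iff_pow_eq_one] at h4
  have h5 := orderOf_eq_one_iff.1 (h2.eq_one_of_dvd h4)
  rw [inv_mul_eq_one] at h5
  exact h5.symm

theorem coprime_orderOf {Q : Type*} [Group Q] (hp : p.Prime) (hQ : IsPGroup p Q) {n : ℕ}
    (hn : ¬ p ∣ n) (x : Q) : (orderOf x).Coprime n := by
  have := Fact.mk hp
  obtain ⟨k, hk⟩ := hQ x
  obtain ⟨i, -, hi⟩ := (Nat.dvd_prime_pow hp).1 (orderOf_dvd_of_pow_eq_one hk)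
  exact hi ▸ Nat.Coprime.pow_left _ ((Nat.Prime.coprime_iff_not_dvd hp).2 hn)

theorem eq_one_of_zpowers {Q : Type*} [Group Q] (hp : p.Prime) (hQ : IsPGroup p Q) {σ : MulAut Q}
    {n : ℕ} (hn : σ ^ n = 1) (hpn : ¬ p ∣ n) {u : Q} (hu : σ u = u)
    (h : ∀ x, x⁻¹ * σ x ∈ zpowers u) : σ = 1 := MulEquiv.ext fun x =>
  fix_of_mem hn (by obtain ⟨i, hi⟩ := h x; rw [← hi, map_zpow, hu]) (coprime_orderOf hp hQ hpn _)

/-- Point stabilizers in a group of automorphisms. -/
abbrev St {Q : Type*} [Group Q] (E : Subgroup (MulAut Q)) (u : Q) : Subgroup (MulAut Q) :=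
  E ⊓ MulAction.stabilizer (MulAut Q) u

theorem not_dvd_FE (hM : IsPModular p M) {f : (k M)[G]} (he : MaxPair p ⊤ f P e)
    (hab : P ≤ centralizer (P : Set G)) : ¬ p ∣ Nat.card (FE P e) := by
  have := Fact.mk hM.1
  have := charP_k hM
  have := he.not_dvd_relIndex_of_comm hab
  rwa [Cz_top, ← card_FE] at this

theorem fS_of_free' (hM : IsPModular p M) (hB : IsPBlock M B) (he : MaxPair p ⊤ (eb M B) P e)
    (hab : P ≤ centralizer (P : Set G)) (h : ∀ σ ∈ FE P e, ∀ x : P, x ≠ 1 → σ x = x → σ = 1) :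
    FS p B P e := by
  refine fS_of_free hM hB he hab fun g hg x hx hx1 h1 => ?_
  obtain ⟨σ, h2, h3⟩ := exists_autE stab_le_normalizer hg
  obtain rfl := h σ h2 ⟨x, hx⟩ (fun h4 => hx1 (congrArg Subtype.val h4)) (Subtype.ext ((h3 _).trans h1))
  exact mem_centralizer_of_conj_eq fun u hu => (h3 ⟨u, hu⟩).symm

namespace Dm

variable {u : P} {K : Type u} [Group K] [Fintype K] {Q : Subgroup K} {ρ : P →* Q}
  {b : Set (IrrCharacter K)} {f : (k M)[K]} (h : Dm p B P e u ρ b f)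
include h

theorem comm (hab : P ≤ centralizer (P : Set G)) : Q ≤ centralizer (Q : Set K) := by
  intro x hx y hy
  obtain ⟨a, ha⟩ := h.surj ⟨x, hx⟩
  obtain ⟨c, hc⟩ := h.surj ⟨y, hy⟩
  have h1 : c * a = a * c := Subtype.ext (hab a.2 c c.2)
  have h2 := congrArg (fun z => (ρ z : K)) h1
  simpa [ha, hc] using h2

theorem card_mul : Nat.card Q * orderOf u = Nat.card P := by
  rw [← Nat.card_zpowers, ← h.ker,
    ← Nat.card_congr (QuotientGroup.quotientKerEquivOfSurjective ρ h.surj).toEquiv,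
    ← card_eq_card_quotient_mul_card_subgroup]

theorem card_FE_eq (hp : p.Prime) (hP : IsPGroup p P) (hE : ¬ p ∣ Nat.card (FE P e)) :
    Nat.card (FE Q f) = Nat.card (St (FE P e) u) := by
  choose F hF hF' using fun σ : St (FE P e) u => h.down σ σ.2.1 σ.2.2
  refine (Nat.card_congr (Equiv.ofBijective (fun σ => (⟨F σ, hF σ⟩ : FE Q f))
    ⟨fun σ σ' h1 => ?_, fun τ => ?_⟩)).symm
  · have h2 : F σ = F σ' := congrArg Subtype.val h1
    have h3 := (σ'⁻¹ * σ).2
    refine (inv_mul_eq_one.1 (Subtype.ext (eq_one_of_zpowers hp hP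
      (congrArg Subtype.val (pow_card_eq_one' (x := (⟨_, h3.1⟩ : FE P e)))) hE h3.2 fun x => ?_))).symm
    rw [← h.ker, MonoidHom.mem_ker, map_mul, map_inv, inv_mul_eq_one]
    refine (F σ').injective ?_
    rw [hF' σ' ((σ'⁻¹ * σ).1 x), ← h2, hF']
    simp
  · obtain ⟨σ, h1, h2, h3⟩ := h.up τ τ.2
    refine ⟨⟨σ, h1, h2⟩, Subtype.ext (MulEquiv.ext fun x => ?_)⟩
    obtain ⟨y, rfl⟩ := h.surj x
    rw [h3, hF']

end Dm

theorem rank_sbl_eq (hM : IsPModular p M) (hB : IsPBlock M B) (he : MaxPair p ⊤ (eb M B) P e)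
    (hab : P ≤ centralizer (P : Set G)) {u : P} (hu : ∀ σ ∈ FE P e, σ u = u) :
    blockRank p (sbl p P e u) = blockRank p B := by
  have := Fact.mk hM.1
  have := charP_k hM
  have h3 := lsub_sup hM he hab u.2 ⊥ bot_le fun t ht => by
    obtain ⟨σ, h2, h3⟩ := exists_autE stab_le_normalizer ht.1
    exact mem_Cen.2 (mul_inv_eq_iff_eq_mul.1 (by rw [← h3, hu σ h2]))
  rwa [lsub, lsub, sup_bot_eq, he.bpair.sbk_bot, Cz_bot, lrk_top hM hB,
    ← blockRank_sbl hM he.bpair.pair u.2] at h3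

/-- Inertial index at most three. -/
theorem rank_eq_of_le_three (hM : IsPModular p M) (n : ℕ) : ∀ {G : Type u} [Group G] [Finite G]
    {B : Set (IrrCharacter G)} {P : Subgroup G} {e : (k M)[G]}, IsPBlock M B →
    MaxPair p ⊤ (eb M B) P e → P ≤ centralizer (P : Set G) → Nat.card (FE P e) ≤ 3 →
    Nat.card P ≤ n → blockRank p B = Nat.card (FE P e) := by
  induction n with
  | zero => exact fun _ _ _ _ h => absurd h (Nat.card_pos.not_ge)
  | succ n ih =>
  intro G _ _ B P e hB he hab h3 hn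
  by_cases hf : ∀ σ ∈ FE P e, ∀ x : P, x ≠ 1 → σ x = x → σ = 1
  · exact rank_eq_of_fS (fS_of_free' hM hB he hab hf) h3
  push Not at hf
  obtain ⟨σ, hσ, u, hu1, hu, hσ1⟩ := hf
  have h1 : St (FE P e) u = FE P e := by
    have h2 : 1 < Nat.card (St (FE P e) u) :=
      (one_lt_card_iff_ne_bot _).2 fun h2 => hσ1 (mem_bot.1 (h2 ▸ (⟨hσ, hu⟩ : σ ∈ St (FE P e) u)))
    obtain ⟨c, hc⟩ := card_dvd_of_le (inf_le_left : St (FE P e) u ≤ FE P e)
    have h4 := Nat.card_pos (α := FE P e)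
    refine eq_of_le_of_card_ge inf_le_left ?_
    rcases c with _ | _ | c <;> nlinarith
  obtain ⟨K, _, _, Q, ρ, b, f, h⟩ := exists_dm hM hB he u (le_Cen_of_comm hab u.2)
  have h2 := h.card_FE_eq hM.1 he.bpair.pair.isP (not_dvd_FE hM he hab)
  rw [h1] at h2
  rw [← rank_sbl_eq hM hB he hab (u := u) fun τ hτ => (h1.ge hτ).2, ← h.rank, ← h2]
  refine ih h.blk h.max (h.comm hab) (h2 ▸ h3) ?_
  have h4 := h.card_mul
  have h5 : 1 < orderOf u := lt_of_le_of_ne (orderOf_pos u) fun h5 => hu1 (orderOf_eq_one_iff.1 h5.symm)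
  have h6 := Nat.card_pos (α := Q)
  nlinarith

theorem rank_sbl_of_le_three (hM : IsPModular p M) (hB : IsPBlock M B)
    (he : MaxPair p ⊤ (eb M B) P e) (hab : P ≤ centralizer (P : Set G)) {u : P}
    (h3 : Nat.card (St (FE P e) u) ≤ 3) :
    blockRank p (sbl p P e u) = Nat.card (St (FE P e) u) := by
  obtain ⟨K, _, _, Q, ρ, b, f, h⟩ := exists_dm hM hB he u (le_Cen_of_comm hab u.2)
  have h2 := h.card_FE_eq hM.1 he.bpair.pair.isP (not_dvd_FE hM he hab)
  rw [← h.rank, ← h2]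
  exact rank_eq_of_le_three hM _ h.blk h.max (h.comm hab) (h2 ▸ h3) le_rfl

end CF.BlockK
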