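import Cfsg.Agent.BlockK.K2
import Cfsg.Agent.Coprime.Abelian

/-!
# Coprime actions on small abelian groups
-/

namespace CF.BlockK

open Subgroup Function

section Basic

variable {A Q : Type*} [Group A] [Group Q] {φ : A →* MulAut Q} {p : ℕ}

variable (φ) in
/-- The stabilizer of an element. -/
def Sf (x : Q) : Subgroup A := (MulAction.stabilizer (MulAut Q) x).comap φ

theorem mem_Sf {x : Q} {a : A} : a ∈ Sf φ x ↔ φ a x = x := Iff.rfl

/-- The fixed points of an automorphism. -/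
def Fx (σ : MulAut Q) : Subgroup Q := σ.toMonoidHom.eqLocus (MonoidHom.id Q)

theorem mem_Fx {σ : MulAut Q} {x : Q} : x ∈ Fx σ ↔ σ x = x := Iff.rfl

theorem Fx_ne_top {σ : MulAut Q} (h : σ ≠ 1) : Fx σ ≠ ⊤ := fun h1 =>
  h (MulEquiv.ext fun x => mem_Fx.1 (h1 ▸ mem_top x))

theorem pow_fix {σ : MulAut Q} {x : Q} (h : σ x = x) (n : ℕ) : (σ ^ n) x = x :=
  (MulAction.stabilizer (MulAut Q) x).pow_mem h n

theorem card_St_eq (E : Subgroup (MulAut Q)) (x : Q) :
    Nat.card (St E x) = Nat.card (Sf E.subtype x) := by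
  rw [← Nat.card_congr (subgroupOfEquivOfLe (inf_le_left : St E x ≤ E)).toEquiv,
    inf_subgroupOf_left]
  rfl

theorem index_Sf (x : Q) : (Sf φ x).index = (Set.range fun a => φ a x).ncard := by
  let _ := MulAction.compHom Q φ
  exact MulAction.index_stabilizer A x

theorem index_Sf_le [Finite Q] {x : Q} {S : Set Q} (h : ∀ a, φ a x ∈ S) :
    (Sf φ x).index ≤ S.ncard := by
  rw [index_Sf]
  exact Set.ncard_le_ncard (Set.range_subset_iff.2 h)

theorem index_Sf_lt [Finite Q] {x : Q} (hx : x ≠ 1) : (Sf φ x).index < Nat.card Q := by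
  refine (index_Sf_le (S := {1}ᶜ) fun a => by simpa using hx).trans_lt ?_
  rw [← Set.ncard_univ]
  exact Set.ncard_lt_ncard (Set.ssubset_univ_iff.2 (by simp))

theorem dvd_of_index [Finite Q] {S : Set Q} (hS : ∀ a, ∀ x ∈ S, φ a x ∈ S) {d : ℕ}
    (h : ∀ x ∈ S, d ∣ (Sf φ x).index) : d ∣ S.ncard := by
  classical
  let _ := MulAction.compHom Q φ
  have := Fintype.ofFinite Q
  rw [Set.ncard_eq_toFinset_card', Finset.card_eq_sum_card_image
    (Quotient.mk (MulAction.orbitRel A Q))]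
  refine Finset.dvd_sum fun c hc => ?_
  obtain ⟨x, hx, rfl⟩ := Finset.mem_image.1 hc
  have hx := Set.mem_toFinset.1 hx
  refine (h x hx).trans (dvd_of_eq (Eq.symm ?_))
  rw [index_Sf, ← Set.ncard_coe_finset]
  congr 1
  ext y
  simp only [Finset.coe_filter, Set.mem_toFinset, Set.mem_ofPred_eq, Quotient.eq]
  exact ⟨fun h => h.2, fun ⟨a, ha⟩ => ⟨ha ▸ hS a x hx, a, ha⟩⟩

theorem dvd_of_index' [Finite Q] {R : Subgroup Q} (hS : ∀ a, ∀ x, φ a x ∈ R ↔ x ∈ R) {d : ℕ}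
    (h : ∀ x ∉ R, d ∣ (Sf φ x).index) : d ∣ Nat.card Q - Nat.card R := by
  have := dvd_of_index (S := (R : Set Q)ᶜ) (fun a x hx => mt (hS a x).1 hx) h
  rwa [Set.ncard_compl] at this

theorem dvd_sub_one [Finite Q] {d : ℕ} (h : ∀ x ≠ 1, d ∣ (Sf φ x).index) : d ∣ Nat.card Q - 1 := by
  simpa using dvd_of_index' (φ := φ) (R := ⊥) (by simp) (by simpa using h)

theorem card_modEq_Fx [Finite Q] {σ : MulAut Q} {r n : ℕ} (hr : r.Prime) (hσ : σ ^ r ^ n = 1)
    {R : Subgroup Q} (hR : ∀ x ∈ R, σ x ∈ R) :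
    Nat.card R ≡ Nat.card (R ⊓ Fx σ : Subgroup Q) [MOD r] := by
  classical
  have := Fact.mk hr
  have := Fintype.ofFinite R
  let f : Function.End R := fun x => ⟨σ x, hR x x.2⟩
  have h1 : ∀ (i : ℕ) (x : R), ((f ^ i) x : Q) = (σ ^ i) x := fun i => by
    induction i with
    | zero => exact fun _ => rfl
    | succ i ih => exact fun x => by rw [pow_succ, pow_succ]; exact ih _
  have h2 := Equiv.Perm.card_fixedPoints_modEq (f := f) (p := r) (n := n)
    (funext fun x => Subtype.ext (by rw [h1, hσ]; rfl))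
  rw [← Nat.card_eq_fintype_card, ← Nat.card_eq_fintype_card] at h2
  rwa [Nat.card_congr (α := f.fixedPoints) (β := (R ⊓ Fx σ : Subgroup Q))
    ⟨fun x => ⟨x.1, x.1.2, congrArg Subtype.val x.2⟩, fun x => ⟨⟨x, x.2.1⟩, Subtype.ext x.2.2⟩,
      fun _ => rfl, fun _ => rfl⟩] at h2

theorem card_modEq_Fx' [Finite Q] {σ : MulAut Q} {r n : ℕ} (hr : r.Prime) (hσ : σ ^ r ^ n = 1) :
    Nat.card Q ≡ Nat.card (Fx σ) [MOD r] := by
  simpa using card_modEq_Fx hr hσ (R := ⊤) fun _ _ => mem_top _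

theorem dvd_index_sub_one [Finite Q] (hp : p.Prime) (hQ : IsPGroup p Q) {σ : MulAut Q} {r : ℕ}
    (hr : r.Prime) (hrp : r ≠ p) (hσ : σ ^ r = 1) : r ∣ (Fx σ).index - 1 := by
  have := Fact.mk hp
  have h1 := card_modEq_Fx' (n := 1) hr (by rwa [pow_one])
  rw [← (Fx σ).card_mul_index] at h1
  obtain ⟨n, hn⟩ := (hQ.to_subgroup (Fx σ)).exists_card_eq
  refine (Nat.modEq_iff_dvd' (Nat.pos_of_ne_zero index_ne_zero_of_finite)).1 (Nat.ModEq.cancel_left_of_coprime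
    (c := Nat.card (Fx σ)) ?_ (by simpa using h1.symm))
  exact hn ▸ Nat.Coprime.pow_right _ ((Nat.coprime_primes hr hp).2 hrp)

/-- Primes dividing the order of a group of automorphisms. -/
theorem exists_dvd_pow_sub_one [Finite A] [Finite Q] (hp : p.Prime) (hQ : IsPGroup p Q)
    (hφ : Injective φ) {r : ℕ} (hr : r.Prime) (hrp : r ≠ p) (h : r ∣ Nat.card A) :
    ∃ i, i ≠ 0 ∧ p ^ i ≤ Nat.card Q ∧ r ∣ p ^ i - 1 := by
  have := Fact.mk hp
  have := Fact.mk hr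
  obtain ⟨a, ha⟩ := exists_prime_orderOf_dvd_card' r h
  have h1 : φ a ≠ 1 := fun h1 => hr.ne_one (by rw [← ha, hφ (h1.trans (map_one φ).symm), orderOf_one])
  obtain ⟨i, hi⟩ := hQ.index (Fx (φ a))
  refine ⟨i, fun h2 => Fx_ne_top h1 (index_eq_one.1 (by rw [hi, h2, pow_zero])),
    hi ▸ Nat.le_of_dvd Nat.card_pos (index_dvd_card _), hi ▸ dvd_index_sub_one hp hQ hr hrp ?_⟩
  rw [← map_pow, ← ha, pow_orderOf_eq_one, map_one]

theorem fix_of_act [Finite A] (hp : p.Prime) (hQ : IsPGroup p Q) (hA : ¬ p ∣ Nat.card A) {a : A}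
    {x : Q} (h : φ a (x⁻¹ * φ a x) = x⁻¹ * φ a x) : φ a x = x :=
  fix_of_mem (n := Nat.card A) (by rw [← map_pow, pow_card_eq_one', map_one]) h
    (coprime_orderOf hp hQ hA _)

theorem not_dvd_sub (hA : ¬ p ∣ Nat.card A) (S : Subgroup A) : ¬ p ∣ Nat.card S :=
  fun h => hA (h.trans S.card_subgroup_dvd_card)

theorem exists_normal_prime [Finite A] {r k : ℕ} (hr : r.Prime) (hA : Nat.card A = r * k)
    (hk : ¬ r ∣ k) (h : ∀ d, d ∣ k → d ≡ 1 [MOD r] → d = 1) :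
    ∃ T : Subgroup A, T.Normal ∧ Nat.card T = r := by
  have := Fact.mk hr
  obtain ⟨T⟩ : Nonempty (Sylow r A) := inferInstance
  have h1 : Nat.card T = r := by
    have h0 : k ≠ 0 := fun h0 => hk (h0 ▸ dvd_zero r)
    rw [T.card_eq_multiplicity, hA, Nat.factorization_mul hr.ne_zero h0, Finsupp.add_apply,
      hr.factorization_self, Nat.factorization_eq_zero_of_not_dvd hk, add_zero, pow_one]
  have h2 : (T : Subgroup A).index = k := by
    have := (T : Subgroup A).card_mul_index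
    rw [h1, hA] at this
    exact Nat.eq_of_mul_eq_mul_left hr.pos this
  have h3 := h _ (h2 ▸ T.card_dvd_index) (card_sylow_modEq_one r A)
  have := (Nat.card_eq_one_iff_unique.1 h3).1
  exact ⟨T, T.normal_of_subsingleton, h1⟩

theorem card_modEq_conj [Finite A] {s : A} {r n : ℕ} (hr : r.Prime) (hs : s ^ r ^ n = 1)
    (N : Subgroup A) [h : N.Normal] :
    Nat.card N ≡ Nat.card (N ⊓ Fx (MulAut.conj s) : Subgroup A) [MOD r] :=
  card_modEq_Fx hr (by rw [← map_pow, hs, map_one]) fun x hx => h.conj_mem x hx s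

theorem comm_of_Fx {s t : A} (h : t ∈ Fx (MulAut.conj s)) : s * t = t * s :=
  mul_inv_eq_iff_eq_mul.1 (mem_Fx.1 h)

theorem mem_Fx_of_comm {s t : A} (h : s * t = t * s) {x : Q} (hx : x ∈ Fx (φ s)) :
    φ t x ∈ Fx (φ s) := by
  rw [mem_Fx, ← MulAut.mul_apply, ← map_mul, h, map_mul, MulAut.mul_apply, mem_Fx.1 hx]

theorem eq_zpowers [Finite A] {S : Subgroup A} (hp : (Nat.card S).Prime) {a : A} (ha : a ∈ S)
    (h1 : a ≠ 1) : S = zpowers a :=
  (eq_of_le_of_card_ge (zpowers_le_of_mem ha) (Nat.le_of_eq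
    ((hp.eq_one_or_self_of_dvd _ (card_dvd_of_le (zpowers_le_of_mem ha))).resolve_left
      (by simpa using h1)).symm)).symm

theorem pow_card_of_mem {S : Subgroup A} {a : A} (ha : a ∈ S) : a ^ Nat.card S = 1 :=
  congrArg Subtype.val (pow_card_eq_one' (x := (⟨a, ha⟩ : S)))

theorem fix_of_zpowers {a b : A} (h : b ∈ zpowers a) {x : Q} (hx : φ a x = x) : φ b x = x :=
  mem_Sf.1 (zpowers_le_of_mem (mem_Sf.2 hx) h)

end Basic

section Comm

variable {A Q : Type*} [Group A] [Finite A] [CommGroup Q] {φ : A →* MulAut Q} {p : ℕ}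

theorem exists_quot_act (hp : p.Prime) (hQ : IsPGroup p Q) (hA : ¬ p ∣ Nat.card A)
    (hφ : Injective φ) (S : Subgroup A) (R : Subgroup Q) (h : ∀ a ∈ S, ∀ x ∈ R, φ a x = x) :
    ∃ ψ : S →* MulAut (Q ⧸ R), Injective ψ := by
  refine ⟨Coprime.quotAct (φ.comp S.subtype) R fun a x hx => by
    rwa [MonoidHom.comp_apply, subtype_apply, h a a.2 x hx], (injective_iff_map_eq_one _).2
      fun a ha => Subtype.ext (hφ ((MulEquiv.ext fun x => ?_).trans (map_one φ).symm))⟩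
  refine fix_of_act hp hQ hA (h a a.2 _ (QuotientGroup.eq.1 ?_))
  exact (DFunLike.congr_fun ha (x : Q ⧸ R)).symm

variable (p Q) in
/-- The elements of order dividing `p`. -/
abbrev Om : Subgroup Q := (powMonoidHom p : Q →* Q).ker

theorem fix_of_Om (hp : p.Prime) (hQ : IsPGroup p Q) (hA : ¬ p ∣ Nat.card A) {a : A}
    {R : Subgroup Q} (hR : ∀ x ∈ R, φ a x ∈ R) (h : ∀ x ∈ R, x ^ p = 1 → φ a x = x) {x : Q}
    (hx : x ∈ R) : φ a x = x := by
  obtain ⟨n, hn⟩ := hQ x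
  induction n generalizing x with
  | zero => simp [show x = 1 by simpa using hn]
  | succ n ih =>
    refine fix_of_act hp hQ hA (h _ (mul_mem (inv_mem hx) (hR x hx)) ?_)
    rw [mul_pow, ← map_pow, ih (pow_mem hx p) (by rw [← pow_mul, ← pow_succ', hn]), inv_pow,
      inv_mul_cancel]

theorem exists_Om_act (hp : p.Prime) (hQ : IsPGroup p Q) (hA : ¬ p ∣ Nat.card A)
    (hφ : Injective φ) : ∃ ψ : A →* MulAut (Om Q p), Injective ψ ∧ ∀ a x, (ψ a x : Q) = φ a x := by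
  refine ⟨Coprime.subAct φ _ fun a x hx => ?_, (injective_iff_map_eq_one _).2 fun a ha =>
    hφ ((MulEquiv.ext fun x => ?_).trans (map_one φ).symm), fun _ _ => rfl⟩
  · rw [MonoidHom.mem_ker, powMonoidHom_apply] at hx ⊢
    rw [← map_pow, hx, map_one]
  · exact fix_of_Om hp hQ hA (R := ⊤) (fun _ _ => mem_top _) (fun y _ hy =>
      congrArg Subtype.val (DFunLike.congr_fun ha ⟨y, hy⟩)) (mem_top x)

theorem card_Om_le [Finite Q] (hp : p.Prime) (u : Q) :
    Nat.card (Om Q p) ≤ p * (zpowers u).index := by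
  rw [← ((zpowers u).subgroupOf (Om Q p)).card_mul_index]
  refine Nat.mul_le_mul ?_ (Nat.le_of_dvd (Nat.pos_of_ne_zero index_ne_zero_of_finite)
    (relIndex_dvd_index_of_normal _ _))
  have : IsCyclic ((zpowers u).subgroupOf (Om Q p)) := isCyclic_of_injective
    (((Om Q p).subtype.comp (Subgroup.subtype _)).codRestrict (zpowers u) fun x => x.2)
    fun x y h => Subtype.ext (Subtype.ext (congrArg (fun z : zpowers u => (z : Q)) h))
  rw [← IsCyclic.exponent_eq_card]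
  exact Nat.le_of_dvd hp.pos (Monoid.exponent_dvd_of_forall_pow_eq_one fun x =>
    Subtype.ext (Subtype.ext x.1.2))

theorem card_quot_zpowers [Finite Q] (hp : p.Prime) (hQ : IsPGroup p Q) {x : Q} (hx : x ≠ 1) :
    p * Nat.card (Q ⧸ zpowers x) ≤ Nat.card Q := by
  have := Fact.mk hp
  rw [card_eq_card_quotient_mul_card_subgroup (zpowers x), mul_comm]
  refine Nat.mul_le_mul_left _ (Nat.le_of_dvd Nat.card_pos ?_)
  exact ((hQ.to_subgroup _).card_eq_or_dvd).resolve_left (by simpa using hx)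

/-- The recursion step. -/
theorem card_Sf_of {C : ℕ → Prop} {n : ℕ} [Finite Q] (hp : p.Prime) (hQ : IsPGroup p Q)
    (hA : ¬ p ∣ Nat.card A) (hφ : Injective φ) (hn : Nat.card Q ≤ p * n + (p - 1)) {x : Q}
    (hx : x ≠ 1) (h : ∀ ψ : Sf φ x →* MulAut (Q ⧸ zpowers x), Injective ψ →
      IsPGroup p (Q ⧸ zpowers x) → Nat.card (Q ⧸ zpowers x) ≤ n → ¬ p ∣ Nat.card (Sf φ x) →
        C (Nat.card (Sf φ x))) : C (Nat.card (Sf φ x)) := by
  obtain ⟨ψ, hψ⟩ := exists_quot_act hp hQ hA hφ (Sf φ x) (zpowers x) fun a ha y ⟨i, hi⟩ => by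
    rw [← hi, map_zpow, mem_Sf.1 ha]
  refine h ψ hψ (hQ.to_quotient _) ?_ (not_dvd_sub hA _)
  have h1 := (card_quot_zpowers hp hQ hx).trans hn
  have h2 := hp.pos
  by_contra! h3
  have := Nat.mul_le_mul_left p h3
  rw [Nat.mul_succ] at this
  omega

theorem card_eq_one_of_le_one [Finite Q] (hφ : Injective φ) (h : Nat.card Q ≤ 1) :
    Nat.card A = 1 := by
  have := Finite.card_le_one_iff_subsingleton.1 h
  have : Subsingleton A := ⟨fun a b => hφ (MulEquiv.ext fun _ => Subsingleton.elim _ _)⟩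
  exact Nat.card_unique

theorem card_lt_of_prime [Finite Q] (hp : p.Prime) (hQ : IsPGroup p Q) (hA : ¬ p ∣ Nat.card A)
    (hφ : Injective φ) (h : Nat.card Q ≤ p) : Nat.card A < p := by
  by_cases h1 : Nat.card Q ≤ 1
  · exact card_eq_one_of_le_one hφ h1 ▸ hp.one_lt
  have := Finite.one_lt_card_iff_nontrivial.1 (not_le.1 h1)
  obtain ⟨x, hx⟩ := exists_ne (1 : Q)
  have h2 := card_Sf_of (C := (· = 1)) (n := 1) hp hQ hA hφ (by omega) hx fun ψ h2 h3 h4 h5 => by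
    refine card_eq_one_of_le_one h2 ?_
    have := card_quot_zpowers hp hQ hx
    by_contra! h6
    nlinarith [hp.pos]
  rw [← (Sf φ x).card_mul_index, h2, one_mul]
  exact (index_Sf_lt hx).trans_le h

end Comm

section Two

variable {A Q : Type*} [Group A] [Finite A] [CommGroup Q] [Finite Q] {φ : A →* MulAut Q}
  (hQ : IsPGroup 2 Q) (hA : ¬ 2 ∣ Nat.card A) (hφ : Injective φ)
include hQ hA hφ

omit hQ hφ [Finite A] [Finite Q] in
theorem odd_index (x : Q) : ¬ 2 ∣ (Sf φ x).index := fun h => hA (h.trans (index_dvd_card _))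

theorem G4 (h : Nat.card Q ≤ 4) : Nat.card A ∣ 3 := by
  by_cases h1 : Nat.card Q ≤ 1
  · exact card_eq_one_of_le_one hφ h1 ▸ one_dvd _
  have := Finite.one_lt_card_iff_nontrivial.1 (not_le.1 h1)
  obtain ⟨x, hx⟩ := exists_ne (1 : Q)
  have h2 := card_Sf_of (C := (· < 2)) (n := 2) Nat.prime_two hQ hA hφ (by omega) hx
    fun ψ h2 h3 h4 h5 => card_lt_of_prime Nat.prime_two h3 h5 h2 h4
  have h3 := index_Sf_lt (φ := φ) hx
  have h4 := odd_index hA (φ := φ) x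
  have h5 := Nat.card_pos (α := Sf φ x)
  rw [← (Sf φ x).card_mul_index, show Nat.card (Sf φ x) = 1 by omega, one_mul]
  obtain h | h : (Sf φ x).index = 1 ∨ (Sf φ x).index = 3 := by omega
  all_goals simp [h]

theorem G8 (h : Nat.card Q ≤ 8) : Nat.card A ∣ 3 ∨ 7 ∣ Nat.card A := by
  by_cases h1 : Nat.card Q ≤ 4
  · exact Or.inl (G4 hQ hA hφ h1)
  obtain ⟨n, hn⟩ := hQ.exists_card_eq
  have h8 : Nat.card Q = 8 := by
    have : n < 4 := (Nat.pow_lt_pow_iff_right one_lt_two).1 (by omega)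
    interval_cases n <;> omega
  refine or_iff_not_imp_right.2 fun h7 => ?_
  have h2 : ∀ x ≠ 1, Nat.card (Sf φ x) ∣ 3 := fun x hx =>
    card_Sf_of (C := (· ∣ 3)) (n := 4) Nat.prime_two hQ hA hφ (by omega) hx
      fun ψ h2 h3 h4 h5 => G4 h3 h5 h2 h4
  by_contra h3
  refine absurd (h8 ▸ dvd_sub_one (φ := φ) (d := 3) fun x hx => ?_) (by norm_num)
  have h4 := index_Sf_lt (φ := φ) hx
  have h5 := odd_index hA (φ := φ) x
  have h6 : (Sf φ x).index ≠ 5 := fun h6 => by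
    obtain ⟨i, h11, h9, h10⟩ := exists_dvd_pow_sub_one Nat.prime_two hQ hφ Nat.prime_five (by norm_num)
      (h6 ▸ index_dvd_card _)
    have : i < 4 := (Nat.pow_lt_pow_iff_right one_lt_two).1 (by omega)
    interval_cases i <;> omega
  have h9 : (Sf φ x).index ≠ 7 := fun h6 => h7 (h6 ▸ index_dvd_card _)
  have h10 : (Sf φ x).index ≠ 1 := fun h6 => h3 (by
    rw [← (Sf φ x).card_mul_index, h6, mul_one]; exact h2 x hx)
  omega

omit hQ hA hφ in
variable (φ) in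
/-- An elementary abelian group of order nine acting on a group of order sixteen. -/
structure Nine (V W : Subgroup Q) : Prop where
  cardQ : Nat.card Q = 16
  cardA : Nat.card A = 9
  cardV : Nat.card V = 4
  cardW : Nat.card W = 4
  disj : ∀ x ∈ V, x ∈ W → x = 1
  invV : ∀ a x, φ a x ∈ V ↔ x ∈ V
  invW : ∀ a x, φ a x ∈ W ↔ x ∈ W
  stV : ∀ x ∈ V, x ≠ 1 → Nat.card (Sf φ x) = 3
  stW : ∀ x ∈ W, x ≠ 1 → Nat.card (Sf φ x) = 3
  st0 : ∀ x ∉ V, x ∉ W → Nat.card (Sf φ x) = 1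

theorem G16 (h : Nat.card Q ≤ 16) : Nat.card A ≤ 3 ∨ (∀ a x, x ≠ 1 → φ a x = x → a = 1) ∨
    (∃ V W, Nine φ V W) ∨ 7 ∣ Nat.card A := by
  by_contra! H
  obtain ⟨h3, ⟨s, x, hx, hs, hs1⟩, h9, h7⟩ := H
  by_cases h1 : Nat.card Q ≤ 8
  · exact h3.not_ge (Nat.le_of_dvd three_pos ((G8 hQ hA hφ h1).resolve_right h7))
  obtain ⟨n, hn⟩ := hQ.exists_card_eq
  have h16 : Nat.card Q = 16 := by
    have : n < 5 := (Nat.pow_lt_pow_iff_right one_lt_two).1 (by omega)
    interval_cases n <;> omega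
  have h2 : ∀ x ≠ 1, Nat.card (Sf φ x) ∣ 3 := fun x hx =>
    card_Sf_of (C := (· ∣ 3)) (n := 8) Nat.prime_two hQ hA hφ (by omega) hx
      fun ψ h2 h3 h4 h5 => (G8 h3 h5 h2 h4).resolve_right (not_dvd_sub h7 _)
  have h4 : ∀ x ≠ 1, ∀ s ≠ 1, φ s x = x → Nat.card (Sf φ x) = 3 ∧ Nat.card (Fx (φ s)) = 4 := by
    intro x hx s hs1 hs
    have h4 := ((Nat.dvd_prime Nat.prime_three).1 (h2 x hx)).resolve_left fun h4 =>
      hs1 (mem_bot.1 (card_eq_one.1 h4 ▸ mem_Sf.2 hs))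
    refine ⟨h4, ?_⟩
    have h5 := card_modEq_Fx' (σ := φ s) (n := 1) Nat.prime_three (by
      rw [← map_pow, pow_one, ← h4, pow_card_of_mem (mem_Sf.2 hs), map_one])
    have h6 : Nat.card (Fx (φ s)) ≠ 1 := fun h6 => hx (mem_bot.1 (card_eq_one.1 h6 ▸ mem_Fx.2 hs))
    have h8 : Nat.card (Fx (φ s)) ≠ Nat.card Q := fun h6 =>
      Fx_ne_top (fun h8 => hs1 (hφ (h8.trans (map_one φ).symm))) (card_eq_iff_eq_top _ |>.1 h6)
    have h10 := (Fx (φ s)).card_subgroup_dvd_card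
    rw [h16] at h5 h8 h10
    have := Nat.le_of_dvd (by norm_num) h10
    rw [Nat.ModEq] at h5
    generalize Nat.card (Fx (φ s)) = c at *
    interval_cases c <;> omega
  obtain ⟨h5, h6⟩ := h4 x hx s hs1 hs
  have h8 := (Sf φ x).card_mul_index
  rw [h5] at h8
  have h10 : (Sf φ x).index ∣ 15 := by
    refine (dvd_sub_one (φ := φ) fun y hy => ?_).trans (by rw [h16])
    have h10 := (Sf φ y).card_mul_index
    rcases (Nat.dvd_prime Nat.prime_three).1 (h2 y hy) with h11 | h11 <;> rw [h11] at h10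
    · exact ⟨3, by omega⟩
    · exact ⟨1, by omega⟩
  by_cases h11 : 5 ∣ (Sf φ x).index
  · obtain ⟨k, hk⟩ := h11
    have hk3 : k ∣ 3 := Nat.dvd_of_mul_dvd_mul_left (by norm_num : 0 < 5) (hk ▸ h10)
    obtain ⟨T, hT, hT5⟩ := exists_normal_prime (A := A) (k := 3 * k) Nat.prime_five (by omega)
      (by rcases (Nat.dvd_prime Nat.prime_three).1 hk3 with rfl | rfl <;> norm_num) fun d hd h1 => by
        have h12 : d ∣ 9 := hd.trans (Nat.mul_dvd_mul_left 3 hk3)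
        have := Nat.le_of_dvd (by norm_num) h12
        rw [Nat.ModEq] at h1
        interval_cases d <;> omega
    have h12 := card_modEq_conj (s := s) (n := 1) Nat.prime_three (by
      rw [pow_one, ← h5, pow_card_of_mem (mem_Sf.2 hs)]) T
    obtain ⟨⟨t, ht, ht'⟩, ht1⟩ := ne_bot_iff_exists_ne_one.1 (show T ⊓ Fx (MulAut.conj s) ≠ ⊥ from
      fun h13 => by rw [h13, hT5, card_bot] at h12; simp [Nat.ModEq] at h12)
    have ht5 : t ^ 5 = 1 := hT5 ▸ pow_card_of_mem ht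
    have h13 := card_modEq_Fx (σ := φ t) (n := 1) Nat.prime_five (by
      rw [← map_pow, pow_one, ht5, map_one]) (R := Fx (φ s)) fun y hy =>
        mem_Fx_of_comm (comm_of_Fx ht') hy
    obtain ⟨⟨y, hy0, hy⟩, hy1⟩ := ne_bot_iff_exists_ne_one.1 (show Fx (φ s) ⊓ Fx (φ t) ≠ ⊥ from
      fun h14 => by rw [h14, h6, card_bot] at h13; simp [Nat.ModEq] at h13)
    have ht1 : t ≠ 1 := fun h => ht1 (Subtype.ext h)
    have h14 := pow_card_of_mem (mem_Sf.2 (mem_Fx.1 hy))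
    rw [(h4 y (fun h => hy1 (Subtype.ext h)) t ht1 hy).1] at h14
    exact ht1 ((pow_eq_one_iff_of_coprime (by norm_num : Nat.Coprime 5 3)).1 ⟨ht5, h14⟩)
  have h12 : Nat.card A = 3 ^ 2 := by
    have := Nat.le_of_dvd (by norm_num) h10
    generalize (Sf φ x).index = m at *
    interval_cases m <;> omega
  have := Fact.mk Nat.prime_three
  have hc : ∀ a b : A, a * b = b * a := (IsPGroup.isMulCommutative_of_card_eq_prime_sq h12).is_comm.comm
  have hi : ∀ s a x, φ a x ∈ Fx (φ s) ↔ x ∈ Fx (φ s) := fun s a x =>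
    ⟨fun h => by simpa using mem_Fx_of_comm (hc s a⁻¹) h, mem_Fx_of_comm (hc s a)⟩
  obtain ⟨y, hy, hy'⟩ : ∃ y ∉ Fx (φ s), ¬ 9 ∣ (Sf φ y).index := by
    by_contra! h13
    have := dvd_of_index' (hi s) h13
    rw [h16, h6] at this
    omega
  have hy1 : y ≠ 1 := fun h => hy (h ▸ one_mem _)
  obtain ⟨⟨t, ht⟩, ht1⟩ := ne_bot_iff_exists_ne_one.1 (show Sf φ y ≠ ⊥ from
    fun h => hy' (by rw [h, index_bot, h12]; rfl))
  have ht1 : t ≠ 1 := fun h => ht1 (Subtype.ext h)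
  have key : ∀ z ≠ 1, ∀ a ≠ 1, ∀ b, φ a z = z → φ b z = z → Fx (φ a) ≤ Fx (φ b) :=
    fun z hz a ha b h1 h2 w hw => fix_of_zpowers (eq_zpowers ((h4 z hz a ha h1).1 ▸ Nat.prime_three)
      (mem_Sf.2 h1) ha ▸ mem_Sf.2 h2) hw
  have hd : ∀ z ∈ Fx (φ s), z ∈ Fx (φ t) → z = 1 := fun z h1 h2 =>
    by_contra fun hz => hy (key z hz t ht1 s h2 h1 ht)
  refine h9 (Fx (φ s)) (Fx (φ t)) ⟨h16, h12, h6, (h4 y hy1 t ht1 ht).2, hd, hi s, hi t,
    fun z h1 hz => (h4 z hz s hs1 h1).1, fun z h1 hz => (h4 z hz t ht1 h1).1, fun z h1 h2 => ?_⟩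
  obtain ⟨⟨v, w⟩, rfl⟩ := (isComplement'_of_card_mul_and_disjoint (H := Fx (φ s)) (K := Fx (φ t))
    (by rw [h6, (h4 y hy1 t ht1 ht).2, h16]) (disjoint_def.2 fun h1 h2 => hd _ h1 h2)).2 z
  refine card_eq_one.2 (eq_bot_iff.2 fun a ha => mem_bot.2 (by_contra fun ha1 => ?_))
  have h13 : (v : Q)⁻¹ * φ a v = w * (φ a w)⁻¹ := by
    have := mem_Sf.1 ha
    simp only [map_mul] at this
    rw [inv_mul_eq_iff_eq_mul, ← mul_assoc, ← this, mul_inv_cancel_right]
  have h14 := hd _ (mul_mem (inv_mem v.2) ((hi s a v).2 v.2))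
    (h13 ▸ mul_mem w.2 (inv_mem ((hi t a w).2 w.2)))
  have hv : (v : Q) ≠ 1 := fun h => h2 (by simp [h])
  refine h1 (mul_mem v.2 (key v hv a ha1 s (inv_mul_eq_one.1 h14).symm v.2 ?_))
  exact (mul_inv_eq_one.1 (h13 ▸ h14)).symm

theorem G16' (h : Nat.card Q ≤ 16) (h7 : ¬ 7 ∣ Nat.card A) : Nat.card A ≤ 15 := by
  rcases G16 hQ hA hφ h with h1 | h1 | ⟨V, W, h1⟩ | h1
  · omega
  · by_cases h2 : Nat.card Q ≤ 1
    · exact card_eq_one_of_le_one hφ h2 ▸ by norm_num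
    have := Finite.one_lt_card_iff_nontrivial.1 (not_le.1 h2)
    obtain ⟨x, hx⟩ := exists_ne (1 : Q)
    have h3 := index_Sf_lt (φ := φ) hx
    rw [show Sf φ x = ⊥ from eq_bot_iff.2 fun a ha => h1 a x hx ha, index_bot] at h3
    omega
  · exact h1.cardA ▸ by norm_num
  · exact absurd h1 h7

end Two

end CF.BlockK
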