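import Cfsg.Agent.BlockK.K3
import Cfsg.Agent.Hyp.FTProof
import Cfsg.Agent.Solv.Fitting

/-!
# Automorphisms of order seven and reflections
-/

namespace CF.BlockK

open Subgroup Function
open scoped commutatorElement

section Forms

variable {Q R : Type*} [CommGroup Q] [Group R] {τ : MulAut Q} {β : Q → Q → R} {p : ℕ}

variable (τ) in
/-- The commutator map of an automorphism. -/
def Cm : Q →* Q := MonoidHom.mk' (fun x => x⁻¹ * τ x) fun x y => by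
  rw [map_mul, mul_inv, mul_mul_mul_comm]

theorem Cm_apply (x : Q) : Cm τ x = x⁻¹ * τ x := rfl

theorem ker_Cm : (Cm τ).ker = Fx τ := by
  ext x
  rw [MonoidHom.mem_ker, Cm_apply, inv_mul_eq_one, mem_Fx, eq_comm]

theorem card_range_Cm : Nat.card (Cm τ).range = (Fx τ).index := by rw [← ker_Cm, index_ker]

theorem map_mem_range_Cm {σ : MulAut Q} (h : σ * τ = τ * σ) {x : Q} (hx : x ∈ (Cm τ).range) :
    σ x ∈ (Cm τ).range := by
  obtain ⟨y, rfl⟩ := hx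
  exact ⟨σ y, by rw [Cm_apply, Cm_apply, map_mul, map_inv, ← MulAut.mul_apply, ← h]; rfl⟩

theorem eq_one_of_Cm (hp : p.Prime) (hQ : IsPGroup p Q) {n : ℕ} (hn : τ ^ n = 1) (hpn : ¬ p ∣ n)
    {x : Q} (hx : x ∈ (Cm τ).range) (h : τ x = x) : x = 1 := by
  obtain ⟨y, rfl⟩ := hx
  rw [Cm_apply, fix_of_mem hn h (coprime_orderOf hp hQ hpn _), inv_mul_cancel]

theorem exists_dec [Finite Q] (hp : p.Prime) (hQ : IsPGroup p Q) {n : ℕ} (hn : τ ^ n = 1)
    (hpn : ¬ p ∣ n) (x : Q) : ∃ c ∈ Fx τ, ∃ a ∈ (Cm τ).range, x = c * a := by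
  obtain ⟨⟨c, a⟩, rfl⟩ := (isComplement'_of_card_mul_and_disjoint (H := Fx τ) (K := (Cm τ).range)
    (by rw [card_range_Cm, card_mul_index])
    (disjoint_def.2 fun h1 h2 => eq_one_of_Cm hp hQ hn hpn h2 h1)).2 x
  exact ⟨c, c.2, a, a.2, rfl⟩

variable (τ β) in
/-- Invariant alternating forms. -/
structure Alt : Prop where
  mul : ∀ a b c, β a (b * c) = β a b * β a c
  skew : ∀ a b, β b a = (β a b)⁻¹
  alt : ∀ a, β a a = 1
  inv : ∀ a b, β (τ a) (τ b) = β a b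

namespace Alt

variable (h : Alt τ β)
include h

theorem zpow (a b : Q) (i : ℤ) : β a (b ^ i) = β a b ^ i := map_zpow (MonoidHom.mk' _ (h.mul a)) b i

theorem of_cyc {H : Subgroup Q} (hH : IsCyclic H) {a b : Q} (ha : a ∈ H) (hb : b ∈ H) :
    β a b = 1 := by
  obtain ⟨g, rfl⟩ := (Subgroup.isCyclic_iff_exists_zpowers_eq_top H).1 hH
  obtain ⟨i, rfl⟩ := ha
  obtain ⟨j, rfl⟩ := hb
  rw [h.zpow, h.skew, h.zpow, h.alt, one_zpow, inv_one, one_zpow]

theorem triv (hd : ∀ x, ∃ c ∈ Fx τ, ∃ a ∈ (Cm τ).range, x = c * a) (hF : IsCyclic (Fx τ))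
    (hE : ∀ a ∈ (Cm τ).range, ∀ b ∈ (Cm τ).range, β a b = 1) (x y : Q) : β x y = 1 := by
  have h1 : ∀ c ∈ Fx τ, ∀ a ∈ (Cm τ).range, β c a = 1 := by
    rintro c hc _ ⟨z, rfl⟩
    rw [Cm_apply, h.mul, ← zpow_neg_one, h.zpow, ← h.inv c z, mem_Fx.1 hc, zpow_neg_one,
      inv_mul_cancel]
  obtain ⟨c, hc, a, ha, rfl⟩ := hd x
  obtain ⟨d, hd, b, hb, rfl⟩ := hd y
  rw [h.mul, h.skew d, h.skew b, h.mul, h.mul, h.of_cyc hF hd hc, h1 d hd a ha, h.skew c b,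
    h1 c hc b hb, hE b hb a ha]
  simp

theorem pow_inv (n : ℕ) (a b : Q) : β ((τ ^ n) a) ((τ ^ n) b) = β a b := by
  induction n with
  | zero => rfl
  | succ n ih => rw [pow_succ', MulAut.mul_apply, MulAut.mul_apply, h.inv, ih]

end Alt

theorem exists_alt {P : Type*} [Group P] {ρ : P →* Q} (hρ : Surjective ρ) (hc : ρ.ker ≤ center P)
    {σ : MulAut P} (hσ : ∀ x ∈ ρ.ker, σ x = x) (h : ∀ x, τ (ρ x) = ρ (σ x)) :
    ∃ β : Q → Q → P, Alt τ β ∧ ∀ x y, β (ρ x) (ρ y) = ⁅x, y⁆ := by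
  have h0 : ∀ x y : P, ⁅x, y⁆ ∈ ρ.ker := fun x y => by
    rw [MonoidHom.mem_ker, map_commutatorElement, commutatorElement_eq_one_iff_mul_comm, mul_comm]
  have h1 : ∀ x y z : P, ⁅x, y * z⁆ = ⁅x, y⁆ * ⁅x, z⁆ := fun x y z => by
    have := mem_center_iff.1 (hc (h0 x z)) y⁻¹
    calc ⁅x, y * z⁆ = ⁅x, y⁆ * y * (⁅x, z⁆ * y⁻¹) := by simp only [commutatorElement_def]; group
      _ = _ := by rw [← this]; group
  have h2 : ∀ x y y' : P, ρ y = ρ y' → ⁅x, y⁆ = ⁅x, y'⁆ := fun x y y' e => by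
    have h3 : y⁻¹ * y' ∈ ρ.ker := by rw [MonoidHom.mem_ker, map_mul, map_inv, e, inv_mul_cancel]
    rw [← mul_inv_cancel_left y y', h1, commutatorElement_eq_one_iff_mul_comm.2
      (mem_center_iff.1 (hc h3) x), mul_one]
  have h3 : ∀ x y, ⁅surjInv hρ (ρ x), surjInv hρ (ρ y)⁆ = ⁅x, y⁆ := fun x y => by
    rw [h2 _ _ y (surjInv_eq hρ _), ← commutatorElement_inv, h2 _ _ x (surjInv_eq hρ _),
      commutatorElement_inv]
  refine ⟨fun a b => ⁅surjInv hρ a, surjInv hρ b⁆, ⟨fun a b c => ?_,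
    fun a b => (commutatorElement_inv _ _).symm, fun a => commutatorElement_self _, fun a b => ?_⟩, h3⟩
  · rw [← h1]
    exact h2 _ _ _ (by rw [map_mul, surjInv_eq hρ, surjInv_eq hρ, surjInv_eq hρ])
  · obtain ⟨x, rfl⟩ := hρ a
    obtain ⟨y, rfl⟩ := hρ b
    rw [h, h, h3, h3, ← map_commutatorElement, hσ _ (h0 x y)]

variable [Finite Q] (hQ : IsPGroup 2 Q) (h7 : τ ^ 7 = 1) (h1 : τ ≠ 1) (hi : (Fx τ).index ≤ 16)
include hQ h7 h1 hi

theorem index_eq_eight : (Fx τ).index = 8 := by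
  have := Fact.mk Nat.prime_two
  have h2 := dvd_index_sub_one Nat.prime_two hQ Nat.prime_seven (by norm_num) h7
  have h3 : (Fx τ).index ≠ 1 := fun h => Fx_ne_top h1 (index_eq_one.1 h)
  obtain ⟨n, hn⟩ := hQ.index (Fx τ)
  have : n < 5 := (Nat.pow_lt_pow_iff_right one_lt_two).1 (by omega)
  interval_cases n <;> omega

theorem sev_trans {a b : Q} (ha : a ∈ (Cm τ).range) (ha1 : a ≠ 1) (hb : b ∈ (Cm τ).range)
    (hb1 : b ≠ 1) : ∃ i < 7, (τ ^ i) a = b := by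
  have := Fact.mk Nat.prime_seven
  have h2 : orderOf τ = 7 := orderOf_eq_prime h7 h1
  have h3 : Nat.card (zpowers τ) = 7 := by rw [Nat.card_zpowers, h2]
  have h4 : Sf (zpowers τ).subtype a = ⊥ := by
    have : Fact (Nat.card (zpowers τ)).Prime := ⟨h3 ▸ Nat.prime_seven⟩
    refine (eq_bot_or_eq_top_of_prime_card _).resolve_right fun h => ha1 ?_
    exact eq_one_of_Cm Nat.prime_two hQ h7 (by norm_num) ha
      (mem_Sf.1 (h ▸ mem_top (⟨τ, mem_zpowers τ⟩ : zpowers τ)))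
  have h5 := index_Sf (φ := (zpowers τ).subtype) a
  rw [h4, index_bot, h3] at h5
  have h6 : (Set.range fun σ : zpowers τ => σ.1 a) = ((Cm τ).range : Set Q) \ {1} := by
    refine Set.eq_of_subset_of_ncard_le ?_ (by
      rw [Set.ncard_sdiff_singleton_of_mem (one_mem _), ← Nat.card_coe_set_eq]
      exact (congrArg (· - 1) (card_range_Cm.trans (index_eq_eight hQ h7 h1 hi))).trans_le h5.le)
    rintro _ ⟨⟨_, i, rfl⟩, rfl⟩
    exact ⟨map_mem_range_Cm (Commute.self_zpow τ i).symm ha, by simpa using ha1⟩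
  obtain ⟨⟨σ, hσ⟩, h8⟩ := h6.ge ⟨hb, hb1⟩
  obtain ⟨i, rfl⟩ := mem_powers_iff_mem_zpowers.2 hσ
  exact ⟨i % 7, Nat.mod_lt _ (by norm_num), by rwa [← h2, pow_mod_orderOf]⟩

theorem sev_sq {a : Q} (ha : a ∈ (Cm τ).range) : a * a = 1 := by
  by_cases ha1 : a = 1
  · simp [ha1]
  have := Fact.mk Nat.prime_two
  obtain ⟨b, hb⟩ := exists_prime_orderOf_dvd_card' (G := (Cm τ).range) 2
    (by rw [card_range_Cm, index_eq_eight hQ h7 h1 hi]; norm_num)
  obtain ⟨i, -, rfl⟩ := sev_trans hQ h7 h1 hi b.2 (fun h => by simp [show b = 1 from Subtype.ext h] at hb)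
    ha ha1
  rw [← map_mul, ← coe_mul, ← sq, ← hb, pow_orderOf_eq_one, coe_one, map_one]

theorem Alt.sev (h : Alt τ β) {a b : Q} (ha : a ∈ (Cm τ).range) (hb : b ∈ (Cm τ).range) :
    β a b = 1 := by
  by_cases hb1 : b = 1
  · simpa [hb1] using h.zpow a b 0
  by_cases ha1 : a = 1
  · rw [h.skew, inv_eq_one]
    simpa [ha1] using h.zpow b a 0
  have hτ := map_mem_range_Cm rfl ha
  obtain ⟨j, hj, hj'⟩ := sev_trans hQ h7 h1 hi ha ha1 (mul_mem ha hτ) fun h2 =>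
    ha1 (eq_one_of_Cm Nat.prime_two hQ h7 (by norm_num) ha
      (mul_left_cancel (h2.trans (sev_sq hQ h7 h1 hi ha).symm)))
  obtain ⟨i, hi', rfl⟩ := sev_trans hQ h7 h1 hi ha ha1 hb hb1
  set f : ℕ → R := fun k => β a ((τ ^ k) a) with hf
  have r : ∀ k, f k * f (k + 1) = f (k + j) := fun k => by
    simp only [hf]
    rw [← h.mul, pow_add _ k j, MulAut.mul_apply, hj', map_mul, pow_succ, MulAut.mul_apply]
  have e1 : ∀ k, f (k + 7) = f k := fun k => by simp only [hf]; rw [pow_add, h7, mul_one]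
  have e2 : ∀ k, f k * f k = 1 := fun k => by
    simp only [hf]
    rw [← h.mul, ← map_mul, sev_sq hQ h7 h1 hi ha, map_one]
    simpa using h.zpow a a 0
  have e3 : ∀ k l, k + l = 7 → f l = f k := fun k l hk => by
    rw [eq_inv_of_mul_eq_one_left (e2 k)]
    simp only [hf]
    rw [← h.skew, ← h.pow_inv k, ← MulAut.mul_apply, ← pow_add, hk, h7, MulAut.one_apply]
  have f0 : f 0 = 1 := h.alt a
  have f4 := e3 3 4 rfl
  have f5 := e3 2 5 rfl
  have f6 := e3 1 6 rfl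
  have f7 := (e1 0).trans f0
  have f8 := e1 1
  have f9 := e1 2
  have r0 := r 0
  have r1 := r 1
  have r2 := r 2
  have r3 := r 3
  have s1 := e2 1
  have s3 := e2 3
  show f i = 1
  suffices f 1 = 1 ∧ f 2 = 1 ∧ f 3 = 1 by interval_cases i <;> simp_all
  clear_value f
  clear r e1 e2 e3 hf hj'
  interval_cases j <;> simp_all

end Forms

theorem comm_of_seven {P Q : Type*} [Group P] [CommGroup Q] [Finite Q] {ρ : P →* Q}
    (hρ : Surjective ρ) (hc : ρ.ker ≤ center P) {σ : MulAut P} (hσ : ∀ x ∈ ρ.ker, σ x = x)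
    {τ : MulAut Q} (h : ∀ x, τ (ρ x) = ρ (σ x)) (hQ : IsPGroup 2 Q) (h7 : τ ^ 7 = 1) (h1 : τ ≠ 1)
    (h16 : Nat.card Q ≤ 16) (x y : P) : x * y = y * x := by
  obtain ⟨β, h2, h3⟩ := exists_alt hρ hc hσ h
  have hi := (Nat.le_of_dvd Nat.card_pos (Fx τ).index_dvd_card).trans h16
  rw [← commutatorElement_eq_one_iff_mul_comm, ← h3]
  refine h2.triv (exists_dec Nat.prime_two hQ h7 (by norm_num)) ?_
    (fun a ha b hb => h2.sev hQ h7 h1 hi ha hb) _ _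
  have h4 := (Fx τ).card_mul_index
  rw [index_eq_eight hQ h7 h1 hi] at h4
  have h5 := Nat.card_pos (α := Fx τ)
  refine isCyclic_of_card_dvd_prime (p := 2) ?_
  obtain h | h : Nat.card (Fx τ) = 1 ∨ Nat.card (Fx τ) = 2 := by omega
  all_goals simp [h]

theorem isCyclic_of_le {H : Type*} [Group H] [Finite H] {p : ℕ} (hp : p.Prime) (hH : IsPGroup p H)
    (h : Nat.card H < p * p) : IsCyclic H := by
  have := Fact.mk hp
  obtain ⟨n, hn⟩ := hH.exists_card_eq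
  have : n < 2 := (Nat.pow_lt_pow_iff_right hp.one_lt).1 (by rwa [← hn, sq])
  exact isCyclic_of_card_dvd_prime (p := p) (hn ▸ (pow_dvd_pow p (by omega)).trans (pow_one p).dvd)

theorem comm_of_refl {P Q : Type*} [Group P] [CommGroup Q] [Finite Q] {ρ : P →* Q}
    (hρ : Surjective ρ) (hc : ρ.ker ≤ center P) {σ : MulAut P} (hσ : ∀ x ∈ ρ.ker, σ x = x)
    {τ : MulAut Q} (h : ∀ x, τ (ρ x) = ρ (σ x)) {p n : ℕ} (hp : p.Prime) (hQ : IsPGroup p Q)
    (hn : τ ^ n = 1) (hpn : ¬ p ∣ n) (h1 : τ ≠ 1) (h2 : Fx τ ≠ ⊥) (h9 : Nat.card Q ≤ p * p)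
    (x y : P) : x * y = y * x := by
  obtain ⟨β, h3, h4⟩ := exists_alt hρ hc hσ h
  rw [← commutatorElement_eq_one_iff_mul_comm, ← h4]
  have h5 := (Fx τ).card_mul_index
  have h6 := (one_lt_card_iff_ne_bot _).2 h2
  have h7 := one_lt_index_of_ne_top (Fx_ne_top h1)
  refine h3.triv (exists_dec hp hQ hn hpn) (isCyclic_of_le hp (hQ.to_subgroup _) (by nlinarith))
    (fun a ha b hb => h3.of_cyc (isCyclic_of_le hp (hQ.to_subgroup _) ?_) ha hb) _ _
  rw [card_range_Cm]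
  nlinarith

theorem arith_three {r i k c : ℕ} (hr : r.Prime) (hr7 : r ≠ 7) (hi0 : i ≠ 0) (hi : 2 ^ i ≤ 32)
    (h : r ∣ 2 ^ i - 1) (hk0 : k ≠ 0) (hk : r ^ k ≤ 465) (h2 : r ^ k ≡ c [MOD 7]) (h3 : c ∣ 3)
    (h4 : c ∣ r ^ k) : r ^ k = 3 ∧ c = 3 := by
  have h14 : i < 6 := (Nat.pow_lt_pow_iff_right one_lt_two).1 (by omega)
  have h15 : r = 3 ∨ r = 5 ∨ r = 31 := by
    have h15 : r ∣ 3 * 5 * 7 * 31 := h.trans (by interval_cases i <;> simp_all)
    simp only [hr.dvd_mul, Nat.prime_dvd_prime_iff_eq hr, Nat.prime_three, Nat.prime_five,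
      Nat.prime_seven, (by norm_num : Nat.Prime 31)] at h15
    omega
  have h16 : k < 6 := (Nat.pow_lt_pow_iff_right (by norm_num : 1 < 3)).1
    ((Nat.pow_le_pow_left (by omega) k).trans_lt (by omega : r ^ k < 3 ^ 6))
  rw [Nat.ModEq] at h2
  rcases (Nat.dvd_prime Nat.prime_three).1 h3 with rfl | rfl <;>
    rcases h15 with rfl | rfl | rfl <;> interval_cases k <;> omega

section Seven

variable {A Q : Type*} [Group A] [Finite A] [CommGroup Q] [Finite Q] {φ : A →* MulAut Q}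
  (hQ : IsPGroup 2 Q) (hA : ¬ 2 ∣ Nat.card A) (hφ : Injective φ) {s : A} {u : Q} (h7 : s ^ 7 = 1)
  (h1 : s ≠ 1) (hu : φ s u = u) (hi : (zpowers u).index ≤ 16)

include hQ hA hφ in
theorem free_of_Om (h : Nat.card (Om Q 2) ≤ 4) :
    Nat.card A ∣ 3 ∧ ∀ n ≠ 1, ∀ c, φ n c = c → c = 1 := by
  obtain ⟨χ, h2, h3⟩ := exists_Om_act Nat.prime_two hQ hA hφ
  have h5 := G4 (hQ.to_subgroup _) hA h2 h
  refine ⟨h5, fun n hn1 c h6 => by_contra fun hc1 => ?_⟩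
  have h9 := card_modEq_Fx (σ := φ n) (n := 1) Nat.prime_three (by
    obtain ⟨k, hk⟩ := h5
    rw [← map_pow, pow_one, hk, pow_mul, pow_card_eq_one', one_pow, map_one]) (R := Om Q 2)
    fun x hx => (h3 n ⟨x, hx⟩) ▸ (χ n ⟨x, hx⟩).2
  have h10 : Nat.card (Om Q 2 ⊓ Fx (φ n) : Subgroup Q) ≠ Nat.card (Om Q 2) := fun h10 =>
    hn1 (hφ ((MulEquiv.ext fun x => fix_of_Om Nat.prime_two hQ hA (R := ⊤) (fun _ _ => mem_top _)
      (fun y _ hy => ((eq_of_le_of_card_ge inf_le_left h10.ge).ge hy).2) (mem_top x)).trans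
      (map_one φ).symm))
  have h11 : Om Q 2 ⊓ Fx (φ n) ≠ ⊥ := by
    have := Fact.mk Nat.prime_two
    obtain ⟨d, h12⟩ := exists_prime_orderOf_dvd_card' (G := zpowers c) 2
      (((hQ.to_subgroup _).card_eq_or_dvd).resolve_left (by simpa using hc1))
    rw [← Subgroup.orderOf_coe] at h12
    refine ne_bot_iff_exists_ne_one.2 ⟨⟨d, show (d : Q) ^ 2 = 1 from h12 ▸ pow_orderOf_eq_one _,
      zpowers_le_of_mem (mem_Fx.2 h6) d.2⟩, fun h => ?_⟩
    simp [show (d : Q) = 1 from congrArg Subtype.val h] at h12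
  have h12 := (one_lt_card_iff_ne_bot _).2 h11
  have h13 := card_le_of_le (inf_le_left : Om Q 2 ⊓ Fx (φ n) ≤ _)
  rw [Nat.ModEq] at h9
  omega

include hφ h7 h1 hu hi

omit [Finite A] in
theorem sev_data : φ s ^ 7 = 1 ∧ φ s ≠ 1 ∧ (Fx (φ s)).index ≤ 16 :=
  ⟨by rw [← map_pow, h7, map_one], fun h => h1 (hφ (h.trans (map_one φ).symm)),
    (index_antitone (zpowers_le_of_mem (mem_Fx.2 hu))).trans hi⟩

include hQ

omit [Finite A] in
theorem fix_range {n : A} (hn : s * n = n * s) {a : Q} (ha : a ∈ (Cm (φ s)).range) (ha1 : a ≠ 1)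
    (h : φ n a = a) {b : Q} (hb : b ∈ (Cm (φ s)).range) : φ n b = b := by
  obtain ⟨e1, e2, e3⟩ := sev_data hφ h7 h1 hu hi
  by_cases hb1 : b = 1
  · simp [hb1]
  obtain ⟨i, -, rfl⟩ := sev_trans hQ e1 e2 e3 ha ha1 hb hb1
  rw [← map_pow]
  exact mem_Fx_of_comm ((Commute.pow_left hn i).symm) (mem_Fx.2 h)

include hA

theorem three_of_fix {S : Subgroup A} (hS : ∀ n ∈ S, s * n = n * s)
    (hE : ∀ n ∈ S, ∀ a ∈ (Cm (φ s)).range, φ n a = a) :
    Nat.card S ∣ 3 ∧ ∀ n ∈ S, n ≠ 1 → ∀ c ∈ Fx (φ s), φ n c = c → c = 1 := by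
  obtain ⟨e1, e2, e3⟩ := sev_data hφ h7 h1 hu hi
  have hC := hQ.to_subgroup (Fx (φ s))
  have hA' := not_dvd_sub hA S
  let ψ := Coprime.subAct (φ.comp S.subtype) (Fx (φ s)) fun n x hx => mem_Fx_of_comm (hS n n.2) hx
  have hψ : Injective ψ := (injective_iff_map_eq_one _).2 fun n hn =>
    Subtype.ext (hφ ((MulEquiv.ext fun x => by
      obtain ⟨c, hc, a, ha, rfl⟩ := exists_dec Nat.prime_two hQ e1 (by norm_num) x
      have h2 := congrArg Subtype.val (DFunLike.congr_fun hn ⟨c, hc⟩)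
      rw [map_mul, hE n n.2 a ha, show φ n c = c from h2]
      rfl).trans (map_one φ).symm))
  have h4 : Nat.card (Om (Fx (φ s)) 2) ≤ 4 := by
    refine (card_Om_le Nat.prime_two ⟨u, hu⟩).trans ?_
    have h4 := relIndex_mul_index (zpowers_le_of_mem (mem_Fx.2 hu))
    rw [index_eq_eight hQ e1 e2 e3, relIndex] at h4
    rw [show zpowers (⟨u, hu⟩ : Fx (φ s)) = (zpowers u).subgroupOf _ from Subgroup.ext fun x => by
      rw [← mem_map_iff_mem (Fx (φ s)).subtype_injective, MonoidHom.map_zpowers]; rfl]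
    omega
  obtain ⟨h5, h6⟩ := free_of_Om hC hA' hψ h4
  exact ⟨h5, fun n hn hn1 c hc h => congrArg Subtype.val (h6 ⟨n, hn⟩ (fun h => hn1
    (congrArg Subtype.val h)) ⟨c, hc⟩ (Subtype.ext h))⟩

theorem mem_zpowers_of_seven {n : A} (hn : s * n = n * s) {k : ℕ} (hk : n ^ 7 ^ k = 1) :
    n ∈ zpowers s := by
  obtain ⟨e1, e2, e3⟩ := sev_data hφ h7 h1 hu hi
  obtain ⟨⟨a, ha⟩, ha1⟩ := ne_bot_iff_exists_ne_one.1 (show (Cm (φ s)).range ≠ ⊥ from
    (one_lt_card_iff_ne_bot _).1 (by rw [card_range_Cm, index_eq_eight hQ e1 e2 e3]; norm_num))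
  have ha1 : a ≠ 1 := fun h => ha1 (Subtype.ext h)
  obtain ⟨i, -, h2⟩ := sev_trans hQ e1 e2 e3 ha ha1
    (map_mem_range_Cm (σ := φ n) (by rw [← map_mul, ← hn, map_mul]) ha) (by simpa using ha1)
  have hc : Commute s n := hn
  have h3 : Commute s ((s ^ i)⁻¹ * n) := ((Commute.self_pow s i).inv_right).mul_right hc
  have h4 := (three_of_fix hQ hA hφ h7 h1 hu hi (S := zpowers ((s ^ i)⁻¹ * n))
    (by rintro _ ⟨j, rfl⟩; exact h3.zpow_right j) fun m hm b hb => fix_of_zpowers hm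
      (fix_range hQ hφ h7 h1 hu hi h3 ha ha1 (by simp [← h2]) hb)).1
  rw [Nat.card_zpowers, orderOf_dvd_iff_pow_eq_one] at h4
  have h5 : ((s ^ i)⁻¹ * n) ^ 7 ^ (k + 1) = 1 := by
    rw [((hc.pow_left i).inv_left).mul_pow, inv_pow, ← pow_mul, pow_succ, pow_mul n, hk,
      ← mul_assoc, pow_mul', h7]
    simp
  have h6 := (pow_eq_one_iff_of_coprime (Nat.Coprime.pow_right _ (by norm_num))).1 ⟨h4, h5⟩
  exact inv_mul_eq_one.1 h6 ▸ pow_mem (mem_zpowers s) i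

omit hA in
theorem fix_of_ne_seven {n : A} (hn : s * n = n * s) {r k : ℕ} (hr : r.Prime) (hr7 : r ≠ 7)
    (hk : n ^ r ^ k = 1) {b : Q} (hb : b ∈ (Cm (φ s)).range) : φ n b = b := by
  obtain ⟨e1, e2, e3⟩ := sev_data hφ h7 h1 hu hi
  have h2 := card_modEq_Fx (σ := φ n) (n := k) hr (by rw [← map_pow, hk, map_one])
    (R := (Cm (φ s)).range) fun x hx => map_mem_range_Cm (by rw [← map_mul, ← hn, map_mul]) hx
  obtain ⟨⟨a, ha, h3⟩, ha1⟩ := ne_bot_iff_exists_ne_one.1 (show (Cm (φ s)).range ⊓ Fx (φ n) ≠ ⊥ from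
    fun h => hr7 ((Nat.prime_dvd_prime_iff_eq hr Nat.prime_seven).1 (by
      rw [h, card_bot, card_range_Cm, index_eq_eight hQ e1 e2 e3] at h2
      exact (Nat.modEq_iff_dvd' (by norm_num)).1 h2.symm)))
  exact fix_range hQ hφ h7 h1 hu hi hn ha (fun h => ha1 (Subtype.ext h)) h3 hb

theorem mem_of_seven {N : Subgroup A} [N.Normal] (hN : IsPGroup 7 N) (hN1 : N ≠ ⊥) : s ∈ N := by
  have := Fact.mk Nat.prime_seven
  have h2 := card_modEq_conj (n := 1) Nat.prime_seven (by rwa [pow_one]) N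
  obtain ⟨⟨z, hz, h3⟩, hz1⟩ := ne_bot_iff_exists_ne_one.1 (show N ⊓ Fx (MulAut.conj s) ≠ ⊥ from
    fun h => by
      rw [h, card_bot] at h2
      have := hN.card_eq_or_dvd.resolve_left (by simpa using hN1)
      rw [Nat.ModEq] at h2
      omega)
  obtain ⟨k, hk⟩ := hN ⟨z, hz⟩
  have h4 := mem_zpowers_of_seven hQ hA hφ h7 h1 hu hi (comm_of_Fx h3) (congrArg Subtype.val hk)
  refine zpowers_le_of_mem hz (eq_zpowers ?_ h4 (fun h => hz1 (Subtype.ext h)) ▸ mem_zpowers s)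
  rw [Nat.card_zpowers, orderOf_eq_prime h7 h1]
  norm_num

theorem card_eq_three {N : Subgroup A} [N.Normal] {r : ℕ} (hr : r.Prime) (hr7 : r ≠ 7)
    (hN : IsPGroup r N) (hN1 : N ≠ ⊥) : Nat.card N = 3 ∧ ∀ n ∈ N, s * n = n * s := by
  have := Fact.mk hr
  have h2 := card_modEq_conj (n := 1) Nat.prime_seven (by rwa [pow_one]) N
  have h3 := (three_of_fix hQ hA hφ h7 h1 hu hi (S := N ⊓ Fx (MulAut.conj s))
    (fun n hn => comm_of_Fx hn.2) fun n hn a ha => by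
      obtain ⟨k, hk⟩ := hN ⟨n, hn.1⟩
      exact fix_of_ne_seven hQ hφ h7 h1 hu hi (comm_of_Fx hn.2) hr hr7 (congrArg Subtype.val hk) ha).1
  have h4 := card_dvd_of_le (inf_le_left : N ⊓ Fx (MulAut.conj s) ≤ N)
  have hA' := not_dvd_sub hA N
  obtain ⟨ψ, h5, -⟩ := exists_Om_act (φ := φ.comp N.subtype) Nat.prime_two hQ hA'
    (hφ.comp N.subtype_injective)
  have h6 : Nat.card (Om Q 2) ≤ 32 := (card_Om_le Nat.prime_two u).trans (by omega)
  have h8 := hN.card_eq_or_dvd.resolve_left (by simpa using hN1)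
  obtain ⟨i, h9, h10, h11⟩ := exists_dvd_pow_sub_one Nat.prime_two (hQ.to_subgroup _) h5 hr
    (by rintro rfl; exact hA' h8) h8
  obtain ⟨k, hk⟩ := hN.exists_card_eq
  have h12 : Nat.card N ≤ 465 := by
    have := Finite.one_lt_card_iff_nontrivial.1 ((Nat.one_lt_two_pow h9).trans_le h10)
    obtain ⟨x, hx⟩ := exists_ne (1 : Om Q 2)
    have h12 := card_Sf_of (C := (· ≤ 15)) (n := 16) Nat.prime_two (hQ.to_subgroup _) hA' h5
      (by omega) hx fun χ h2 h3 h4 h5 => G16' h3 h5 h2 h4 (not_dvd_sub (fun h => hr7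
        ((Nat.prime_dvd_prime_iff_eq Nat.prime_seven hr).1
          (Nat.prime_seven.dvd_of_dvd_pow (hk ▸ h))).symm) _)
    have h13 := index_Sf_lt (φ := ψ) hx
    rw [← (Sf ψ x).card_mul_index]
    nlinarith
  have h13 : Nat.card N = 3 ∧ Nat.card (N ⊓ Fx (MulAut.conj s) : Subgroup A) = 3 := by
    rw [hk] at h2 h4 h12 ⊢
    refine arith_three hr hr7 h9 (by omega) h11 (fun h => ?_) h12 h2 h3 h4
    rw [h, pow_zero, card_eq_one] at hk
    exact hN1 hk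
  exact ⟨h13.1, fun n hn => comm_of_Fx ((eq_of_le_of_card_ge inf_le_left
    (h13.1.trans h13.2.symm).le).ge hn).2⟩

theorem prod_eq_one {n : A} (hn : s * n = n * s) (hn3 : n ^ 3 = 1) (hn1 : n ≠ 1) {c : Q}
    (hc : c ∈ Fx (φ s)) : c * φ n c * φ n (φ n c) = 1 := by
  have h2 := mem_Fx_of_comm hn hc
  refine (three_of_fix hQ hA hφ h7 h1 hu hi (S := zpowers n)
    (by rintro _ ⟨j, rfl⟩; exact Commute.zpow_right hn j) fun m hm b hb => fix_of_zpowers hm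
      (fix_of_ne_seven hQ hφ h7 h1 hu hi hn Nat.prime_three (by norm_num) (k := 1) hn3 hb)).2
      n (mem_zpowers n) hn1 _ (mul_mem (mul_mem hc h2) (mem_Fx_of_comm hn h2)) ?_
  have h3 : φ n (φ n (φ n c)) = c := by
    rw [← MulAut.mul_apply, ← MulAut.mul_apply, ← map_mul, ← map_mul, ← pow_three', hn3, map_one,
      MulAut.one_apply]
  rw [map_mul, map_mul, h3, mul_rotate c]

theorem exists_not_seven : ∃ w, (zpowers w).index ≤ 16 ∧ ¬ 7 ∣ Nat.card (Sf φ w) := by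
  obtain ⟨e1, e2, e3⟩ := sev_data hφ h7 h1 hu hi
  obtain ⟨⟨a, ha⟩, ha1⟩ := ne_bot_iff_exists_ne_one.1 (show (Cm (φ s)).range ≠ ⊥ from
    (one_lt_card_iff_ne_bot _).1 (by rw [card_range_Cm, index_eq_eight hQ e1 e2 e3]; norm_num))
  have ha1 : a ≠ 1 := fun h => ha1 (Subtype.ext h)
  have hd := @eq_one_of_Cm _ _ _ _ Nat.prime_two hQ _ e1 (by norm_num)
  have hi' : (zpowers (u * a)).index ≤ 16 := by
    refine le_trans (Nat.le_of_mul_le_mul_left ?_ (Nat.card_pos (α := zpowers u))) hi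
    rw [card_mul_index, ← card_mul_index (zpowers (u * a)), Nat.card_zpowers, Nat.card_zpowers]
    refine Nat.mul_le_mul_right _ (Nat.le_of_dvd (orderOf_pos _) (orderOf_dvd_of_pow_eq_one ?_))
    have h2 := pow_orderOf_eq_one (u * a)
    rw [mul_pow, mul_eq_one_iff_eq_inv] at h2
    exact hd (h2 ▸ inv_mem (pow_mem ha _)) (by rw [map_pow, hu])
  refine ⟨u * a, hi', fun h2 => ?_⟩
  have := Fact.mk Nat.prime_seven
  obtain ⟨⟨t, ht⟩, h3⟩ := exists_prime_orderOf_dvd_card' 7 h2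
  rw [← Subgroup.orderOf_coe] at h3
  have t7 : t ^ 7 = 1 := h3 ▸ pow_orderOf_eq_one t
  have t1 : t ≠ 1 := by rintro rfl; simp at h3
  have := CF.Hyp.isSolvable_of_odd (G := A) (Nat.odd_iff.2 (by omega))
  have : Nontrivial A := ⟨s, 1, h1⟩
  obtain ⟨r, hr, hN1⟩ := CF.Solv.exists_pCore_ne_bot (G := A)
  have := Fact.mk hr
  have hN : IsPGroup r (Cfsg.pCore r A) := CF.Solv.pCore_isPGroup
  by_cases hr7 : r = 7
  · subst hr7
    have := (Subgroup.nontrivial_iff_ne_bot _).2 hN1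
    have := hN.center_nontrivial
    obtain ⟨⟨z, hz⟩, hz1⟩ := exists_ne (1 : center (Cfsg.pCore 7 A))
    obtain ⟨k, hk⟩ := hN z
    have hz1 : (z : A) ≠ 1 := fun h => hz1 (Subtype.ext (Subtype.ext h))
    have h4 := mem_zpowers_of_seven hQ hA hφ h7 h1 hu hi (congrArg Subtype.val (mem_center_iff.1 hz
      ⟨s, mem_of_seven hQ hA hφ h7 h1 hu hi hN hN1⟩)) (congrArg Subtype.val hk)
    have h5 := mem_zpowers_of_seven hQ hA hφ t7 t1 ht hi' (congrArg Subtype.val (mem_center_iff.1 hz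
      ⟨t, mem_of_seven hQ hA hφ t7 t1 ht hi' hN hN1⟩)) (congrArg Subtype.val hk)
    have h6 := fix_of_zpowers (eq_zpowers (by rw [Nat.card_zpowers, orderOf_eq_prime h7 h1]; norm_num)
      h4 hz1 ▸ mem_zpowers s) (fix_of_zpowers h5 (mem_Sf.1 ht))
    rw [map_mul, hu, mul_right_inj] at h6
    exact ha1 (hd ha h6)
  obtain ⟨h4, h5⟩ := card_eq_three hQ hA hφ h7 h1 hu hi hr hr7 hN hN1
  obtain ⟨-, h6⟩ := card_eq_three hQ hA hφ t7 t1 ht hi' hr hr7 hN hN1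
  obtain ⟨⟨n, hn⟩, hn1⟩ := ne_bot_iff_exists_ne_one.1 hN1
  have hn1 : n ≠ 1 := fun h => hn1 (Subtype.ext h)
  have hn3 : n ^ 3 = 1 := h4 ▸ pow_card_of_mem hn
  have h8 := prod_eq_one hQ hA hφ h7 h1 hu hi (h5 n hn) hn3 hn1 (mem_Fx.2 hu)
  have h9 := prod_eq_one hQ hA hφ t7 t1 ht hi' (h6 n hn) hn3 hn1 (mem_Fx.2 (mem_Sf.1 ht))
  have h10 := fix_of_ne_seven hQ hφ h7 h1 hu hi (h5 n hn) Nat.prime_three (by norm_num) (k := 1) hn3 ha
  simp only [map_mul, h10] at h9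
  rw [mul_mul_mul_comm u, mul_mul_mul_comm (u * _), h8, sev_sq hQ e1 e2 e3 ha, one_mul, one_mul] at h9
  exact ha1 h9

end Seven

end CF.BlockK
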