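import Cfsg.Agent.BlockK.K3

/-!
# Almost regular orbits on abelian `3`-groups, and a matrix lemma
-/

namespace CF.BlockK

open Subgroup Function

section Three

variable {A Q : Type*} [Group A] [Finite A] [CommGroup Q] [Finite Q] {φ : A →* MulAut Q}
  (hQ : IsPGroup 3 Q) (hA : ¬ 3 ∣ Nat.card A) (hφ : Injective φ)
include hQ hA hφ

theorem card_Sf_lt_three (h : Nat.card Q ≤ 9) {x : Q} (hx : x ≠ 1) : Nat.card (Sf φ x) < 3 :=
  card_Sf_of (C := (· < 3)) (n := 3) Nat.prime_three hQ hA hφ (by omega) hx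
    fun _ h2 h3 h4 h5 => card_lt_of_prime Nat.prime_three h3 h5 h2 h4

theorem G9 (h : Nat.card Q ≤ 9) : Nat.card A ≤ 16 := by
  by_cases h1 : Nat.card Q ≤ 1
  · exact card_eq_one_of_le_one hφ h1 ▸ by norm_num
  have := Finite.one_lt_card_iff_nontrivial.1 (not_le.1 h1)
  obtain ⟨x, hx⟩ := exists_ne (1 : Q)
  have h2 := card_Sf_lt_three hQ hA hφ h hx
  have h3 := index_Sf_lt (φ := φ) hx
  rw [← (Sf φ x).card_mul_index]
  nlinarith

theorem dvd_of_prime (h : Nat.card Q = 27) {r : ℕ} (hr : r.Prime) (h1 : r ∣ Nat.card A) :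
    r = 2 ∨ r = 13 := by
  obtain ⟨i, h2, h3, h4⟩ := exists_dvd_pow_sub_one Nat.prime_three hQ hφ hr
    (by rintro rfl; exact hA h1) h1
  have h5 : i < 4 := (Nat.pow_lt_pow_iff_right (by norm_num : 1 < 3)).1 (by omega)
  have h6 : r ∣ 2 ^ 3 * 13 := h4.trans (by interval_cases i <;> simp_all)
  exact (hr.dvd_mul.1 h6).imp (fun h => (Nat.prime_dvd_prime_iff_eq hr Nat.prime_two).1
    (hr.dvd_of_dvd_pow h)) (Nat.prime_dvd_prime_iff_eq hr (by norm_num)).1

theorem not_thirteen (h : Nat.card Q = 27) {s : A} (hs : s ≠ 1) (hi : (Fx (φ s)).index ≤ 3) :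
    ¬ 13 ∣ Nat.card A := by
  rintro ⟨k, hk⟩
  have h13 : Nat.Prime 13 := by norm_num
  have := Finite.one_lt_card_iff_nontrivial.1 (show 1 < Nat.card Q by omega)
  have hk' : k ≤ 32 := by
    obtain ⟨x, hx⟩ := exists_ne (1 : Q)
    have h2 := card_Sf_of (C := (· ≤ 16)) (n := 9) Nat.prime_three hQ hA hφ (by omega) hx
      fun _ h2 h3 h4 h5 => G9 h3 h5 h2 h4
    have h3 := index_Sf_lt (φ := φ) hx
    have h4 := (Sf φ x).card_mul_index
    nlinarith
  have hd : ∀ d, d ∣ k → d ∣ Nat.card A := fun d hd => hk ▸ hd.mul_left _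
  have h26 : ¬ 13 ∣ k := fun h1 => by
    obtain ⟨x, hx⟩ := exists_ne (1 : Q)
    have h2 := card_Sf_of (C := fun n => ¬ 13 ∣ n) (n := 9) Nat.prime_three hQ hA hφ (by omega) hx
      fun _ h2 h3 h4 h5 h6 => by
        obtain ⟨i, h7, h8, h9⟩ := exists_dvd_pow_sub_one Nat.prime_three h3 h2 h13 (by norm_num) h6
        have : i < 3 := (Nat.pow_lt_pow_iff_right (by norm_num : 1 < 3)).1 (by omega)
        interval_cases i <;> omega
    have h3 := index_Sf_lt (φ := φ) hx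
    have h4 : 13 * 13 ∣ (Sf φ x).index := (Nat.Coprime.mul_left ((Nat.Prime.coprime_iff_not_dvd h13).2 h2)
      ((Nat.Prime.coprime_iff_not_dvd h13).2 h2)).dvd_of_dvd_mul_left
      (by rw [card_mul_index, hk]; exact Nat.mul_dvd_mul_left _ h1)
    have := Nat.le_of_dvd (Nat.pos_of_ne_zero index_ne_zero_of_finite) h4
    omega
  obtain ⟨T, hT, hT'⟩ := exists_normal_prime h13 hk h26 fun d h1 h2 => by
    have h3 := Nat.le_of_dvd (Nat.pos_of_ne_zero fun h : k = 0 => h26 (h ▸ dvd_zero _)) h1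
    have h4 : ¬ 7 ∣ d := fun h4 => by
      have := dvd_of_prime hQ hA hφ h Nat.prime_seven (h4.trans (hd d h1))
      omega
    have h5 : ¬ 3 ∣ d := fun h4 => hA (h4.trans (hd d h1))
    rw [Nat.ModEq] at h2
    have : d = 1 ∨ d = 14 ∨ d = 27 := by omega
    omega
  have hfree : ∀ t ∈ T, t ≠ 1 → Fx (φ t) = ⊥ := fun t ht ht1 => by
    have h1 := card_modEq_Fx' (σ := φ t) (n := 1) h13 (by
      rw [← map_pow, pow_one, ← hT', pow_card_of_mem ht, map_one])
    have h2 : Nat.card (Fx (φ t)) ≠ Nat.card Q := fun h6 =>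
      Fx_ne_top (fun h8 => ht1 (hφ (h8.trans (map_one φ).symm))) (card_eq_iff_eq_top _ |>.1 h6)
    have h3 := (Fx (φ t)).card_subgroup_dvd_card
    rw [h] at h1 h2 h3
    have := Nat.le_of_dvd (by norm_num) h3
    rw [Nat.ModEq] at h1
    rw [← card_eq_one]
    generalize Nat.card (Fx (φ t)) = c at *
    interval_cases c <;> omega
  obtain ⟨⟨t, ht⟩, ht1⟩ := ne_bot_iff_exists_ne_one.1 ((one_lt_card_iff_ne_bot T).1 (by omega))
  have ht1 : t ≠ 1 := fun h => ht1 (Subtype.ext h)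
  have hW := (Fx (φ s)).card_mul_index
  have h1 : s * t = t * s := by
    by_contra h1
    have h2 := hfree _ (mul_mem (hT.conj_mem t ht s) (inv_mem ht)) fun h2 => h1 (by
      rwa [mul_inv_eq_one, mul_inv_eq_iff_eq_mul] at h2)
    have h3 : Fx (φ s) ⊓ (Fx (φ s)).comap (φ t⁻¹).toMonoidHom ≤ ⊥ := h2 ▸ fun w hw => by
      have h3 : φ s⁻¹ (φ t⁻¹ w) = φ t⁻¹ w := (Sf φ _).inv_mem hw.2
      rw [mem_Fx, map_mul, map_mul, map_mul, MulAut.mul_apply, MulAut.mul_apply, MulAut.mul_apply,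
        h3, map_inv, MulAut.apply_inv_self]
      exact hw.1
    have h4 := index_inf_le (H := Fx (φ s)) (K := (Fx (φ s)).comap (φ t⁻¹).toMonoidHom)
    rw [le_bot_iff.1 h3, index_bot, index_comap_of_surjective _ (φ t⁻¹).surjective] at h4
    nlinarith
  have h2 := card_modEq_Fx (σ := φ t) (n := 1) h13 (by
    rw [← map_pow, pow_one, ← hT', pow_card_of_mem ht, map_one]) (R := Fx (φ s))
    fun x hx => mem_Fx_of_comm h1 hx
  have h3 := one_lt_index_of_ne_top (Fx_ne_top fun h8 => hs (hφ (h8.trans (map_one φ).symm)))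
  rw [hfree t ht ht1, inf_bot_eq, card_bot, Nat.ModEq] at h2
  generalize (Fx (φ s)).index = m at *
  interval_cases m <;> omega

theorem exists_line (h : Nat.card Q = 27) (h13 : ¬ 13 ∣ Nat.card A) :
    ∃ a, a ≠ 1 ∧ ∀ σ, φ σ a = a ∨ φ σ a = a⁻¹ := by
  obtain ⟨a, ha, h1⟩ : ∃ a, a ≠ 1 ∧ ¬ 4 ∣ (Sf φ a).index := by
    by_contra! h1
    have := dvd_sub_one h1
    omega
  have h2 : (Set.range fun σ => φ σ a).ncard ≤ 2 := by
    rw [← index_Sf, Nat.eq_prime_pow_of_unique_prime_dvd (n := (Sf φ a).index) (p := 2)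
      index_ne_zero_of_finite fun hr h2 => (dvd_of_prime hQ hA hφ h hr
        (h2.trans (index_dvd_card _))).resolve_right (by rintro rfl; exact h13 (h2.trans
          (index_dvd_card _)))] at *
    generalize List.length _ = n at *
    rcases n with _ | _ | n
    exacts [by norm_num, by norm_num, absurd ⟨2 ^ n, by ring⟩ h1]
  by_contra! h3
  obtain ⟨σ, h4, h5⟩ := h3 a ha
  have h6 : ({a, φ σ a} : Set Q) = Set.range fun σ => φ σ a := Set.eq_of_subset_of_ncard_le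
    (Set.pair_subset ⟨1, by simp⟩ ⟨σ, rfl⟩) (by rwa [Set.ncard_pair h4.symm])
  obtain ⟨τ, h7, -⟩ := h3 (a * φ σ a) fun h7 => h5 (eq_inv_of_mul_eq_one_right h7)
  have h8 : φ τ a ≠ φ τ (φ σ a) := fun h8 => h4 ((φ τ).injective h8).symm
  have h9 : φ τ (φ σ a) = a ∨ φ τ (φ σ a) = φ σ a := h6.ge ⟨τ * σ, by simp⟩
  have h10 : φ τ a = a ∨ φ τ a = φ σ a := h6.ge ⟨τ, rfl⟩
  rcases h10 with h10 | h10 <;> rcases h9 with h9 | h9
  exacts [h8 (h10.trans h9.symm), h7 (by rw [map_mul, h10, h9]),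
    h7 (by rw [map_mul, h10, h9, mul_comm]), h8 (h10.trans h9.symm)]

theorem exists_lt_three_aux (h : Nat.card Q ≤ 27) (h3 : ∀ x : Q, x ^ 3 = 1) {s : A} (hs : s ≠ 1)
    (hi : (Fx (φ s)).index ≤ 3) : ∃ v, Nat.card (Sf φ v) < 3 := by
  have := Fact.mk Nat.prime_three
  by_cases h1 : Nat.card Q ≤ 1
  · exact ⟨1, (card_le_card_group _).trans_lt (card_eq_one_of_le_one hφ h1 ▸ by norm_num)⟩
  have := Finite.one_lt_card_iff_nontrivial.1 (not_le.1 h1)
  by_cases h9 : Nat.card Q ≤ 9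
  · obtain ⟨x, hx⟩ := exists_ne (1 : Q)
    exact ⟨x, card_Sf_lt_three hQ hA hφ h9 hx⟩
  obtain ⟨n, hn⟩ := hQ.exists_card_eq
  have h27 : Nat.card Q = 27 := by
    have : n < 4 := (Nat.pow_lt_pow_iff_right (by norm_num : 1 < 3)).1 (by omega)
    interval_cases n <;> omega
  obtain ⟨a, ha, h2⟩ := exists_line hQ hA hφ h27 (not_thirteen hQ hA hφ h27 hs hi)
  have h4 : Nat.card (zpowers a) = 3 := by rw [Nat.card_zpowers, orderOf_eq_prime (h3 a) ha]
  obtain ⟨b, hb⟩ : ∃ b, b ∉ zpowers a := by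
    by_contra! h5
    rw [(eq_top_iff' _).2 h5, card_top] at h4
    omega
  obtain ⟨v, hv, h5⟩ : ∃ v ∉ zpowers a, ∀ σ, φ σ v = v → φ σ a = a := by
    by_contra! h5
    obtain ⟨σ, h6, h7⟩ := h5 b hb
    obtain ⟨τ, h8, h10⟩ := h5 (b * a) fun h => hb (by simpa using mul_mem h (inv_mem (mem_zpowers a)))
    replace h7 := (h2 σ).resolve_left h7
    replace h10 := (h2 τ).resolve_left h10
    rw [map_mul, h10, mul_inv_eq_iff_eq_mul] at h8
    have h11 : b⁻¹ * φ (σ * τ) b = a⁻¹ * a⁻¹ := by simp [h8, h6, h7, mul_assoc]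
    have h12 := fix_of_act (φ := φ) Nat.prime_three hQ hA (a := σ * τ) (x := b)
      (by rw [h11]; simp [h10, h7])
    rw [h12, inv_mul_cancel, ← mul_inv, eq_comm, inv_eq_one] at h11
    exact ha (by simpa [pow_three, h11] using h3 a)
  obtain ⟨ψ, hψ⟩ := exists_quot_act Nat.prime_three hQ hA hφ (Sf φ v) (zpowers a ⊔ zpowers v)
    fun σ hσ => sup_le (zpowers_le_of_mem (mem_Fx.2 (h5 σ hσ))) (zpowers_le_of_mem (mem_Fx.2 hσ))
  refine ⟨v, card_lt_of_prime Nat.prime_three (hQ.to_quotient _) (not_dvd_sub hA _) hψ ?_⟩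
  have h6 := card_eq_card_quotient_mul_card_subgroup (zpowers a ⊔ zpowers v)
  have h7 : Nat.card (zpowers a ⊔ zpowers v : Subgroup Q) ≠ 3 := fun h7 => hv
    ((eq_of_le_of_card_ge le_sup_left (h7.trans h4.symm).le).ge (mem_sup_right (mem_zpowers v)))
  have h8 := h4 ▸ card_le_of_le (le_sup_left : zpowers a ≤ zpowers a ⊔ zpowers v)
  by_contra! h10
  have h11 : Nat.card (Q ⧸ (zpowers a ⊔ zpowers v)) < 9 := by
    by_contra!
    nlinarith [lt_of_le_of_ne h8 h7.symm]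
  generalize Nat.card (Q ⧸ (zpowers a ⊔ zpowers v)) = m at *
  interval_cases m <;> omega

theorem exists_lt_three {u x : Q} (hu : (zpowers u).index ≤ 9) {s : A} (hs : s ≠ 1)
    (h1 : φ s u = u) (h2 : φ s x = x) (hx : x ∉ zpowers u) : ∃ v, Nat.card (Sf φ v) < 3 := by
  have := Fact.mk Nat.prime_three
  obtain ⟨ψ, h3, h4⟩ := exists_Om_act Nat.prime_three hQ hA hφ
  have h5 : (Fx (φ s)).index ≤ 3 := by
    have h5 := relIndex_mul_index (zpowers_le_of_mem (mem_Fx.2 h1))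
    have h6 : (zpowers u).relIndex (Fx (φ s)) ≠ 1 := fun h => hx (relIndex_eq_one.1 h h2)
    obtain ⟨i, hi⟩ := (hQ.to_subgroup _).index ((zpowers u).subgroupOf (Fx (φ s)))
    rw [relIndex, hi] at h5 h6
    have : 3 ≤ 3 ^ i := Nat.le_self_pow (by rintro rfl; simp at h6) 3
    nlinarith
  obtain ⟨v, hv⟩ := exists_lt_three_aux (hQ.to_subgroup _) hA h3
    ((card_Om_le Nat.prime_three u).trans (by omega)) (fun x => Subtype.ext x.2) hs (by
      rw [show Fx (ψ s) = (Fx (φ s)).subgroupOf _ from Subgroup.ext fun y => by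
        rw [mem_Fx, mem_subgroupOf, mem_Fx, ← h4, Subtype.coe_inj]]
      exact (Nat.le_of_dvd (Nat.pos_of_ne_zero index_ne_zero_of_finite)
        (relIndex_dvd_index_of_normal _ _)).trans h5)
  exact ⟨v, by rwa [show Sf φ v = Sf ψ v from Subgroup.ext fun a => by
    rw [mem_Sf, mem_Sf, ← h4, Subtype.coe_inj]]⟩

end Three

end CF.BlockK
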