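import Mathlib

/-!
# A matrix lemma: two commuting partitions form a grid
-/

namespace CF.BlockK

open Finset

variable {ι : Type*} [Fintype ι] [DecidableEq ι] {A B R : ι → ι → ℤ} {d : ι → ℤ}

theorem exists_rank_one (hs : ∀ i j, R i j = R j i) (h2 : ∀ i j, ∑ k, R i k * R k j = 16 * R i j)
    (ht : ∑ i, R i i = 16) (hp : ∀ i, 0 < R i i) (hc : 10 < Fintype.card ι) :
    ∃ d : ι → ℤ, ∃ i₀, d i₀ = 1 ∧ ∀ i j, R i j = d i * d j := by
  obtain ⟨i₀, h0⟩ : ∃ i, R i i = 1 := by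
    by_contra! h
    have := card_nsmul_le_sum univ (fun i => R i i) 2 fun i _ => by have := hp i; have := h i; omega
    rw [ht, card_univ, nsmul_eq_mul] at this
    omega
  have h3 : ∀ j, ∑ k, (R j k - R i₀ j * R i₀ k) ^ 2 = 16 * R j j - 16 * (R i₀ j * R j i₀) := fun j => by
    rw [sum_congr rfl fun k _ => show (R j k - R i₀ j * R i₀ k) ^ 2 = R j k * R k j -
      2 * R i₀ j * (R j k * R k i₀) + R i₀ j ^ 2 * (R i₀ k * R k i₀) by
        rw [hs k j, hs k i₀]; ring, sum_add_distrib, sum_sub_distrib, ← mul_sum, ← mul_sum, h2, h2, h2,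
      h0, hs j i₀]
    ring
  have h4 : ∑ j, ∑ k, (R j k - R i₀ j * R i₀ k) ^ 2 = 0 := by
    simp only [h3, sum_sub_distrib, ← mul_sum, h2, ht, h0]
    norm_num
  refine ⟨R i₀, i₀, h0, fun i j => sub_eq_zero.1 (pow_eq_zero_iff two_ne_zero |>.1 ?_)⟩
  exact (sum_eq_zero_iff_of_nonneg fun _ _ => sq_nonneg _).1 ((sum_eq_zero_iff_of_nonneg
    fun _ _ => sum_nonneg fun _ _ => sq_nonneg _).1 h4 i (mem_univ _)) j (mem_univ _)

theorem sign_of_grid (hs : ∀ i j, A i j = A j i) (h2 : ∀ i, ∑ k, A i k * A k i = 4 * A i i)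
    (hd : ∀ i, ∑ k, A i k * d k = 4 * d i) (ht : ∑ i, d i * d i = 16) (hp : ∀ i, 0 < d i * d i)
    (h1 : ∀ i, d i * d i < 4 * A i i) (h4 : ∀ i, A i i < 4) (hc : 10 < Fintype.card ι) (i : ι) :
    d i * d i = 1 := by
  by_contra hi
  have h5 : ∀ j, 4 ≤ d j * d j ∨ d j = 1 ∨ d j = -1 := fun j => by
    have := hp j
    rcases le_or_gt 2 (d j) with h | h
    · left; nlinarith
    rcases le_or_gt (d j) (-2) with h' | h'
    · left; nlinarith
    have : d j ≠ 0 := by rintro h; simp [h] at this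
    omega
  have h6 : ∀ j, d i * d i + (Fintype.card ι - 2) + (if j = i then 1 else d j * d j) ≤ 16 := fun j => by
    have h6 : ∑ k, ((if k = i then d i * d i - 1 else 0) + (if k = j ∧ j ≠ i then d j * d j - 1 else 0)
        + 1) ≤ ∑ k, d k * d k := sum_le_sum fun k _ => by
      have := hp k
      split_ifs with h1 h2 h2
      · exact absurd (h2.1.symm.trans h1) h2.2
      · rw [h1]; omega
      · rw [h2.1]; omega
      · omega
    simp only [sum_add_distrib, sum_ite_eq', mem_univ, if_true, sum_const, card_univ, ht] at h6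
    by_cases hj : j = i <;> simp [hj] at h6 ⊢ <;> omega
  have hi4 : 4 ≤ d i * d i := by rcases h5 i with h | h | h <;> simp_all
  have h7 : ∀ j ≠ i, d j = 1 ∨ d j = -1 := fun j hj => (h5 j).resolve_left fun h => by
    have := h6 j
    rw [if_neg hj] at this
    omega
  have h8 : d i = 2 ∨ d i = -2 := by
    have := h6 i
    rw [if_pos rfl] at this
    have h9 : d i < 3 := by nlinarith
    have h10 : -3 < d i := by nlinarith
    interval_cases d i <;> omega
  have h9 : ∀ k, Even (A k i) := fun k => by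
    have h9 : Even (∑ m, (A k m * A m k - A k m * d m)) := by
      rw [sum_sub_distrib, h2, hd]
      exact ⟨2 * A k k - 2 * d k, by ring⟩
    rw [← add_sum_erase _ _ (mem_univ i), Int.even_add] at h9
    have h10 := h9.2 (even_sum _ fun m hm => by
      rw [hs m k]
      rcases h7 m (mem_erase.1 hm).1 with h | h <;> rw [h]
      · simpa [mul_sub] using Int.even_mul_pred_self (A k m)
      · simpa [mul_add] using Int.even_mul_succ_self (A k m))
    rw [hs i k] at h10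
    rcases h8 with h | h <;> rw [h] at h10 <;> simp [parity_simps] at h10 <;> exact h10
  have h10 : A i i = 2 := by
    obtain ⟨c, hc⟩ := h9 i
    have := h1 i
    have := h4 i
    omega
  have h11 : 0 ≤ ∑ m ∈ univ.erase i, (A i m * A m i - d i * (A i m * d m)) := sum_nonneg fun m hm => by
    obtain ⟨c, hc⟩ := h9 m
    rw [hs i m, hc]
    rcases h7 m (mem_erase.1 hm).1 with h | h <;> rcases h8 with h' | h' <;> rw [h, h'] <;>
      nlinarith [Int.le_self_sq c, Int.le_self_sq (-c)]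
  rw [sum_erase_eq_sub (mem_univ i), sum_sub_distrib, ← mul_sum, h2, hd, h10] at h11
  rcases h8 with h | h <;> rw [h] at h11 <;> omega

theorem zero_one (hs : ∀ i j, A i j = A j i) (h2 : ∀ i, ∑ k, A i k * A k i = 4 * A i i)
    (hd : ∀ i, ∑ k, A i k * d k = 4 * d i) (ht : ∑ i, A i i = 16) (hc : Fintype.card ι = 16)
    (h1 : ∀ i, d i * d i = 1) (h4 : ∀ i, d i * d i < 4 * A i i) :
    (∀ i, A i i = 1) ∧ ∀ i j, A i j = 0 ∨ A i j = d i * d j := by
  have h5 : ∀ i, A i i = 1 := fun i => by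
    refine sub_eq_zero.1 ((sum_eq_zero_iff_of_nonneg (f := fun i => A i i - 1) fun i _ => ?_).1
      (by simp [ht, hc]) i (mem_univ _))
    have := h1 i
    have := h4 i
    omega
  refine ⟨h5, fun i j => ?_⟩
  have h6 : ∀ k, A i k * A k i - d i * (A i k * d k) =
      (A i k * (d i * d k)) ^ 2 - A i k * (d i * d k) := fun k => by
    rw [hs k i]
    linear_combination (-A i k ^ 2 * d k ^ 2) * h1 i - A i k ^ 2 * h1 k
  have h7 := (sum_eq_zero_iff_of_nonneg (s := univ) (f := fun k => A i k * A k i - d i * (A i k * d k))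
    fun k _ => (h6 k).symm ▸ sub_nonneg.2 (Int.le_self_sq _)).1
    (by rw [sum_sub_distrib, ← mul_sum, h2, hd, h5]; linear_combination -4 * h1 i) j (mem_univ _)
  rw [hs j i] at h7
  exact (mul_eq_zero.1 (show A i j * (A i j - d i * d j) = 0 by linear_combination h7)).imp_right
    sub_eq_zero.1

theorem exists_grid (hA : ∀ i j, A i j = A j i) (hB : ∀ i j, B i j = B j i)
    (hA2 : ∀ i j, ∑ k, A i k * A k j = 4 * A i j) (hB2 : ∀ i j, ∑ k, B i k * B k j = 4 * B i j)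
    (hAB : ∀ i j, ∑ k, A i k * B k j = d i * d j) (hc : Fintype.card ι = 16)
    (h1 : ∀ i, d i * d i = 1) (hA1 : ∀ i, A i i = 1) (hB1 : ∀ i, B i i = 1)
    (hA0 : ∀ i j, A i j = 0 ∨ A i j = d i * d j) (hB0 : ∀ i j, B i j = 0 ∨ B i j = d i * d j) :
    ∃ g : Fin 4 × Fin 4 ≃ ι, ∀ x y, A (g x) (g y) = (if x.1 = y.1 then d (g x) * d (g y) else 0) ∧
      B (g x) (g y) = if x.2 = y.2 then d (g x) * d (g y) else 0 := by
  have hd : ∀ i, d i ≠ 0 := fun i h => by simpa [h] using h1 i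
  have key : ∀ {A B : ι → ι → ℤ}, (∀ i j, A i j = 0 ∨ A i j = d i * d j) →
      (∀ i j, B i j = 0 ∨ B i j = d i * d j) → ∀ i j, ∑ k, A i k * B k j =
        (univ.filter fun k => A i k ≠ 0 ∧ B k j ≠ 0).card * (d i * d j) := fun {A B} hA hB i j => by
    rw [card_filter]
    push_cast
    rw [sum_mul]
    refine sum_congr rfl fun k _ => ?_
    rcases hA i k with h | h <;> rcases hB k j with h' | h' <;> simp [h, h', hd]
    linear_combination (d i * d j) * h1 k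
  have tr : ∀ {A : ι → ι → ℤ}, (∀ i j, ∑ k, A i k * A k j = 4 * A i j) →
      (∀ i j, A i j = 0 ∨ A i j = d i * d j) → ∀ {i j k}, A i j ≠ 0 → A j k ≠ 0 → A i k ≠ 0 :=
    fun {A} h2 h0 i j k e1 e2 e3 => by
      have := key h0 h0 i k
      rw [h2, e3, mul_zero, eq_comm, mul_eq_zero, mul_eq_zero] at this
      simp only [hd, or_false, Nat.cast_eq_zero, card_eq_zero, filter_eq_empty_iff] at this
      exact this (mem_univ j) ⟨e1, e2⟩
  have cl : ∀ {A : ι → ι → ℤ}, (∀ i j, A i j = A j i) → (∀ i j, ∑ k, A i k * A k j = 4 * A i j) →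
      (∀ i, A i i = 1) → (∀ i j, A i j = 0 ∨ A i j = d i * d j) → ∀ i,
      Nonempty (Fin 4 ≃ {k // A i k ≠ 0}) := fun {A} hs h2 h3 h0 i => by
    have := key h0 h0 i i
    rw [h2, h3, h1, mul_one, mul_one] at this
    simp only [hs _ i, and_self] at this
    exact ⟨(Fintype.equivFinOfCardEq (by rw [Fintype.card_subtype]; exact_mod_cast this.symm)).symm⟩
  have un : ∀ i j, ∃! k, A i k ≠ 0 ∧ B k j ≠ 0 := fun i j => by
    have := key hA0 hB0 i j
    rw [hAB, eq_comm, mul_eq_right₀ (mul_ne_zero (hd i) (hd j)), Nat.cast_eq_one, card_eq_one] at this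
    obtain ⟨k, hk⟩ := this
    simp only [Finset.ext_iff, mem_filter, mem_univ, true_and, mem_singleton] at hk
    exact ⟨k, (hk k).2 rfl, fun m hm => (hk m).1 hm⟩
  obtain ⟨i₀⟩ : Nonempty ι := Fintype.card_pos_iff.1 (by omega)
  obtain ⟨r⟩ := cl hA hA2 hA1 hA0 i₀
  obtain ⟨c⟩ := cl hB hB2 hB1 hB0 i₀
  choose g hg _ using fun x : Fin 4 × Fin 4 => un (c x.1) (r x.2)
  have ha : ∀ x y, A (g x) (g y) ≠ 0 ↔ x.1 = y.1 := fun x y =>
    ⟨fun h => c.injective (Subtype.ext ((un (c x.1) i₀).unique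
      ⟨by simp [hA1], hB _ _ ▸ (c x.1).2⟩ ⟨tr hA2 hA0 (tr hA2 hA0 (hg x).1 h) (hA _ _ ▸ (hg y).1),
        hB _ _ ▸ (c y.1).2⟩)), fun h => tr hA2 hA0 (hA _ _ ▸ (hg x).1) (h ▸ (hg y).1)⟩
  have hb : ∀ x y, B (g x) (g y) ≠ 0 ↔ x.2 = y.2 := fun x y =>
    ⟨fun h => r.injective (Subtype.ext ((un i₀ (r y.2)).unique
      ⟨(r x.2).2, tr hB2 hB0 (hB _ _ ▸ (hg x).2) (tr hB2 hB0 h (hg y).2)⟩ ⟨(r y.2).2, by simp [hB1]⟩)),
      fun h => tr hB2 hB0 (hg x).2 (hB _ _ ▸ h ▸ (hg y).2)⟩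
  refine ⟨Equiv.ofBijective g ((Fintype.bijective_iff_injective_and_card g).2 ⟨fun x y h =>
    Prod.ext ((ha x y).1 (by simp [h, hA1])) ((hb x y).1 (by simp [h, hB1])), by simp [hc]⟩),
    fun x y => ⟨?_, ?_⟩⟩ <;> simp only [Equiv.ofBijective_apply] <;> split_ifs with h
  exacts [(hA0 _ _).resolve_left ((ha x y).2 h), by_contra fun h1 => h ((ha x y).1 h1),
    (hB0 _ _).resolve_left ((hb x y).2 h), by_contra fun h1 => h ((hb x y).1 h1)]

theorem grid (hA : ∀ i j, A i j = A j i) (hB : ∀ i j, B i j = B j i) (hR : ∀ i j, R i j = R j i)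
    (hA2 : ∀ i j, ∑ k, A i k * A k j = 4 * A i j) (hB2 : ∀ i j, ∑ k, B i k * B k j = 4 * B i j)
    (hAB : ∀ i j, ∑ k, A i k * B k j = R i j) (hAR : ∀ i j, ∑ k, A i k * R k j = 4 * R i j)
    (hBR : ∀ i j, ∑ k, B i k * R k j = 4 * R i j) (hR2 : ∀ i j, ∑ k, R i k * R k j = 16 * R i j)
    (tA : ∑ i, A i i = 16) (tB : ∑ i, B i i = 16) (tR : ∑ i, R i i = 16) (hp : ∀ i, 0 < R i i)
    (h1 : ∀ i, R i i < 4 * A i i) (h2 : ∀ i, R i i < 4 * B i i) (h4 : ∀ i, A i i < 4)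
    (hc : 10 < Fintype.card ι) : ∃ (d : ι → ℤ) (g : Fin 4 × Fin 4 ≃ ι), (∀ i, d i * d i = 1) ∧
      (∀ i j, R i j = d i * d j) ∧
      ∀ x y, A (g x) (g y) = (if x.1 = y.1 then d (g x) * d (g y) else 0) ∧
        B (g x) (g y) = if x.2 = y.2 then d (g x) * d (g y) else 0 := by
  obtain ⟨d, i₀, h0, h⟩ := exists_rank_one hR hR2 tR hp hc
  simp only [h] at *
  have hA' : ∀ i, ∑ k, A i k * d k = 4 * d i := fun i => by simpa [h0] using hAR i i₀
  have hB' : ∀ i, ∑ k, B i k * d k = 4 * d i := fun i => by simpa [h0] using hBR i i₀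
  have h5 := sign_of_grid hA (fun i => hA2 i i) hA' tR hp h1 h4 hc
  have h6 : Fintype.card ι = 16 := by
    simp only [h5, sum_const, card_univ, nsmul_eq_mul, mul_one] at tR
    exact_mod_cast tR
  obtain ⟨h7, h8⟩ := zero_one hA (fun i => hA2 i i) hA' tA h6 h5 h1
  obtain ⟨h9, h10⟩ := zero_one hB (fun i => hB2 i i) hB' tB h6 h5 h2
  obtain ⟨g, hg⟩ := exists_grid hA hB hA2 hB2 hAB h6 h5 h7 h9 h8 h10
  exact ⟨d, g, h5, fun _ _ => rfl, hg⟩

/-- The second difference of a function on the grid. -/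
def dd (x : Fin 4 × Fin 4 → ℤ) (a : Fin 4 × Fin 4) : ℤ :=
  x a - x (a.1 + 1, a.2) - x (a.1, a.2 + 1) + x (a.1 + 1, a.2 + 1)

theorem four_le_dd {x : Fin 4 × Fin 4 → ℤ} {a : Fin 4 × Fin 4}
    (h : 16 * x a - 4 * ∑ j, x (a.1, j) - 4 * ∑ i, x (i, a.2) + ∑ b, x b ≠ 0) :
    4 ≤ ∑ b, dd x b ^ 2 := by
  obtain ⟨⟨i, j⟩, hb⟩ : ∃ b, dd x b ≠ 0 := by
    by_contra! h1
    simp only [Prod.forall, Fin.forall_fin_succ, dd, IsEmpty.forall_iff, and_true] at h1
    obtain ⟨a, b⟩ := a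
    refine h ?_
    simp only [Fintype.sum_prod_type, Fin.sum_univ_four]
    fin_cases a <;> fin_cases b <;> simp at h1 ⊢ <;> omega
  have h1 : ∀ i, ∑ j, dd x (i, j) = 0 := fun i => by simp [dd, Fin.sum_univ_four]; ring
  have h2 : ∑ i, dd x (i, j) = 0 := by simp [dd, Fin.sum_univ_four]; ring
  have h3 : ∀ i, dd x (i, j) ≠ 0 → 2 ≤ ∑ j, dd x (i, j) ^ 2 := fun i hi => by
    obtain ⟨c, hc⟩ : Even (∑ j, (dd x (i, j) ^ 2 - dd x (i, j))) := even_sum _ fun m _ => by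
      simpa [mul_sub, sq] using Int.even_mul_pred_self (dd x (i, m))
    rw [sum_sub_distrib, h1] at hc
    have := (sq_pos_of_ne_zero hi).trans_le
      (single_le_sum (f := fun j => dd x (i, j) ^ 2) (fun _ _ => sq_nonneg _) (mem_univ j))
    omega
  obtain ⟨i', hi', h4⟩ : ∃ i' ≠ i, dd x (i', j) ≠ 0 := by
    by_contra! h4
    exact hb ((sum_eq_single i (fun b _ h => h4 b h) (by simp)).symm.trans h2)
  rw [Fintype.sum_prod_type]
  refine le_trans ?_ (sum_le_sum_of_subset_of_nonneg (subset_univ {i', i})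
    fun _ _ _ => sum_nonneg fun _ _ => sq_nonneg _)
  rw [sum_pair hi']
  linarith [h3 i hb, h3 i' h4]

end CF.BlockK
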