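import Cfsg.Agent.BlockK.K3
import Cfsg.Agent.BlockK.K6

/-!
# Blocks with defect group of order sixteen and inertial index nine
-/

namespace CF.BlockK

open Cfsg MonoidAlgebra Subgroup CF.Block CF.BlockB Finset
open scoped ComplexConjugate IsMulCommutative

universe u

variable {p : ℕ} {M : Ideal AlgInt} {G : Type u} [Group G] [Fintype G] {B : Set (IrrCharacter G)}
  {P : Subgroup G} {e : (k M)[G]}

variable (p P e) in
/-- The `*`-construction with an integral valued function. -/
noncomputable def Ts (η : P → ℤ) (χ : G → ℂ) : G → ℂ :=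
  bst p P e (extendByZero P fun u => (η u : ℂ)) χ

variable (p P e) in
/-- Integral valued stable virtual characters. -/
structure Gd (η : P → ℤ) : Prop where
  st : FStable p P e (extendByZero P fun u => (η u : ℂ))
  gen : IsGeneralizedCharacter P fun u => (η u : ℂ)

theorem Gd.mul {η η' : P → ℤ} (h : Gd p P e η) (h' : Gd p P e η') : Gd p P e (η * η') :=
  ⟨fStable_extendByZero fun u w huw => by
    have h1 := h.st _ _ huw
    have h2 := h'.st _ _ huw
    simp only [Char.extendByZero_coe] at h1 h2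
    simp [h1, h2], by simpa [Pi.mul_def] using Char.gen_mul h.gen h'.gen⟩

section

variable [Fintype P] (hM : IsPModular p M) (hB : IsPBlock M B) (he : MaxPair p ⊤ (eb M B) P e)
  {η η' : P → ℤ} {θ ψ : G → ℂ}
include hM he

theorem Gd.inner (h : Gd p P e η) (hθ : IsClassFunction G θ) (hψ : IsClassFunction G ψ) :
    classInner (Ts p P e η θ) ψ = ∑ u : P, η u / fcard p P e u * cm p (sbl p P e u) u θ ψ := by
  simp only [Ts, inner_bst hM he.bpair.pair h.st hθ hψ, Char.extendByZero_coe]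

theorem Gd.inner_two (h : Gd p P e η) (h' : Gd p P e η') (hθ : IsClassFunction G θ)
    (hψ : IsClassFunction G ψ) : classInner (Ts p P e η θ) (Ts p P e η' ψ) =
      classInner (Ts p P e (η * η') θ) ψ := by
  rw [(h.mul h').inner hM he hθ hψ]
  simp [Ts, inner_bst_bst hM he.bpair.pair h.st h'.st hθ hψ, Char.extendByZero_coe]

theorem Gd.symm (h : Gd p P e η) (hθ : IsClassFunction G θ) (hψ : IsClassFunction G ψ) :
    classInner (Ts p P e η θ) ψ = classInner θ (Ts p P e η ψ) := by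
  rw [← Char.inner_conj_symm _ θ, h.inner hM he hθ hψ, h.inner hM he hψ hθ, map_sum]
  refine sum_congr rfl fun u _ => ?_
  rw [map_mul, conj_cm hM (nrm_eSet_le_one hM (sbl_spec hM he.bpair.pair u.2).1)]
  simp

omit [Fintype P] in
theorem Gd.exists_mat (h : Gd p P e η) : ∃ A : B → B → ℤ, ∀ i j,
    classInner (Ts p P e η (i.1 : G → ℂ)) (j.1 : G → ℂ) = A i j := by
  choose A hA using fun i j : B => Char.inner_gen_eq_int (gen_bst hM he h.st
    (gen_extendByZero h.gen) (Char.gen_of_irr i.1.2)) (Char.gen_of_irr j.1.2)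
  exact ⟨A, hA⟩

variable {A A' A'' : B → B → ℤ}
  (hA : ∀ i j, classInner (Ts p P e η (i.1 : G → ℂ)) (j.1 : G → ℂ) = A i j)
include hA

theorem Gd.mat_symm (h : Gd p P e η) (i j : B) : A i j = A j i := by
  refine Int.cast_injective (α := ℂ) ?_
  rw [← hA, h.symm hM he (Char.irr_isClassFunction i.1.2) (Char.irr_isClassFunction j.1.2),
    ← Char.inner_conj_symm, hA, map_intCast]

include hB

theorem Gd.mat_mul [Fintype B] (h : Gd p P e η) (h' : Gd p P e η')
    (hA' : ∀ i j, classInner (Ts p P e η' (i.1 : G → ℂ)) (j.1 : G → ℂ) = A' i j) {η'' : P → ℤ}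
    (h'' : Gd p P e η'')
    (hA'' : ∀ i j, classInner (Ts p P e η'' (i.1 : G → ℂ)) (j.1 : G → ℂ) = A'' i j) {c : ℤ}
    (hc : ∀ u, η u * η' u = c * η'' u) (i j : B) : ∑ k, A i k * A' k j = c * A'' i j := by
  classical
  have hi := Char.irr_isClassFunction i.1.2
  have hj := Char.irr_isClassFunction j.1.2
  have h1 := (inSpan_bst hM hB he.bpair h.st hi).inner_eq_sum (Ts p P e η' (j.1 : G → ℂ))
  rw [sum_subtype (p := (· ∈ B)) _ (by simp)] at h1
  refine Int.cast_injective (α := ℂ) ?_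
  push_cast
  simp only [← hA, ← hA', ← hA'', fun k : B => h'.symm hM he (Char.irr_isClassFunction k.1.2) hj]
  refine h1.symm.trans ((h.inner_two hM he h' hi hj).trans ?_)
  rw [(h.mul h').inner hM he hi hj, h''.inner hM he hi hj, mul_sum]
  exact sum_congr rfl fun u _ => by rw [Pi.mul_apply, hc]; push_cast; ring

theorem Gd.mat_trace [Fintype B] (h : Gd p P e η) : ((∑ i, A i i : ℤ) : ℂ) =
    ∑ u : P, η u * ((blockRank p (sbl p P e u) : ℂ) / fcard p P e u) := by
  classical
  have h1 := sum_inner_bst hM hB he.bpair h.st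
  rw [sum_subtype (p := (· ∈ B)) _ (by simp)] at h1
  push_cast
  simp only [← hA]
  refine h1.trans (sum_congr rfl fun u _ => ?_)
  rw [Char.extendByZero_coe]
  ring

omit hA in
theorem cm_pos (hab : P ≤ centralizer (P : Set G)) (f : P → ℤ) (h0 : ∀ u, 0 ≤ f u) {w : P}
    (hw : f w ≠ 0) (i : B) {n : ℤ} (hn : (n : ℂ) =
      ∑ u : P, f u / fcard p P e u * cm p (sbl p P e u) u (i.1 : G → ℂ) (i.1 : G → ℂ)) : 0 < n := by
  have h1 := fun u : P => nrm_eSet_le_one hM (sbl_spec hM he.bpair.pair u.2).1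
  rw [sum_congr rfl fun u _ => by rw [cm_self_eq_norm hM (h1 u)]] at hn
  have h2 : (n : ℝ) = ∑ u : P, f u / fcard p P e u *
      ‖cm p (sbl p P e u) u (i.1 : G → ℂ) (i.1 : G → ℂ)‖ := by exact_mod_cast hn
  refine Int.cast_pos (R := ℝ) |>.1 (h2 ▸ sum_pos' (fun u _ => by have := h0 u; positivity)
    ⟨w, mem_univ _, mul_pos (div_pos (by exact_mod_cast (h0 w).lt_of_ne hw.symm) (Nat.cast_pos.2
      (Nat.pos_of_ne_zero (fcard_ne_zero hM he.bpair.pair w.2)))) (norm_pos_iff.2 fun h => ?_)⟩)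
  exact regProj_sbl_ne_zero_of_le hM hB he i.2 w.2 (le_Cen_of_comm hab w.2)
    ((cm_self_eq_zero_iff hM (h1 w) _ _).1 h)

end

theorem fConj_iff' (hM : IsPModular p M) {f : (k M)[G]} (he : MaxPair p ⊤ f P e)
    (hab : P ≤ centralizer (P : Set G)) {u w : P} :
    FConj p P e u w ↔ ∃ σ ∈ FE P e, σ u = w := by
  rw [fConj_iff_of_comm hM he hab u.2]
  constructor
  · rintro ⟨t, ht, h1⟩
    obtain ⟨σ, hσ, h2⟩ := exists_autE stab_le_normalizer ht
    exact ⟨σ, hσ, Subtype.ext ((h2 u).trans h1)⟩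
  · rintro ⟨σ, ⟨t, ht, h1⟩, rfl⟩
    exact ⟨t, ht, (h1 u).symm⟩

theorem fcard_eq_index (hM : IsPModular p M) {f : (k M)[G]} (he : MaxPair p ⊤ f P e)
    (hab : P ≤ centralizer (P : Set G)) (u : P) :
    fcard p P e u = (Sf (FE P e).subtype u).index := by
  rw [index_Sf, fcard, ← Nat.card_coe_set_eq]
  exact Nat.card_congr (Equiv.subtypeEquivRight fun w => (fConj_iff' hM he hab).trans
    ⟨fun ⟨σ, h1, h2⟩ => ⟨⟨σ, h1⟩, h2⟩, fun ⟨σ, h⟩ => ⟨σ, σ.2, h⟩⟩)

/-- Four times the characteristic function of the complement. -/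
noncomputable def co {Q : Type*} [Group Q] (V : Subgroup Q) : Q → ℤ := fun u =>
  @ite _ (u ∈ V) (Classical.propDecidable _) 0 4

theorem gen_co {Q : Type*} [Group Q] [Finite Q] (V : Subgroup Q) [V.Normal] (h : V.index = 4) :
    IsGeneralizedCharacter Q fun u => (co V u : ℂ) := by
  have := Fintype.ofFinite Q
  convert Char.gen_sub (Char.gen_const_int 4) (Char.gen_indFun V Char.gen_const_one) using 1
  ext u
  by_cases hu : u ∈ V
  · have := Char.indFun_apply_of_normal V (fun _ => 1) ⟨u, hu⟩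
    simp only [sum_const, card_univ, nsmul_eq_mul, mul_one, ← Nat.card_eq_fintype_card,
      ← Char.index_eq_div_complex, h] at this
    simp [co, hu, this]
  · simp [co, hu, Char.indFun_eq_zero_of_normal V _ hu]

/-- An integral combination of the characters in a block. -/
noncomputable def th [Fintype B] (x : B → ℤ) : G → ℂ := ∑ i, (x i : ℂ) • (i.1 : G → ℂ)

theorem inSpan_th [Fintype B] (x : B → ℤ) : InSpan B (th x) :=
  inSpan_sum _ fun i _ => (inSpan_irr i.2).smul _

theorem inner_th_left [Fintype B] (x : B → ℤ) (ψ : G → ℂ) :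
    classInner (th x) ψ = ∑ i, x i * classInner (i.1 : G → ℂ) ψ := by
  simp [th, Char.inner_sum_left, Char.inner_smul_left]

theorem inner_th_irr [Fintype B] (x : B → ℤ) (j : B) : classInner (th x) (j.1 : G → ℂ) = x j := by
  classical
  simp [inner_th_left, Char.inner_irr', Subtype.coe_inj]

theorem inner_th_th [Fintype B] (x y : B → ℤ) : classInner (th x) (th y) = (∑ i, x i * y i : ℤ) := by
  rw [inner_th_left]
  simp [← Char.inner_conj_symm (th y), inner_th_irr]

theorem eq_of_inSpan {θ ψ : G → ℂ} (h1 : InSpan B θ) (h2 : InSpan B ψ)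
    (h : ∀ j : B, classInner θ (j.1 : G → ℂ) = classInner ψ (j.1 : G → ℂ)) : θ = ψ :=
  Char.classFun_ext h1.classFun h2.classFun fun χ hχ => by
    by_cases h3 : (⟨χ, hχ⟩ : IrrCharacter G) ∈ B
    · exact h ⟨_, h3⟩
    · exact (h1.inner_eq_zero h3).trans (h2.inner_eq_zero h3).symm

/-- The signs of a square in the grid. -/
def sg (a b : Fin 4 × Fin 4) : ℤ := dd (fun c => if b = c then 1 else 0) a

theorem sum_sg (x : Fin 4 × Fin 4 → ℤ) (a : Fin 4 × Fin 4) : ∑ b, x b * sg a b = dd x a := by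
  simp [sg, dd, mul_add, mul_sub, sum_add_distrib]

theorem sg_facts : ∀ a, dd (sg a) a = 4 ∧ (∀ i, ∑ j, sg a (i, j) = 0) ∧
    (∀ j, ∑ i, sg a (i, j) = 0) ∧ ∑ b, sg a b = 0 := by decide +kernel

theorem Nine.sum {A Q : Type*} [Group A] [CommGroup Q] [Fintype Q] {φ : A →* MulAut Q}
    {V W : Subgroup Q} (h : Nine φ V W) (H : Q → ℂ) {a b c : ℂ} (h1 : ∀ u ∈ V, u ∉ W → H u = a)
    (h2 : ∀ u ∉ V, u ∈ W → H u = b) (h3 : ∀ u ∉ V, u ∉ W → H u = c) :
    ∑ u, H u = H 1 + 3 * a + 3 * b + 9 * c := by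
  classical
  have h4 : ∀ V : Subgroup Q, Nat.card V = 4 → ∑ u, (if u ∈ V then (1 : ℂ) else 0) = 4 := fun V h2 => by
    rw [sum_boole, ← Fintype.card_subtype, ← Nat.card_eq_fintype_card, h2]
    norm_num
  rw [sum_congr rfl fun u _ => show H u = c + (a - c) * (if u ∈ V then 1 else 0) +
    (b - c) * (if u ∈ W then 1 else 0) + if u = 1 then H 1 - a - b + c else 0 by
      by_cases h5 : u ∈ V <;> by_cases h6 : u ∈ W
      · simp [h.disj u h5 h6]; ring
      · simp [h5, h6, h1 u h5 h6, show u ≠ 1 from fun h => h6 (h ▸ one_mem _)]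
      · simp [h5, h6, h2 u h5 h6, show u ≠ 1 from fun h => h5 (h ▸ one_mem _)]
      · simp [h5, h6, h3 u h5 h6, show u ≠ 1 from fun h => h5 (h ▸ one_mem _)]]
  simp only [sum_add_distrib, ← mul_sum, h4 V h.cardV, h4 W h.cardW, sum_ite_eq', mem_univ, if_true,
    sum_const, card_univ, ← Nat.card_eq_fintype_card, h.cardQ, nsmul_eq_mul]
  ring

section Nine

variable [IsMulCommutative P] (hM : IsPModular 2 M) (hB : IsPBlock M B)
  (he : MaxPair 2 ⊤ (eb M B) P e) {V W : Subgroup P} (h : Nine (FE P e).subtype V W)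

omit [Fintype G] in
theorem le_cent : P ≤ centralizer (P : Set G) := fun x hx y hy =>
  congrArg Subtype.val (mul_comm (⟨y, hy⟩ : P) ⟨x, hx⟩)

include hM he

theorem gd_co {V : Subgroup P} (h1 : V.index = 4)
    (h2 : ∀ a x, (FE P e).subtype a x ∈ V ↔ x ∈ V) : Gd 2 P e (co V) :=
  ⟨fStable_extendByZero fun u w huw => by
    obtain ⟨σ, hσ, rfl⟩ := (fConj_iff' hM he le_cent).1 huw
    rw [co, co, propext (show σ u ∈ V ↔ u ∈ V from h2 ⟨σ, hσ⟩ u)], gen_co V h1⟩

include h

theorem Nine.gV : Gd 2 P e (co V) := gd_co hM he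
  (by have := V.card_mul_index; rw [h.cardV, h.cardQ] at this; omega) h.invV

theorem Nine.gW : Gd 2 P e (co W) := gd_co hM he
  (by have := W.card_mul_index; rw [h.cardW, h.cardQ] at this; omega) h.invW

include hB

theorem Nine.ratio {u : P} {n : ℕ} (hn : Nat.card (Sf (FE P e).subtype u) = n) (h3 : n ≤ 3) :
    (blockRank 2 (sbl 2 P e u) : ℂ) / fcard 2 P e u = n * n / 9 := by
  have h1 := (Sf (FE P e).subtype u).card_mul_index
  have h2 := rank_sbl_of_le_three hM hB he le_cent (u := u) (by rwa [card_St_eq, hn])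
  rw [card_St_eq, hn] at h2
  rw [h.cardA, ← fcard_eq_index hM he le_cent, hn] at h1
  have h4 : (n : ℂ) * fcard 2 P e u = 9 := by exact_mod_cast h1
  have h5 : (fcard 2 P e u : ℂ) ≠ 0 := fun h => by simp [h] at h4
  rw [h2, div_eq_div_iff h5 (by norm_num), ← h4]
  ring

theorem Nine.trace [Fintype P] (η : P → ℤ) {a b c : ℤ} (h1 : ∀ u ∈ V, u ∉ W → η u = a)
    (h2 : ∀ u ∉ V, u ∈ W → η u = b) (h3 : ∀ u ∉ V, u ∉ W → η u = c) :
    ∑ u : P, η u * ((blockRank 2 (sbl 2 P e u) : ℂ) / fcard 2 P e u) =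
      η 1 * blockRank 2 B + 3 * a + 3 * b + c := by
  have hf1 : fcard 2 P e (1 : P) = 1 := by
    rw [fcard_eq_index hM he le_cent, index_eq_one, eq_top_iff]
    exact fun a _ => map_one _
  rw [h.sum _ (a := a) (b := b) (c := c / 9) (fun u h4 h5 => by
      rw [h1 u h4 h5, h.ratio hM hB he (h.stV u h4 fun h => h5 (h ▸ one_mem _)) le_rfl]; norm_num)
    (fun u h4 h5 => by
      rw [h2 u h4 h5, h.ratio hM hB he (h.stW u h5 fun h => h4 (h ▸ one_mem _)) le_rfl]; norm_num)
    (fun u h4 h5 => by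
      rw [h3 u h4 h5, h.ratio hM hB he (h.st0 u h4 h5) (by norm_num)]; ring),
    hf1, OneMemClass.coe_one, blockRank_sbl_one hM hB he.bpair]
  ring

theorem Nine.grid [Fintype P] [Fintype B] [DecidableEq B] (hl : ¬ blockRank 2 B ≤ 3)
    {A C R : B → B → ℤ}
    (hA : ∀ i j, classInner (Ts 2 P e (co V) (i.1 : G → ℂ)) (j.1 : G → ℂ) = A i j)
    (hC : ∀ i j, classInner (Ts 2 P e (co W) (i.1 : G → ℂ)) (j.1 : G → ℂ) = C i j)
    (hR : ∀ i j, classInner (Ts 2 P e (co V * co W) (i.1 : G → ℂ)) (j.1 : G → ℂ) = R i j) :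
    ∃ (d : B → ℤ) (g : Fin 4 × Fin 4 ≃ B), (∀ i, d i * d i = 1) ∧ (∀ i j, R i j = d i * d j) ∧
      ∀ x y, A (g x) (g y) = (if x.1 = y.1 then d (g x) * d (g y) else 0) ∧
        C (g x) (g y) = if x.2 = y.2 then d (g x) * d (g y) else 0 := by
  have gV := h.gV hM he
  have gW := h.gW hM he
  have gR := gV.mul gW
  have hk : Nat.card B = blockRank 2 B + 7 := by
    have h1 := h.trace hM hB he 1 (fun _ _ _ => rfl) (fun _ _ _ => rfl) fun _ _ _ => rfl
    simp only [Pi.one_apply, Int.cast_one, one_mul, ← card_eq_sum_rank hM hB he] at h1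
    exact_mod_cast (show (Nat.card B : ℂ) = blockRank 2 B + 7 by rw [h1]; ring)
  have hpos := fun f h0 w hw i n => @cm_pos _ _ _ _ _ _ _ _ _ hM hB he le_cent f h0 w hw i n
  have hcl := fun i : B => Char.irr_isClassFunction i.1.2
  obtain ⟨⟨v, hv⟩, hv1⟩ := ne_bot_iff_exists_ne_one.1 ((one_lt_card_iff_ne_bot V).1
    (by rw [h.cardV]; norm_num))
  obtain ⟨⟨w, hw⟩, hw1⟩ := ne_bot_iff_exists_ne_one.1 ((one_lt_card_iff_ne_bot W).1
    (by rw [h.cardW]; norm_num))
  have hvW : v ∉ W := fun h1 => hv1 (Subtype.ext (h.disj v hv h1))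
  have hwV : w ∉ V := fun h1 => hw1 (Subtype.ext (h.disj w h1 hw))
  refine BlockK.grid (gV.mat_symm hM he hA) (gW.mat_symm hM he hC) (gR.mat_symm hM he hR)
    (gV.mat_mul hM hB he hA gV hA gV hA fun u => by simp only [co]; split_ifs <;> rfl)
    (gW.mat_mul hM hB he hC gW hC gW hC fun u => by simp only [co]; split_ifs <;> rfl)
    (fun i j => (gV.mat_mul hM hB he hA gW hC gR hR (fun u => (one_mul _).symm) i j).trans (one_mul _))
    (gV.mat_mul hM hB he hA gR hR gR hR fun u => by simp only [co, Pi.mul_apply]; split_ifs <;> rfl)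
    (gW.mat_mul hM hB he hC gR hR gR hR fun u => by simp only [co, Pi.mul_apply]; split_ifs <;> rfl)
    (gR.mat_mul hM hB he hR gR hR gR hR fun u => by simp only [co, Pi.mul_apply]; split_ifs <;> rfl)
    (Int.cast_injective (α := ℂ) ?_) (Int.cast_injective (α := ℂ) ?_) (Int.cast_injective (α := ℂ) ?_)
    (fun i => hpos (co V * co W) (fun u => by simp only [co, Pi.mul_apply]; split_ifs <;> norm_num)
      (v * w) (by simp [co, V.mul_mem_cancel_left hv, W.mul_mem_cancel_right hw, hvW, hwV]) i _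
      (by rw [← hR, gR.inner hM he (hcl i) (hcl i)]))
    (fun i => sub_pos.1 (hpos (4 * co V - co V * co W)
      (fun u => by simp only [co, Pi.mul_apply, Pi.sub_apply, Pi.ofNat_apply]; split_ifs <;> norm_num)
      w (by simp [co, hw, hwV]) i _ ?_))
    (fun i => sub_pos.1 (hpos (4 * co W - co V * co W)
      (fun u => by simp only [co, Pi.mul_apply, Pi.sub_apply, Pi.ofNat_apply]; split_ifs <;> norm_num)
      v (by simp [co, hv, hvW]) i _ ?_))
    (fun i => sub_pos.1 (hpos (4 - co V)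
      (fun u => by simp only [co, Pi.sub_apply, Pi.ofNat_apply]; split_ifs <;> norm_num)
      1 (by simp [co]) i _ ?_))
    (by rw [← Nat.card_eq_fintype_card]; omega)
  · rw [gV.mat_trace hM hB he hA, h.trace hM hB he _ (a := 0) (b := 4) (c := 4)] <;>
      simp +contextual [co]
    norm_num
  · rw [gW.mat_trace hM hB he hC, h.trace hM hB he _ (a := 4) (b := 0) (c := 4)] <;>
      simp +contextual [co]
    norm_num
  · rw [gR.mat_trace hM hB he hR, h.trace hM hB he _ (a := 0) (b := 0) (c := 16)] <;>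
      simp +contextual [co]
  · push_cast
    rw [← hR, ← hA, gR.inner hM he (hcl i) (hcl i), gV.inner hM he (hcl i) (hcl i), mul_sum,
      ← sum_sub_distrib]
    exact sum_congr rfl fun u _ => by simp; ring
  · push_cast
    rw [← hR, ← hC, gR.inner hM he (hcl i) (hcl i), gW.inner hM he (hcl i) (hcl i), mul_sum,
      ← sum_sub_distrib]
    exact sum_congr rfl fun u _ => by simp; ring
  · have h1 := sum_cm_div_fcard hM hB he (inSpan_irr i.2) (hcl i)
    rw [Char.inner_irr_self i.1.2] at h1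
    push_cast
    rw [← hA, gV.inner hM he (hcl i) (hcl i), ← mul_one (4 : ℂ), ← h1, mul_sum, ← sum_sub_distrib]
    exact sum_congr rfl fun u _ => by simp; ring

theorem Nine.inner_reg [Fintype P] {θ ψ : G → ℂ} (hθ : InSpan B θ) (hψ : IsClassFunction G ψ) :
    16 * classInner (pRegularPart 2 θ) ψ = 16 * classInner θ ψ - 4 * classInner θ (Ts 2 P e (co V) ψ)
      - 4 * classInner θ (Ts 2 P e (co W) ψ) + classInner θ (Ts 2 P e (co V * co W) ψ) := by
  classical
  have gV := h.gV hM he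
  have gW := h.gW hM he
  have gR := gV.mul gW
  have h2 := inner_sub_reg hM hB he hθ hψ
  have h3 : 16 * ∑ u ∈ univ.erase (1 : P), cm 2 (sbl 2 P e u) u θ ψ / fcard 2 P e u =
      4 * classInner θ (Ts 2 P e (co V) ψ) + 4 * classInner θ (Ts 2 P e (co W) ψ) -
        classInner θ (Ts 2 P e (co V * co W) ψ) := by
    rw [← gV.symm hM he hθ.classFun hψ, ← gW.symm hM he hθ.classFun hψ,
      ← gR.symm hM he hθ.classFun hψ, gV.inner hM he hθ.classFun hψ, gW.inner hM he hθ.classFun hψ,
      gR.inner hM he hθ.classFun hψ, mul_sum, mul_sum, mul_sum, ← sum_add_distrib,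
      ← sum_sub_distrib, ← add_sum_erase _ _ (mem_univ (1 : P))]
    refine Eq.trans (sum_congr rfl fun u hu => ?_) (right_eq_add.2 (by simp [co]))
    by_cases h5 : u ∈ V <;> by_cases h6 : u ∈ W
    · exact absurd (h.disj u h5 h6) (mem_erase.1 hu).1
    all_goals simp [co, h5, h6]; ring
  linear_combination -16 * h2 - h3

theorem Nine.frame : blockRank 2 B ≤ 3 ∨ Frame 2 B := by
  classical
  have := Fintype.ofFinite P
  have := Fintype.ofFinite B
  have gV := h.gV hM he
  have gW := h.gW hM he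
  have gR := gV.mul gW
  obtain ⟨A, hA⟩ := gV.exists_mat (B := B) hM he
  obtain ⟨C, hC⟩ := gW.exists_mat (B := B) hM he
  obtain ⟨R, hR⟩ := gR.exists_mat (B := B) hM he
  refine or_iff_not_imp_left.2 fun hl => ?_
  have hcl := fun i : B => Char.irr_isClassFunction i.1.2
  obtain ⟨d, g, hd, hR', hg⟩ := h.grid hM hB he hl hA hC hR
  have key : ∀ (x : Fin 4 × Fin 4 → ℤ) (a : Fin 4 × Fin 4), 16 * classInner (pRegularPart 2
      (th fun i => d i * x (g.symm i))) ((g a).1 : G → ℂ) = d (g a) *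
      (16 * x a - 4 * ∑ j, x (a.1, j) - 4 * ∑ i, x (i, a.2) + ∑ b, x b : ℤ) := fun x a => by
    have h3 : ∀ {η} {A : B → B → ℤ}, Gd 2 P e η → (∀ i j : B, classInner (Ts 2 P e η (i.1 : G → ℂ)) (j.1 : G → ℂ)
        = (A i j : ℤ)) → classInner (th fun i => d i * x (g.symm i)) (Ts 2 P e η ((g a).1 : G → ℂ)) =
          (∑ b, d (g b) * x b * A (g b) (g a) : ℤ) := fun {η A} h3 h4 => by
      rw [inner_th_left, ← g.sum_comp]
      simp [← h3.symm hM he (hcl _) (hcl _), h4]
    have h4 : ∀ b, d (g b) * x b * (d (g b) * d (g a)) = d (g a) * x b := fun b => by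
      linear_combination (x b * d (g a)) * hd (g b)
    rw [h.inner_reg hM hB he (inSpan_th _) (hcl _), h3 gV hA, h3 gW hC, h3 gR hR, inner_th_irr,
      g.symm_apply_apply]
    have h5 : ∀ i : Fin 4, ∑ j, (if i = a.1 then d (g a) * x (i, j) else 0) =
        if i = a.1 then ∑ j, d (g a) * x (i, j) else 0 := fun i => by split_ifs <;> simp
    simp only [hg, hR', mul_ite, mul_zero, h4, Fintype.sum_prod_type, h5, sum_ite_eq', mem_univ,
      if_true, ← mul_sum]
    push_cast
    ring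
  have hb := nrm_eSet_le_one hM hB
  have hpv : ∀ a, PV 2 (th fun i => d i * sg a (g.symm i)) := fun a => by
    refine eq_of_inSpan ((inSpan_th fun i => d i * sg a (g.symm i)).reg hM hb) (inSpan_th _)
      (fun j => ?_) ▸ pv_reg _
    obtain ⟨b, rfl⟩ := g.surjective j
    have := key (sg a) b
    rw [(sg_facts a).2.1, (sg_facts a).2.2.1, (sg_facts a).2.2.2] at this
    rw [inner_th_irr, g.symm_apply_apply]
    push_cast at this ⊢
    linear_combination this / 16
  have hin : ∀ x a, classInner (th fun i => d i * x (g.symm i)) (th fun i => d i * sg a (g.symm i)) =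
      dd x a := fun x a => by
    rw [inner_th_th, ← g.sum_comp, ← sum_sg]
    refine congrArg _ (sum_congr rfl fun b _ => ?_)
    simp only [g.symm_apply_apply]
    linear_combination (x b * sg a b) * hd (g b)
  refine ⟨Fin 4 × Fin 4, inferInstance, fun a => th fun i => d i * sg a (g.symm i), 4, by norm_num,
    fun a => ⟨Char.gen_sum _ fun i _ => Char.gen_intCast_smul (Char.gen_of_irr i.1.2) _, hpv a,
      inSpan_th _⟩, fun φ hφ h0 c hc => ?_, ?_⟩
  · obtain ⟨θ, h1, h2, rfl⟩ := mem_lat_iff.1 hφ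
    choose y hy using fun i : B => Char.inner_gen_eq_int h1 (Char.gen_of_irr i.1.2)
    obtain rfl : θ = th fun i => d i * (fun b => d (g b) * y (g b)) (g.symm i) :=
      eq_of_inSpan h2 (inSpan_th _) fun j => by
        rw [inner_th_irr, hy]
        simp only [g.apply_symm_apply, ← mul_assoc, hd, one_mul]
    obtain rfl : c = dd fun b => d (g b) * y (g b) := funext fun a => Int.cast_injective (α := ℂ) (by
      rw [← hc, (hpv a).inner_reg_left]
      exact hin (fun b => d (g b) * y (g b)) a)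
    by_contra h3
    refine h0 (eq_of_inSpan (h2.reg hM hb) (by simpa using h2.smul 0) fun j => ?_)
    obtain ⟨b, rfl⟩ := g.surjective j
    have := key (fun b => d (g b) * y (g b)) b
    rw [by_contra fun h4 => h3 (four_le_dd (a := b) h4)] at this
    simpa [Char.inner_zero_left] using this
  · have := charP_k hM
    have h1 := card_defectGroup hM hB ((isDefectGroup_iff hM hB _).2 he.isDefGrp)
    rw [h.cardQ] at h1
    have h2 : (2 : ℂ) ^ blockDefect 2 B = 16 := by exact_mod_cast h1.symm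
    simp only [hin, (sg_facts _).1]
    simp [h2]
    norm_num

end Nine

end CF.BlockK
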