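import Cfsg.Agent.BlockK.K7
import Cfsg.Agent.BlockK.K4
import Cfsg.Agent.Fus.Trf
import Cfsg.Agent.Fus.Small
import Cfsg.Agent.S0112
import Cfsg.Agent.S0113

/-!
# Blocks with nonabelian defect groups of order at most sixteen
-/

namespace CF.BlockK

open Cfsg MonoidAlgebra Subgroup CF.Block CF.BlockB CF.Invol

universe u

section Trf

open CF.Fus CF.Fgs2 MulAction

/-- transfer evaluated at a central element -/
theorem exists_trf_central {Ω A : Type*} [Group Ω] [CommGroup A] {S : Subgroup Ω}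
    {F : FusionSystem S} (hF : Sat F 2) {χ : Ω → A} (hχ : MulOn χ S) {c : Ω} (hc : c ∈ S)
    (hz : ∀ s ∈ S, s * c = c * s) (h1 : ∀ f, Mor F S f → χ (f c) = χ c)
    (h2 : ∀ m : ℕ, 2 ∣ m → ∀ y, F.IsConjElt (c ^ m) y → χ y = 1) :
    ∃ τ : Ω → A, MulOn τ S ∧ (∀ x ∈ F.focalSubgroup, τ x = 1) ∧ τ c = χ c := by
  classical
  have := hF.fin
  obtain ⟨G, _, _, ι, H, π, hP, hidx⟩ := hF.exists_park
  have := Fintype.ofFinite (G ⧸ H)
  refine ⟨hP.trf hχ, hP.trf_mul hχ, fun _ => hP.trf_focal hχ, ?_⟩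
  have hW := hP.mul.isPGroup_img hF.pg
  obtain ⟨k, hk⟩ := hW.exists_orderOf_eq_pow ⟨ι c, mem_img_of_mem hc⟩
  rw [Subgroup.orderOf_mk] at hk
  have hE : ∀ m : ℕ, 2 ∣ m → ∀ (x : G) (hx : x⁻¹ * ι c ^ m * x ∈ H),
      hP.phi hχ ⟨_, hx⟩ = 1 := fun m hm x hx => by
    simp only [← hP.mul.map_pow hc] at hx ⊢
    exact h2 m hm _ (hP.conjElt (pow_mem hc m) hx)
  have hsq : χ c ^ 2 = 1 := by
    rw [← hχ.map_pow hc]
    exact h2 2 dvd_rfl _ ((mor_id F le_rfl).conjElt (pow_mem hc 2))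
  rw [Park.trf, ← tr_univ_eq_transfer, tr_eq_prod_fixed _ (fun _ _ => Finset.mem_univ _)
    fun m hm hm1 => hE m (by
      obtain ⟨j, -, rfl⟩ := (Nat.dvd_prime_pow Nat.prime_two).1 (hk ▸ hm)
      exact dvd_pow_self 2 (by rintro rfl; simp at hm1))]
  set X := Finset.univ.filter fun q : G ⧸ H => ι c • q = q
  set Y := Finset.univ.filter fun q : G ⧸ H => ∀ l ∈ img ι S, l • q = q
  set a := coc (hP.phi hχ) (ι c)
  have hYX : Y ⊆ X := Finset.monotone_filter_right _ fun q _ h => h _ (mem_img_of_mem hc)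
  have h3 : ∏ q ∈ X, a q = ∏ q ∈ Y, a q := by
    rw [← Finset.prod_fiberwise_of_maps_to (fun q hq => Finset.mem_image_of_mem a hq),
      ← Finset.prod_fiberwise_of_maps_to (fun q hq => Finset.mem_image_of_mem a (hYX hq))]
    refine Finset.prod_congr rfl fun v hv => ?_
    rw [Finset.prod_congr rfl fun q hq => (Finset.mem_filter.1 hq).2, Finset.prod_const,
      Finset.prod_congr rfl fun q hq => (Finset.mem_filter.1 hq).2, Finset.prod_const]
    have h3 := card_modEq_fixed hW (X.filter fun q => a q = v) fun l hl q hq => by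
      obtain ⟨n, hn, rfl⟩ := hP.mul.mem_img.1 hl
      obtain ⟨x, rfl⟩ := QuotientGroup.mk_surjective q
      simp only [X, a, Finset.mem_filter, Finset.mem_univ, true_and] at hq ⊢
      have a1 := Fgs2.smul_mk_eq_iff.1 hq.1
      have a2 : (ι n * x)⁻¹ * ι c * (ι n * x) = x⁻¹ * ι c * x := by
        rw [mul_assoc, ← mul_assoc (ι c), ← hP.mul hc hn, ← hz n hn, hP.mul hn hc]
        group
      rw [coc_of_fixed _ a1] at hq
      change ι c • ((ι n * x : G) : G ⧸ H) = (ι n * x : G) ∧ coc _ _ ((ι n * x : G) : G ⧸ H) = v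
      refine ⟨Fgs2.smul_mk_eq_iff.2 (a2 ▸ a1), ?_⟩
      rw [coc_of_fixed _ (a2 ▸ a1), ← hq.2]; congr 2
    refine (pow_eq_pow_of_modEq h3 ?_).trans (congrArg _ (congrArg _ ?_))
    · obtain ⟨q, hq, rfl⟩ := Finset.mem_image.1 hv
      obtain ⟨x, rfl⟩ := QuotientGroup.mk_surjective q
      have a1 := Fgs2.smul_mk_eq_iff.1 (Finset.mem_filter.1 hq).2
      rw [show a x = _ from coc_of_fixed _ a1, ← map_pow, ← hE 2 dvd_rfl x (by
        simpa [pow_two, mul_assoc] using mul_mem a1 a1)]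
      congr 1
      ext
      simp [pow_two, mul_assoc]
    · ext q
      simp only [X, Y, Finset.mem_filter, Finset.mem_univ, true_and]
      exact ⟨fun h => ⟨h.2, h.1.2⟩, fun h => ⟨⟨h.1 _ (mem_img_of_mem hc), h.2⟩, h.1⟩⟩
  have h4 := card_modEq_fixed hW (Finset.univ : Finset (G ⧸ H)) fun _ _ _ _ => Finset.mem_univ _
  rw [Finset.card_univ, ← Nat.card_eq_fintype_card] at h4
  rw [h3, Finset.prod_congr rfl (g := fun _ => χ c) fun q hq => ?_, Finset.prod_const,
    ← pow_eq_pow_of_modEq h4 hsq]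
  · exact (pow_eq_pow_of_modEq (show _ ≡ 1 [MOD 2] by
      rw [Nat.ModEq]; unfold index at hidx; omega) hsq).trans (pow_one _)
  · obtain ⟨x, rfl⟩ := QuotientGroup.mk_surjective q
    have a0 := fun n hn => Fgs2.smul_mk_eq_iff.1 ((Finset.mem_filter.1 hq).2 _
      (mem_img_of_mem (f := ι) (x := n) hn))
    exact (coc_of_fixed _ (a0 c hc)).trans (h1 _ (hP.gen x le_rfl a0))

end Trf

theorem isComm_of {G : Type*} [Group G] {P : Subgroup G} (h : P ≤ centralizer (P : Set G)) :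
    IsMulCommutative P := ⟨⟨fun x y => Subtype.ext (mem_centralizer_iff.1 (h y.2) x x.2)⟩⟩

open scoped IsMulCommutative in
theorem Dm.comm_of_seven {M : Ideal AlgInt} {G K : Type u} [Group G] [Finite G] [Group K] [Fintype K]
    {B : Set (IrrCharacter G)} {P : Subgroup G} {e : (k M)[G]} {u : P} {Q : Subgroup K}
    {ρ : P →* Q} {b : Set (IrrCharacter K)} {f : (k M)[K]} (h : Dm 2 B P e u ρ b f)
    (hc : P ≤ Cen (u : G)) (hab : Q ≤ centralizer (Q : Set K)) (h16 : Nat.card Q ≤ 16)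
    (h7 : 7 ∣ Nat.card (FE Q f)) : P ≤ centralizer (P : Set G) := by
  have := isComm_of hab
  have := Fact.mk (by norm_num : Nat.Prime 7)
  obtain ⟨τ, hτ⟩ := exists_prime_orderOf_dvd_card' 7 h7
  obtain ⟨σ, -, h1, h2⟩ := h.up τ τ.2
  refine fun x hx => mem_centralizer_iff.2 fun y hy => congrArg Subtype.val
    (BlockK.comm_of_seven h.surj (h.ker.le.trans (zpowers_le_of_mem (mem_center_iff.2 fun g =>
      Subtype.ext (mem_Cen.1 (hc g.2))))) (fun z hz => ?_) h2 h.max.bpair.pair.isP ?_ ?_ h16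
      ⟨y, hy⟩ ⟨x, hx⟩)
  · obtain ⟨i, rfl⟩ := h.ker.le hz
    rw [map_zpow, h1]
  · rw [← Subgroup.coe_pow, ← hτ, pow_orderOf_eq_one, OneMemClass.coe_one]
  · rw [Ne, OneMemClass.coe_eq_one]
    rintro rfl
    simp at hτ

/-- A nonabelian group of order sixteen and exponent four with centre of order four. -/
structure Sx {G : Type*} [Group G] (P : Subgroup G) (t c : G) : Prop where
  card : Nat.card P = 16
  tP : t ∈ P
  cP : c ∈ P
  t1 : t ≠ 1
  c1 : c ≠ 1
  ct : c ≠ t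
  tt : t * t = 1
  tc : P ≤ Cen t
  cc : P ≤ Cen c
  cen : ∀ z ∈ P, P ≤ Cen z → z = 1 ∨ z = t ∨ z = c ∨ z = c * t
  comm : ∀ x ∈ P, ∀ y ∈ P, x * y = y * x ∨ x * y = y * x * t
  na : ∃ x ∈ P, ∃ y ∈ P, x * y ≠ y * x
  four : ∀ x ∈ P, x * x * (x * x) = 1

namespace Sx

variable {M : Ideal AlgInt} {G : Type u} [Group G] {B : Set (IrrCharacter G)}
  {P : Subgroup G} {e : (k M)[G]} {t c x y : G} (h : Sx P t c)
include h

theorem tx (hx : x ∈ P) : x * t = t * x := mem_Cen.1 (h.tc hx)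

theorem cx (hx : x ∈ P) : x * c = c * x := mem_Cen.1 (h.cc hx)

theorem sq_cen (hx : x ∈ P) : P ≤ Cen (x * x) := fun y hy => mem_Cen.2 (by
  rcases h.comm y hy x hx with h1 | h1
  · rw [← mul_assoc, h1, mul_assoc, h1, mul_assoc]
  · rw [← mul_assoc, h1, mul_assoc, ← h.tx hx, mul_assoc x y, ← mul_assoc y, h1, mul_assoc _ t,
      h.tt, mul_one, mul_assoc])

theorem c_sq : c * c = 1 ∨ c * c = t := by
  rcases h.cen _ (mul_mem h.cP h.cP) (h.sq_cen h.cP) with h1 | h1 | h1 | h1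
  exacts [Or.inl h1, Or.inr h1, absurd (mul_eq_left.1 h1) h.c1, absurd (mul_left_cancel h1) h.ct]

theorem invol (h1 : c * c = t) (hx : x ∈ P) (hc : P ≤ Cen x) (h2 : x * x = 1) : x = 1 ∨ x = t := by
  rcases h.cen x hx hc with h3 | h3 | rfl | rfl
  exacts [Or.inl h3, Or.inr h3, absurd (h1.symm.trans h2) h.t1, absurd (by
    rw [← h2, mul_assoc, ← mul_assoc t, ← h.tx h.cP, mul_assoc c t, h.tt, mul_one, h1]) h.t1]

theorem exists_sq {N : G → Prop} (h1 : ∀ x ∈ P, ¬ N x → N (x * c))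
    (h2 : ∀ x ∈ P, ∀ y ∈ P, x * x = 1 → y * y = 1 → N x → N y → N (x * y)) :
    ∃ x ∈ P, N x ∧ x * x ≠ 1 := by
  have h3 : ∀ x ∈ P, ∃ x' ∈ P, N x' ∧ ∀ y ∈ P, x' * y = y * x' → x * y = y * x := fun x hx => by
    by_cases h3 : N x
    · exact ⟨x, hx, h3, fun _ _ => id⟩
    · refine ⟨_, mul_mem hx h.cP, h1 x hx h3, fun y hy h4 => mul_right_cancel (b := c) ?_⟩
      rwa [mul_assoc, h.cx hy, ← mul_assoc, mul_assoc y]
  obtain ⟨x, hx, y, hy, h4⟩ := h.na
  obtain ⟨x', hx', h5, h6⟩ := h3 x hx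
  obtain ⟨y', hy', h7, h8⟩ := h3 y hy
  by_contra h9
  push Not at h9
  refine h4 (h8 x hx (h6 y' hy' ?_).symm).symm
  have a1 := h9 _ hx' h5
  have a2 := h9 _ hy' h7
  rw [eq_inv_of_mul_eq_one_left (h9 _ (mul_mem hx' hy') (h2 _ hx' _ hy' a1 a2 h5 h7)), mul_inv_rev,
    inv_eq_of_mul_eq_one_left a1, inv_eq_of_mul_eq_one_left a2]

variable [Finite G] (hM : IsPModular 2 M) (hB : IsPBlock M B) (he : MaxPair 2 ⊤ (eb M B) P e)
include hM he

theorem fix (h1 : c * c = t) (h2 : FConj 2 P e y t) : y = t := by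
  have := charP_k hM
  obtain ⟨F, hF⟩ := he.bpair.pair.exists_isBFS
  obtain ⟨φ, h3, h4⟩ := exists_ext hM hF he h2 fun v _ => by
    rw [inf_eq_left.2 h.tc]; exact card_le_of_le inf_le_left
  have h5 : c ∈ P ⊓ Cen y := ⟨h.cP, mem_Cen.2 (h.cx h2.left).symm⟩
  have h6 : t ∈ P ⊓ Cen y := h1 ▸ mul_mem h5 h5
  refine h3.inj ⟨h2.left, self_mem_Cen y⟩ h6 (h4.trans ((h.invol h1 (h3.maps h6) ?_ ?_).resolve_left
    fun h7 => h.t1 (h3.inj h6 (one_mem _) (h7.trans h3.mul.map_one.symm))).symm)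
  · rw [← h1, h3.mul h5 h5]; exact h.sq_cen (h3.maps h5)
  · rw [← h3.mul h6 h6, h.tt, h3.mul.map_one]

theorem exists_out : ∃ y ∈ P, ∀ z, FConj 2 P e y z → ¬ P ≤ Cen z := by
  rcases h.c_sq with h1 | h1
  · obtain ⟨y, hy, -, h2⟩ := h.exists_sq (N := fun _ => True) (fun _ _ _ => trivial)
      fun _ _ _ _ _ _ _ _ => trivial
    refine ⟨y, hy, fun z h3 h4 => h2 ((FConj.mul_self_iff h3).2 ?_)⟩
    rcases h.cen z h3.right h4 with rfl | rfl | rfl | rfl
    exacts [mul_one _, h.tt, h1, by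
      rw [mul_assoc, ← mul_assoc t, ← h.tx h.cP, mul_assoc c t, h.tt, mul_one, h1]]
  obtain ⟨x, hx, w, hw, h2⟩ := h.na
  obtain ⟨y, hy, h3, h4⟩ : ∃ y ∈ P, y * w ≠ w * y ∧ y * y = 1 := by
    rcases h.invol h1 (mul_mem hx hx) (h.sq_cen hx) (h.four x hx) with h3 | h3
    · exact ⟨x, hx, h2, h3⟩
    · refine ⟨_, mul_mem hx h.cP, fun h4 => h2 (mul_right_cancel (b := c) ?_), ?_⟩
      · rwa [mul_assoc, h.cx hw, ← mul_assoc, mul_assoc w]
      · rw [mul_assoc, ← mul_assoc c, ← h.cx hx, mul_assoc x c, h1, ← mul_assoc, h3, h.tt]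
  refine ⟨y, hy, fun z h5 h6 => h3 ?_⟩
  rcases h.invol h1 h5.right h6 ((FConj.mul_self_iff h5).1 h4) with rfl | rfl
  · simp [orderOf_eq_one_iff.1 ((FConj.orderOf_eq' h5).trans orderOf_one)]
  · rw [h.fix hM he h1 h5, h.tx hw]

include hB

theorem kz_le : kz B ≤ 8 := by
  have hp := he.bpair.pair
  obtain ⟨u, hu, h0⟩ := h.exists_out hM he
  obtain ⟨w, h1, h2⟩ := exists_fc hM hp hu
  have hw := h0 w h1
  have h3 := isDefGrp_sbl hM he h1.right h2
  obtain ⟨K, _, _, ρ, b, h4, h5, h6, h7, -⟩ := exists_quot hM hp h1.right h3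
  obtain ⟨g, hg, hg'⟩ := SetLike.not_le_iff_exists.1 hw
  have h8 := two_card_le (inf_le_left : P ⊓ Cen w ≤ P) hg fun h8 => hg' h8.2
  rw [h.card] at h8
  have h9 := card_range_mul (mem_inf.2 ⟨h1.right, self_mem_Cen w⟩) h7
  have h10 : 1 < orderOf w := Nat.one_lt_iff_ne_zero_and_ne_one.2 ⟨(orderOf_pos w).ne',
    fun h10 => hg' (mem_Cen.2 (by simp [orderOf_eq_one_iff.1 h10]))⟩
  refine (kz_le_of_rank hM (exists_orderOf_of_mem hM.1 hp.isP h1.right)
    (isInducedBlock_sbl hM hB he.bpair h1.right) (h6 ▸ rank_le_of_card_le hM h4 h5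
      (by nlinarith))).trans ?_
  rw [← h3.card_eq_pow_sub hM (sbl_spec hM hp h1.right).1]
  omega

open scoped IsMulCommutative in
theorem rank_t : blockRank 2 (sbl 2 P e t) ≤ 3 ∧
    ∃ χ : P →* ℂˣ, χ ⟨t, h.tP⟩ = 1 ∧ χ ⟨c, h.cP⟩ ≠ 1 := by
  obtain ⟨K, _, _, Q, ρ, b, f, hd⟩ := exists_dm hM hB he ⟨t, h.tP⟩ h.tc
  have h1 : ρ ⟨t, h.tP⟩ = 1 := hd.ker.ge (mem_zpowers _)
  have h2 : ∀ x y : Q, x * y = y * x := fun x y => by
    obtain ⟨x, rfl⟩ := hd.surj x
    obtain ⟨y, rfl⟩ := hd.surj y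
    rcases h.comm x x.2 y y.2 with h2 | h2
    · rw [← map_mul, ← map_mul]; exact congrArg ρ (Subtype.ext h2)
    · rw [← mul_one (ρ y * _), ← h1, ← map_mul, ← map_mul, ← map_mul]
      exact congrArg ρ (Subtype.ext h2)
  have hab : Q ≤ centralizer (Q : Set K) := fun x hx => mem_centralizer_iff.2 fun y hy =>
    congrArg Subtype.val (h2 ⟨y, hy⟩ ⟨x, hx⟩)
  have := isComm_of hab
  have h3 := hd.card_mul
  rw [Subgroup.orderOf_mk, orderOf_eq_prime (p := 2) (by rw [pow_two, h.tt]) h.t1, h.card] at h3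
  refine ⟨?_, ?_⟩
  · have h4 := (G8 hd.max.bpair.pair.isP (not_dvd_FE hM hd.max hab) (FE Q f).subtype_injective
      (by omega)).resolve_right fun h4 => by
        obtain ⟨x, hx, y, hy, h5⟩ := h.na
        exact h5 (mem_centralizer_iff.1 (hd.comm_of_seven h.tc hab (by omega) h4 hy) x hx)
    have h5 := Nat.le_of_dvd three_pos h4
    exact hd.rank.symm.trans_le ((rank_eq_of_le_three hM _ hd.blk hd.max hab h5 le_rfl).trans_le h5)
  · obtain ⟨μ, -, h4⟩ := Char.exists_linear_of_not_mem_of_comm h2 ⊥ (g := ρ ⟨c, h.cP⟩) fun h4 => by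
      have h5 := mem_map_of_mem P.subtype (hd.ker.le h4)
      rw [MonoidHom.map_zpowers] at h5
      exact (eq_or_of_mul_self h.tt h5).elim h.c1 h.ct
    exact ⟨μ.comp ρ, by rw [MonoidHom.comp_apply, h1, map_one], h4⟩

theorem card_le : Nat.card B ≤ 2 * blockRank 2 (sbl 2 P e t) + 8 := by
  have := charP_k hM
  have hp := he.bpair.pair
  have hx := exists_orderOf_of_mem hM.1 hp.isP h.tP
  have hind := isInducedBlock_sbl hM hB he.bpair h.tP
  have hd := blockDefect_sbl_of_le hM hB he h.tP h.tc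
  have h1 : (2 : ℝ) ^ blockDefect 2 B = 16 := by
    exact_mod_cast (card_defectGroup hM hB ((isDefectGroup_iff hM hB _).2 he.isDefGrp)).symm.trans
      h.card
  have h2 : (kz B : ℝ) ≤ 8 := by exact_mod_cast h.kz_le hM hB he
  have h3 : (blockRank 2 (sbl 2 P e t) : ℝ) ≤ 3 := by exact_mod_cast (h.rank_t hM hB he).1
  have h4 : (1 : ℝ) ≤ blockRank 2 (sbl 2 P e t) :=
    Nat.one_le_cast.2 (blockRank_pos hM.1 (block_nonempty hM hind.1))
  rw [← Nat.cast_le (α := ℝ)]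
  push_cast
  by_cases h5 : ∃ χ ∈ B, blockHeight 2 B (χ : G → ℂ) = 0 ∧ cavg 2 (sbl 2 P e t) t χ = 1
  · obtain ⟨χ, h5, h6, h7⟩ := h5
    have := four_card_le_cavg hM hx hind hd h5 h6
    rw [h1, h7] at this
    linarith
  · have := four_card_le_rank hM hx hind hd (c := 3) fun χ hχ h6 => by
      obtain ⟨a, ⟨c, rfl⟩, h7⟩ := exists_odd_cavg hM hx rfl hind hχ h6
      have : c ≠ 0 := fun h8 => h5 ⟨χ, hχ, h6, by simp [h7, h8]⟩
      rw [h7]; exact_mod_cast (by omega : 3 ≤ 2 * c + 1)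
    rw [h1] at this
    linarith

theorem exists_lam : ∃ lam : P →* ℂˣ, FStable 2 P e (linExt lam) ∧ lam ⟨t, h.tP⟩ = 1 ∧
    lam ⟨c, h.cP⟩ ≠ 1 := by
  have := charP_k hM
  obtain ⟨F, hF⟩ := he.bpair.pair.exists_isBFS
  obtain ⟨χ, h1, h2⟩ := (h.rank_t hM hB he).2
  have hχ := Fus.mulOn_ext χ
  have h0 : Fus.ext χ t = 1 := (Fus.ext_of_mem χ h.tP).trans h1
  obtain ⟨x, hx, y, hy, h3⟩ := h.na
  have h3 := (h.comm x hx y hy).resolve_left h3
  obtain ⟨τ, h4, h5, h6⟩ := exists_trf_central (hF.sat he) hχ h.cP (fun s => h.cx)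
    (fun φ hφ => by
      have a1 : φ t = t := by
        have a1 := congrArg φ h3
        rw [hφ.mul hx hy, hφ.mul (mul_mem hy hx) h.tP, hφ.mul hy hx] at a1
        rcases h.comm _ (hφ.maps hx) _ (hφ.maps hy) with a2 | a2 <;> rw [a2] at a1
        · exact absurd (hφ.inj h.tP (one_mem _) ((left_eq_mul.1 a1).trans hφ.mul.map_one.symm)) h.t1
        · exact (mul_left_cancel a1).symm
      rcases h.cen _ (hφ.maps h.cP) (fun z hz => by
        obtain ⟨w, hw, rfl⟩ := hφ.iso_top.surj hz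
        rw [mem_Cen, ← hφ.mul hw h.cP, ← hφ.mul h.cP hw, h.cx hw]) with a2 | a2 | a2 | a2
      · exact absurd (hφ.inj h.cP (one_mem _) (a2.trans hφ.mul.map_one.symm)) h.c1
      · exact absurd (hφ.inj h.cP h.tP (a2.trans a1.symm)) h.ct
      · rw [a2]
      · rw [a2, hχ h.cP h.tP, h0, mul_one])
    fun m ⟨j, hj⟩ y hy => by
      obtain ⟨φ, hφ, rfl⟩ := Fus.conjElt_iff.1 hy
      have a1 := fConj_of_mor hM hF he hφ (mem_zpowers _)
      have a2 : c ^ m = 1 → Fus.ext χ (φ (c ^ m)) = 1 := fun a2 => by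
        rw [a2, hφ.mul.map_one, hχ.map_one]
      rcases h.c_sq with a3 | a3
      · exact a2 (by rw [hj, pow_mul, pow_two, a3, one_pow])
      refine (eq_or_of_mul_self h.tt (y := c ^ m) (by
        rw [hj, pow_mul, pow_two, a3]; exact npow_mem_zpowers t j)).elim a2 fun a4 => ?_
      rw [a4] at a1 ⊢
      rw [h.fix hM he a3 a1.symm, h0]
  refine ⟨h4.hom, fStable_extendByZero fun u w h7 => congrArg Units.val ?_, ?_, ?_⟩
  · have := h5 _ (hF.mem_focal hM h7)
    rwa [h4.map_inv_mul u.2 w.2, inv_mul_eq_one] at this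
  · have := congrArg τ h3
    rw [h4 hx hy, h4 (mul_mem hy hx) h.tP, h4 hy hx, mul_comm] at this
    exact left_eq_mul.1 this
  · exact fun h7 => h2 ((Fus.ext_of_mem χ h.cP).symm.trans (h6.symm.trans h7))

theorem rank_le : blockRank 2 B ≤ 3 := by
  classical
  have := Fintype.ofFinite G
  have := Fintype.ofFinite P
  have hp := he.bpair.pair
  obtain ⟨lam, h1, h2, h3⟩ := h.exists_lam hM hB he
  have h4 := sum_inner_bst hM hB he.bpair h1
  rw [Finset.sum_eq_zero fun χ hχ => Char.inner_irr_ne (irr_bst_linExt hM hB he h1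
    (Finset.mem_filter.1 hχ).2) χ.2 fun h4 => h3 (Units.ext ((linExt_of_mem lam h.cP).symm.trans
      (eq_one_of_bst_eq hM hp h1 (Char.irr_isClassFunction χ.2) h4 h.cP (regProj_sbl_ne_zero_of_le
        hM hB he (Finset.mem_filter.1 hχ).2 h.cP h.cc))))] at h4
  set a : P → ℝ := fun u => (1 + (linExt lam u).re) * blockRank 2 (sbl 2 P e u) / fcard 2 P e u
  have h5 : (Nat.card B : ℝ) = ∑ u, a u := by
    have h5 := congrArg Complex.re (congrArg₂ (· + ·) (card_eq_sum_rank hM hB he) h4)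
    rw [add_zero, ← Finset.sum_add_distrib, Complex.re_sum] at h5
    refine h5.trans (Finset.sum_congr rfl fun u _ => ?_)
    rw [div_mul_eq_mul_div, ← add_div, Complex.div_natCast_re]
    simp [a, add_mul]
  have h6 : ∀ u ∈ P, -1 ≤ (linExt lam u).re ∧ (linExt lam u ≠ -1 → -1 < (linExt lam u).re) :=
    fun u hu => by
      have h6 := congrArg Complex.re (linExt_mul_conj lam hu)
      simp only [Complex.mul_re, Complex.conj_re, Complex.conj_im, Complex.one_re] at h6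
      have h7 : -1 ≤ (linExt lam u).re := by nlinarith [mul_self_nonneg (linExt lam u).im]
      refine ⟨h7, fun h8 => h7.lt_of_ne fun h9 => h8 (Complex.ext (by simp [← h9]) ?_)⟩
      rw [← h9] at h6
      simpa using h6
  have h7 : ∀ u ∈ P, linExt lam u = 1 → ∑ w ∈ Finset.univ.filter (fun w : P => FConj 2 P e u w),
      a w = 2 * blockRank 2 (sbl 2 P e u) := fun u hu h7 => by
    rw [← mul_one (2 * _ : ℝ), ← sum_inv_fcard hM hp hu, Finset.mul_sum]
    refine Finset.sum_congr rfl fun w hw => ?_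
    have h8 := (Finset.mem_filter.1 hw).2
    have h9 : blockRank 2 (sbl 2 P e u) = blockRank 2 (sbl 2 P e w) :=
      Nat.cast_injective (R := ℂ) (fStable_rank hM hB he.bpair _ _ h8)
    simp only [a]
    rw [← h1 _ _ h8, h7, h9, Complex.one_re]
    ring
  have hm : ∀ x ∈ P, ∀ y ∈ P, linExt lam (x * y) = linExt lam x * linExt lam y := fun x hx y hy => by
    rw [linExt_of_mem _ hx, linExt_of_mem _ hy, linExt_of_mem _ (mul_mem hx hy), ← Units.val_mul,
      ← map_mul]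
    rfl
  obtain ⟨u, hu, h8, h9⟩ := h.exists_sq (N := fun x => linExt lam x ≠ -1) (fun x hx h8 h9 => by
      rw [hm x hx c h.cP, not_not.1 h8, neg_one_mul, neg_inj, linExt_of_mem _ h.cP] at h9
      exact h3 (Units.ext h9))
    fun x hx y hy h8 h9 h10 h11 => by
      have a1 : ∀ x ∈ P, x * x = 1 → linExt lam x ≠ -1 → linExt lam x = 1 := fun x hx a1 =>
        (mul_self_eq_one_iff.1 (by rw [← hm x hx x hx, a1, linExt_one])).resolve_right
      rw [hm x hx y hy, a1 x hx h8 h10, a1 y hy h9 h11]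
      norm_num
  have h10 : ∀ w : P, 0 ≤ a w := fun w => div_nonneg (mul_nonneg (by linarith [(h6 w w.2).1])
    (Nat.cast_nonneg _)) (Nat.cast_nonneg _)
  have h11 : 0 < a ⟨u, hu⟩ := div_pos (mul_pos (by linarith [(h6 u hu).2 h8])
    (Nat.cast_pos.2 (blockRank_pos hM.1 (block_nonempty hM (sbl_spec hM hp hu).1))))
    (Nat.cast_pos.2 (Nat.pos_of_ne_zero (fcard_ne_zero hM hp hu)))
  have h12 := Finset.sum_lt_sum_of_subset (Finset.subset_univ (Finset.univ.filter
    (fun w : P => FConj 2 P e 1 w) ∪ Finset.univ.filter fun w : P => FConj 2 P e t w))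
    (Finset.mem_univ ⟨u, hu⟩) (fun h12 => h9 (by
      rcases Finset.mem_union.1 h12 with h12 | h12
      exacts [(FConj.mul_self_iff (Finset.mem_filter.1 h12).2).1 (mul_one 1),
        (FConj.mul_self_iff (Finset.mem_filter.1 h12).2).1 h.tt])) h11 fun w _ _ => h10 w
  rw [Finset.sum_union (Finset.disjoint_filter.2 fun w _ a1 a2 => h.t1 (orderOf_eq_one_iff.1 (by
      rw [FConj.orderOf_eq' a2, ← FConj.orderOf_eq' a1, orderOf_one]))),
    h7 1 (one_mem _) (linExt_one _), h7 t h.tP (by rw [linExt_of_mem _ h.tP, h2]; rfl), ← h5,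
    blockRank_sbl_one hM hB he.bpair] at h12
  have h13 := h.card_le hM hB he
  have h14 : 2 * blockRank 2 B + 2 * blockRank 2 (sbl 2 P e t) < Nat.card B := by exact_mod_cast h12
  omega

end Sx

theorem sq_or_cyc {X : Type u} [Group X] [Finite X] (hX : Nat.card X = 2 ^ 4)
    (hn : ¬ IsMulCommutative X) : (∃ C : Subgroup X, IsCyclic C ∧ C.index = 2) ∨ Fus.Sq 2 X := by
  have hp : IsPGroup 2 X := IsPGroup.of_card hX
  have hZ := Nat.le_of_dvd Nat.card_pos (Fus.dvd_card_center hp hn)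
  have h0 : ∀ (H : Subgroup X) (g : X), g ∉ center X → center X ≤ H → g ∈ H → 4 ≤ Nat.card H :=
    fun H g h1 h2 h3 => by have := two_card_le h2 h3 h1; omega
  have hC : ∀ g : X, center X ≤ Cen g := fun g z hz => mem_Cen.2 (mem_center_iff.1 hz g).symm
  by_cases h : ∃ g : X, Nat.card (Cen g) ≤ 4
  · obtain ⟨g, hg⟩ := h
    have h1 : Nat.card (Cen g) = 2 ^ 2 := le_antisymm hg (h0 _ g (fun h1 => by
      rw [(eq_top_iff' _).2 fun x => mem_Cen.2 (mem_center_iff.1 h1 x), card_top] at hg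
      omega) (hC g) (self_mem_Cen g))
    have := IsPGroup.isMulCommutative_of_card_eq_prime_sq h1
    refine Or.inl (Cfsg.Agent.S0113.result 4 (by omega) hX (Cfsg.Agent.S0112.result 4 hX _ h1
      (le_antisymm (fun x hx => mem_Cen.2 (mem_centralizer_iff.1 hx g (self_mem_Cen g)).symm)
        (le_centralizer _))))
  push Not at h
  have h1 : ∀ g : X, (Cen g).index ≤ 2 := fun g => by
    have h1 := (Cen g).card_mul_index
    obtain ⟨i, hi, h2⟩ := (Nat.dvd_prime_pow Nat.prime_two).1 (hX ▸ (Cen g).index_dvd_card)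
    have := h g
    rw [h2, hX] at h1
    interval_cases i <;> omega
  obtain ⟨a, b, hab⟩ : ∃ a b : X, a * b ≠ b * a := by
    by_contra h2
    push Not at h2
    exact hn ⟨⟨h2⟩⟩
  refine Or.inr (Fus.sq_of_le hp hn ((index_antitone (H := Cen a ⊓ Cen b) fun z hz => ?_).trans
    (index_inf_le.trans (Nat.mul_le_mul (h1 a) (h1 b)))))
  by_contra h2
  obtain ⟨g, hg⟩ : ∃ g, g ∉ Cen z := by
    by_contra h3
    push Not at h3
    exact h2 (mem_center_iff.2 fun g => mem_Cen.1 (h3 g))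
  have h3 := two_card_le (le_top (a := Cen z)) (mem_top g) hg
  have h4 := h0 (Cen z ⊓ centralizer (Cen z : Set X)) z h2 (le_inf (hC z) (center_le_centralizer _))
    ⟨self_mem_Cen z, mem_centralizer_iff.2 fun x hx => mem_Cen.1 hx⟩
  rw [card_top, hX] at h3
  obtain ⟨y, hy, h5⟩ := exists_two (inf_le_left : Cen z ⊓ centralizer (Cen z : Set X) ≤ _) (by omega)
  have ha : a ∈ Cen z := mem_Cen.2 (mem_Cen.1 hz.1).symm
  have hb : b ∈ Cen z := mem_Cen.2 (mem_Cen.1 hz.2).symm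
  rcases h5 a ha with h6 | h6
  · exact hab (mem_centralizer_iff.1 h6.2 b hb).symm
  rcases h5 b hb with h7 | h7
  · exact hab (mem_centralizer_iff.1 h7.2 a ha)
  have h8 := mem_centralizer_iff.1 h6.2 y hy
  have h9 := mem_centralizer_iff.1 h7.2 a ha
  refine hab ?_
  calc a * b = a * (b * y⁻¹) * y := by group
    _ = b * (y⁻¹ * (a * y⁻¹ * y) * y) := by rw [h9]; group
    _ = b * a := by rw [← h8]; group

theorem ci2_or_sx {G : Type u} [Group G] [Finite G] {P : Subgroup G} (hP : IsPGroup 2 P)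
    (h16 : Nat.card P ≤ 16) (hn : ¬ P ≤ centralizer (P : Set G)) : CI2 P ∨ ∃ t c, Sx P t c := by
  by_cases h : ∃ x ∈ P, Nat.card P ≤ 2 * orderOf x
  · obtain ⟨x, hx, h⟩ := h
    exact Or.inl ⟨x, hx, exists_two (zpowers_le_of_mem hx) (by rwa [Nat.card_zpowers])⟩
  push Not at h
  have na : ∃ x ∈ P, ∃ y ∈ P, x * y ≠ y * x := by
    by_contra h1
    push Not at h1
    exact hn fun x hx => mem_centralizer_iff.2 fun y hy => h1 y hy x hx
  have hn' : ¬ IsMulCommutative P := fun _ => hn (le_centralizer P)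
  have h1 : ∀ x ∈ P, orderOf x = 4 ∨ x * x = 1 := fun x hx => by
    obtain ⟨i, hi⟩ := exists_orderOf_of_mem Nat.prime_two hP hx
    have h1 := h x hx
    have h2 : i < 3 := (Nat.pow_lt_pow_iff_right one_lt_two).1 (by omega)
    rw [← pow_two, ← orderOf_dvd_iff_pow_eq_one, hi]
    interval_cases i <;> simp
  have h2 : Nat.card P = 2 ^ 4 := by
    obtain ⟨x, hx, h2⟩ : ∃ x ∈ P, orderOf x = 4 := by
      by_contra h2
      push Not at h2
      obtain ⟨x, hx, y, hy, h3⟩ := na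
      have h4 := fun x hx => (h1 x hx).resolve_left (h2 x hx)
      refine h3 ?_
      rw [eq_inv_of_mul_eq_one_left (h4 _ (mul_mem hx hy)), mul_inv_rev,
        inv_eq_of_mul_eq_one_left (h4 x hx), inv_eq_of_mul_eq_one_left (h4 y hy)]
    obtain ⟨i, hi⟩ := hP.exists_card_eq
    have h3 := h x hx
    have h4 : 3 < i := (Nat.pow_lt_pow_iff_right one_lt_two).1 (by omega)
    have h5 : i ≤ 4 := (Nat.pow_le_pow_iff_right one_lt_two).1 (by omega)
    rw [hi, show i = 4 by omega]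
  rcases sq_or_cyc h2 hn' with ⟨C, h3, h4⟩ | h3
  · obtain ⟨x, hx⟩ := h3.exists_ofOrder_eq_natCard
    have h5 := C.card_mul_index
    have h6 := h x.1 x.1.2
    rw [Subgroup.orderOf_coe, Subgroup.orderOf_coe] at h6
    rw [h4] at h5
    omega
  have h4 := (center P).card_mul_index
  rw [h3.idx, h2] at h4
  obtain ⟨t, ht, ht1⟩ := exists_notMem (H := ⊥) (K := _root_.commutator P)
    (by rw [h3.card_comm, card_bot]; omega)
  obtain ⟨c, hc, hc1⟩ := exists_notMem (H := _root_.commutator P) (K := center P)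
    (by rw [h3.card_comm]; omega)
  have htt : t * t = 1 := by rw [← pow_two, h3.pow_eq_one ht]
  have h5 : ∀ z ∈ _root_.commutator P, z = 1 ∨ z = t := fun z hz => eq_or_of_mul_self htt
    (eq_zpowers (by rw [h3.card_comm]; exact Nat.prime_two) ht ht1 ▸ hz)
  have h6 : ∀ z ∈ center P, P ≤ Cen (z : G) := fun z hz g hg =>
    mem_Cen.2 (congrArg Subtype.val (mem_center_iff.1 hz ⟨g, hg⟩))
  refine Or.inr ⟨t, c, h2, t.2, c.2, by simpa using ht1, fun h7 => hc1 ?_, fun h7 => hc1 ?_,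
    congrArg Subtype.val htt, h6 t (h3.comm_le ht), h6 c hc, fun z hz h7 => ?_,
    fun x hx y hy => ?_, na, fun x hx => ?_⟩
  · rw [OneMemClass.coe_eq_one.1 h7]; exact one_mem _
  · rwa [Subtype.ext h7]
  · have h8 : (⟨z, hz⟩ : P) ∈ center P := mem_center_iff.2 fun g => Subtype.ext (mem_Cen.1 (h7 g.2))
    by_cases h9 : (⟨z, hz⟩ : P) ∈ _root_.commutator P
    · exact (h5 _ h9).imp (congrArg Subtype.val) fun h => Or.inl (congrArg Subtype.val h)
    · refine Or.inr (Or.inr ((h5 _ (mul_mem_two h3.comm_le (by rw [h3.card_comm]; omega)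
        (inv_mem hc) h8 (mt inv_mem_iff.1 hc1) h9)).imp (fun h => ?_) fun h => ?_))
      · exact (congrArg Subtype.val (inv_mul_eq_one.1 h)).symm
      · exact congrArg Subtype.val (inv_mul_eq_iff_eq_mul.1 h)
  · refine (h5 _ (commutator_mem_commutator (mem_top (⟨x, hx⟩ : P)⁻¹)
      (mem_top (⟨y, hy⟩ : P)⁻¹))).imp (fun h => ?_) fun h => ?_ <;>
      have h := congrArg Subtype.val h <;>
      simp only [commutatorElement_def, inv_inv, coe_mul, coe_inv, OneMemClass.coe_one] at h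
    · rw [← mul_one (y * x), ← h]; group
    · rw [← h]; group
  · rcases h1 x hx with h7 | h7
    · rw [← pow_two, ← pow_two, ← pow_mul, ← orderOf_dvd_iff_pow_eq_one, h7]
    · rw [h7, mul_one]

/-- Blocks with nonabelian defect groups of order at most sixteen have at most three Brauer
characters. -/
theorem rank_le_of_not_comm {M : Ideal AlgInt} {G : Type u} [Group G] [Finite G]
    {B : Set (IrrCharacter G)} {P : Subgroup G} {e : (k M)[G]} (hM : IsPModular 2 M)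
    (hB : IsPBlock M B) (he : MaxPair 2 ⊤ (eb M B) P e) (h16 : Nat.card P ≤ 16)
    (hn : ¬ P ≤ centralizer (P : Set G)) : blockRank 2 B ≤ 3 := by
  have := charP_k hM
  rcases ci2_or_sx he.bpair.pair.isP h16 hn with h | ⟨t, c, h⟩
  · exact rank_le_of_ci2 hM hB ((isDefectGroup_iff hM hB _).2 he.isDefGrp) h
  · exact h.rank_le hM hB he

end CF.BlockK
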