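import Cfsg.Agent.BlockK.K8
import Cfsg.Agent.BlockK.K5

/-!
# The `k(B)` bound for defect groups with a central cyclic subgroup of index at most sixteen
-/

namespace CF.BlockK

open Cfsg MonoidAlgebra Subgroup CF.Block CF.BlockB CF.Invol
open scoped IsMulCommutative

universe u

variable {p : ℕ} {M : Ideal AlgInt} {G : Type u} [Group G] [Finite G] {B : Set (IrrCharacter G)}
  {P : Subgroup G} {e : (k M)[G]}

theorem Dm.card_eq {K : Type u} [Group K] [Fintype K] {u : P} {Q : Subgroup K} {ρ : P →* Q}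
    {b : Set (IrrCharacter K)} {f : (k M)[K]} (h : Dm p B P e u ρ b f) :
    Nat.card Q = (zpowers u).index := by
  rw [← h.ker, index_ker, MonoidHom.range_eq_top.2 h.surj, card_top]

theorem two_or (hM : IsPModular 2 M) (hB : IsPBlock M B) (he : MaxPair 2 ⊤ (eb M B) P e) (u : P)
    (hc : P ≤ Cen (u : G)) (hi : (zpowers u).index ≤ 16) : Nat.card B ≤ Nat.card P ∨
      (P ≤ centralizer (P : Set G) ∧ 7 ∣ Nat.card (Sf (FE P e).subtype u)) := by
  have := charP_k hM
  obtain ⟨K, _, _, Q, ρ, b, f, h⟩ := exists_dm hM hB he u hc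
  rw [← h.card_eq] at hi
  have h3 : blockRank 2 b ≤ 3 → Nat.card B ≤ Nat.card P := fun h3 => card_le_of_cen hM hB he
    ((isDefectGroup_iff hM hB _).2 he.isDefGrp) u.2 hc (Or.inl (h.rank ▸ h3))
  by_cases hab : Q ≤ centralizer (Q : Set K)
  swap
  · exact Or.inl (h3 (rank_le_of_not_comm hM h.blk h.max hi hab))
  have := isComm_of hab
  rcases G16 h.max.bpair.pair.isP (not_dvd_FE hM h.max hab) (FE Q f).subtype_injective hi with
    h1 | h1 | ⟨V, W, h1⟩ | h1
  · exact Or.inl (h3 ((rank_eq_of_le_three hM _ h.blk h.max hab h1 le_rfl).trans_le h1))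
  · exact Or.inl (h.minGe (minGe_of_fS (fS_of_free' hM h.blk h.max hab fun σ hσ x hx h2 =>
      congrArg Subtype.val (h1 ⟨σ, hσ⟩ x hx h2))))
  · exact Or.inl ((Nine.frame hM h.blk h.max h1).elim h3 h.frame)
  · have h2 := h.comm_of_seven hc hab hi h1
    rw [h.card_FE_eq hM.1 he.bpair.pair.isP (not_dvd_FE hM he h2), card_St_eq] at h1
    exact Or.inr ⟨h2, h1⟩

theorem card_le_two (hM : IsPModular 2 M) (hB : IsPBlock M B) (he : MaxPair 2 ⊤ (eb M B) P e)
    (u : P) (hc : P ≤ Cen (u : G)) (hi : (zpowers u).index ≤ 16) : Nat.card B ≤ Nat.card P := by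
  rcases two_or hM hB he u hc hi with h | ⟨hab, h⟩
  · exact h
  have := isComm_of hab
  have := Fact.mk (by norm_num : Nat.Prime 7)
  obtain ⟨s, hs⟩ := exists_prime_orderOf_dvd_card' 7 h
  obtain ⟨w, h1, h2⟩ := exists_not_seven he.bpair.pair.isP (not_dvd_FE hM he hab)
    (FE P e).subtype_injective (s := s) (by
      rw [← Subgroup.coe_pow, ← hs, pow_orderOf_eq_one, OneMemClass.coe_one]) (by
      rw [Ne, OneMemClass.coe_eq_one]
      rintro rfl
      simp at hs) s.2 hi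
  exact (two_or hM hB he w (le_Cen_of_comm hab w.2) h1).resolve_right fun h => h2 h.2

theorem card_le_odd (hM : IsPModular p M) (hB : IsPBlock M B) (he : MaxPair p ⊤ (eb M B) P e)
    (hp : p ≠ 2) (u : P) (hc : P ≤ Cen (u : G)) (hi : (zpowers u).index ≤ 16) :
    Nat.card B ≤ Nat.card P := by
  have := Fact.mk hM.1
  have := charP_k hM
  obtain ⟨K, _, _, Q, ρ, b, f, h⟩ := exists_dm hM hB he u hc
  have hQ := h.max.bpair.pair.isP
  have hP := he.bpair.pair.isP
  have h0 := h.card_eq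
  by_cases h1 : Nat.card Q < p * p
  · exact h.minGe (minGe_of_fS (fS_of_cyc hM h.blk h.max (isCyclic_of_le hM.1 hQ h1)))
  obtain rfl : p = 3 := by
    have h2 : p < 5 := by by_contra; nlinarith
    have h3 := hM.1
    interval_cases p <;> first | rfl | exact absurd rfl hp | exact absurd h3 (by norm_num)
  have h2 : Nat.card Q = 3 ^ 2 := by
    obtain ⟨i, h2⟩ := hQ.exists_card_eq
    have h3 : i < 3 := (Nat.pow_lt_pow_iff_right (by norm_num : 1 < 3)).1 (by omega)
    rw [h2] at h1 ⊢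
    interval_cases i <;> simp at h1 ⊢
  have := IsPGroup.isMulCommutative_of_card_eq_prime_sq h2
  have hab := le_centralizer Q
  by_cases h3 : ∀ σ ∈ FE Q f, ∀ x : Q, x ≠ 1 → σ x = x → σ = 1
  · exact h.minGe (minGe_of_fS (fS_of_free' hM h.blk h.max hab h3))
  push Not at h3
  obtain ⟨τ, hτ, x, hx, h3, h4⟩ := h3
  obtain ⟨σ, hσ, h5, h6⟩ := h.up τ hτ
  have h7 : ∀ z ∈ ρ.ker, σ z = z := fun z hz => by
    obtain ⟨i, rfl⟩ := h.ker.le hz
    rw [map_zpow, h5]
  have h8 : P ≤ centralizer (P : Set G) := fun x' hx' => mem_centralizer_iff.2 fun y hy =>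
    congrArg Subtype.val (comm_of_refl h.surj (h.ker.le.trans (zpowers_le_of_mem (mem_center_iff.2
      fun g => Subtype.ext (mem_Cen.1 (hc g.2))))) h7 h6 hM.1 hQ (pow_card_of_mem hτ)
      (not_dvd_FE hM h.max hab) h4 (fun h8 => hx (mem_bot.1 (h8 ▸ mem_Fx.2 h3))) h2.le
      ⟨y, hy⟩ ⟨x', hx'⟩)
  have := isComm_of h8
  have hE := not_dvd_FE hM he h8
  obtain ⟨x, rfl⟩ := h.surj x
  obtain ⟨v, hv⟩ := exists_lt_three hP hE (FE P e).subtype_injective (u := u) (x := x)
    (by omega) (s := ⟨σ, hσ⟩) (fun h9 => h4 (MulEquiv.ext fun y => by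
      obtain ⟨y, rfl⟩ := h.surj y
      rw [h6, show σ = 1 from congrArg Subtype.val h9]
      rfl)) h5 (fix_of_mem (σ := σ) (pow_card_of_mem hσ) (h7 _ (by
      rw [MonoidHom.mem_ker, map_mul, map_inv, ← h6, h3, inv_mul_cancel]))
      (coprime_orderOf hM.1 hP hE _)) fun h9 => hx (h.ker.ge h9)
  rw [← card_St_eq] at hv
  rw [card_defectGroup hM hB ((isDefectGroup_iff hM hB _).2 he.isDefGrp)]
  exact card_le_of_rank_le_two hM (exists_orderOf_of_mem hM.1 hP v.2) rfl
    (isInducedBlock_sbl hM hB he.bpair v.2)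
    (blockDefect_sbl_of_le hM hB he v.2 (le_Cen_of_comm h8 v.2))
    (by rw [rank_sbl_of_le_three hM hB he h8 hv.le]; omega)

theorem card_le_sixteen (hM : IsPModular p M) (hB : IsPBlock M B) (hD : IsDefectGroup p M B P)
    {Z : Subgroup G} (hZ : Z ≤ P) (hc : ∀ z ∈ Z, ∀ d ∈ P, z * d = d * z) (hcyc : IsCyclic Z)
    (hi : Z.relIndex P ≤ 16) : Nat.card B ≤ Nat.card P := by
  have := Fact.mk hM.1
  have := charP_k hM
  obtain ⟨e, he⟩ := ((isDefectGroup_iff hM hB P).1 hD).exists_maxPair (isBlk_eb hM hB)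
  obtain ⟨u, rfl⟩ := (Subgroup.isCyclic_iff_exists_zpowers_eq_top Z).1 hcyc
  have hu := hZ (mem_zpowers u)
  have h1 : P ≤ Cen u := fun d hd => mem_Cen.2 (hc u (mem_zpowers u) d hd).symm
  have h2 : (zpowers (⟨u, hu⟩ : P)).index ≤ 16 := by
    refine le_trans (le_of_eq (congrArg _ ?_)) hi
    rw [subgroupOf, show zpowers u = (zpowers (⟨u, hu⟩ : P)).map P.subtype by
      rw [MonoidHom.map_zpowers]; rfl, comap_map_eq_self_of_injective P.subtype_injective]
  by_cases hp : p = 2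
  · subst hp
    exact card_le_two hM hB he ⟨u, hu⟩ h1 h2
  · exact card_le_odd hM hB he hp ⟨u, hu⟩ h1 h2

end CF.BlockK
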