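import Cfsg.Agent.BlockK.K9

/-!
# Bounds for the number of characters of height zero from subsections
-/

namespace CF.BlockK

open Cfsg MonoidAlgebra Subgroup CF.Block CF.BlockB CF.Invol Polynomial

universe u

theorem avg_eight {M : Ideal AlgInt} (hM : IsPModular 2 M) {Q : Type*} [Group Q] [Finite Q]
    [IsCyclic Q] (hQ : Nat.card Q = 2 ^ 3) {z : Q} (hz : orderOf z = 8) {F : Q → ℂ}
    (hF : IsGeneralizedCharacter Q F) (h : F (z ^ 3) = F z ∧ F (z ^ 7) = F (z ^ 5) ∨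
      F (z ^ 7) = F z ∧ F (z ^ 3) = F (z ^ 5)) :
    ∃ a : ℤ, F z + F (z ^ 5) = 2 * a ∧ (v M (F z) = 1 → Odd a) := by
  obtain ⟨lam, hl⟩ := Char.exists_linear_injective_of_isCyclic (G := Q)
  obtain ⟨A, hA, h1⟩ := exists_aeval_of_gen hl hF
  have hg : ∀ j : ℕ, Nat.Coprime j 8 → z ^ j ∈ gens Q := fun j hj => mem_gens_iff_orderOf.2 (by
    rw [Nat.Coprime.orderOf_pow (hz ▸ hj.symm), hz, hQ]; rfl)
  have hζ := isPrimitiveRoot_of_mem_gens hl (pow_one z ▸ hg 1 (by norm_num))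
  rw [hQ] at hζ hA
  set ζ := (lam z : ℂ)
  have h4 : ζ ^ 4 = -1 := (hζ.pow (by norm_num) (pow_succ 2 2)).eq_neg_one_of_two_right
  have h0 : ζ ≠ 0 := hζ.ne_zero (by norm_num)
  have h2 : ζ ^ 2 - 1 ≠ 0 := sub_ne_zero.2 (hζ.pow_ne_one_of_pos_of_lt (by norm_num) (by norm_num))
  have h3 : ζ ^ 2 + 1 ≠ 0 := fun h3 => by
    have : (2 : ℂ) = 0 := by linear_combination h4 - (ζ ^ 2 - 1) * h3
    norm_num at this
  have hA' : A.natDegree < 4 := hA
  have h5 : ∀ j : ℕ, Nat.Coprime j 8 → F (z ^ j) = A.coeff 0 + A.coeff 1 * ζ ^ j +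
      A.coeff 2 * (ζ ^ j) ^ 2 + A.coeff 3 * (ζ ^ j) ^ 3 := fun j hj => by
    rw [h1 _ (hg j hj), aeval_eq_sum_range' hA']
    simp [Finset.sum_range_succ, ζ]
  have e1 := h5 1 (by norm_num)
  have e3 := h5 3 (by norm_num)
  have e5 := h5 5 (by norm_num)
  have e7 := h5 7 (by norm_num)
  rw [pow_one] at e1
  have f3 : F (z ^ 3) = A.coeff 0 + A.coeff 1 * ζ ^ 3 - A.coeff 2 * ζ ^ 2 + A.coeff 3 * ζ := by
    rw [e3]; linear_combination (A.coeff 2 * ζ ^ 2 + A.coeff 3 * (ζ ^ 5 - ζ)) * h4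
  have f5 : F (z ^ 5) = A.coeff 0 - A.coeff 1 * ζ + A.coeff 2 * ζ ^ 2 - A.coeff 3 * ζ ^ 3 := by
    rw [e5]
    linear_combination (A.coeff 1 * ζ + A.coeff 2 * (ζ ^ 6 - ζ ^ 2) +
      A.coeff 3 * (ζ ^ 11 - ζ ^ 7 + ζ ^ 3)) * h4
  have f7 : F (z ^ 7) = A.coeff 0 - A.coeff 1 * ζ ^ 3 - A.coeff 2 * ζ ^ 2 - A.coeff 3 * ζ := by
    rw [e7]
    linear_combination (A.coeff 1 * ζ ^ 3 + A.coeff 2 * (ζ ^ 10 - ζ ^ 6 + ζ ^ 2) +
      A.coeff 3 * (ζ ^ 17 - ζ ^ 13 + ζ ^ 9 - ζ ^ 5 + ζ)) * h4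
  have h6 : (A.coeff 2 : ℂ) = 0 := by
    have : (A.coeff 2 : ℂ) * (4 * ζ ^ 2) = 0 := by
      rcases h with ⟨a, b⟩ | ⟨a, b⟩ <;> linear_combination f3 + f7 - e1 - f5 - a - b
    exact (mul_eq_zero.1 this).resolve_right (by simp [h0])
  have h7 : Even (A.coeff 1 + A.coeff 3) := by
    rcases h with ⟨a, b⟩ | ⟨a, b⟩
    · have : ((A.coeff 1 : ℂ) - A.coeff 3) * (ζ * (ζ ^ 2 - 1)) = 0 := by
        linear_combination a + e1 - f3 + 2 * ζ ^ 2 * h6
      have h7 : A.coeff 1 = A.coeff 3 := by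
        exact_mod_cast sub_eq_zero.1 ((mul_eq_zero.1 this).resolve_right (mul_ne_zero h0 h2))
      exact ⟨_, by rw [h7]⟩
    · have : ((A.coeff 1 : ℂ) + A.coeff 3) * (ζ * (ζ ^ 2 + 1)) = 0 := by
        linear_combination f7 - a - e1 - 2 * ζ ^ 2 * h6
      have h7 : A.coeff 1 + A.coeff 3 = 0 := by
        exact_mod_cast (mul_eq_zero.1 this).resolve_right (mul_ne_zero h0 h3)
      simp [h7]
  refine ⟨A.coeff 0, by rw [e1, f5]; linear_combination 2 * ζ ^ 2 * h6, fun h8 => ?_⟩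
  have h9 := v_aeval_sub_lt_one (v_sub_one_lt_one_of_pow_eq_one hM hζ.pow_eq_one) A
  rw [← h1 z (pow_one z ▸ hg 1 (by norm_num))] at h9
  have h10 := (v_intCast_eq_one_iff hM _).1 (v_eq_one_of_sub_lt_one (v_sub_lt_one_symm h9) h8)
  rw [eval_eq_sum_range' hA'] at h10
  have h11 : A.coeff 2 = 0 := by exact_mod_cast h6
  simp only [Finset.sum_range_succ, Finset.sum_range_zero, one_pow, mul_one, h11] at h10
  obtain ⟨c, hc⟩ := h7
  exact Int.not_even_iff_odd.1 fun ⟨d, hd⟩ => h10 ⟨c + d, by push_cast; linarith⟩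

variable {M : Ideal AlgInt} {G : Type u} [Group G] [Finite G] {B : Set (IrrCharacter G)}
  {P : Subgroup G} {e : (k M)[G]}

theorem rank_eq_one_of_cyc (hM : IsPModular 2 M) (hB : IsPBlock M B) (hD : IsDefectGroup 2 M B P)
    (hc : IsCyclic P) : blockRank 2 B = 1 := by
  have := charP_k hM
  obtain ⟨e, he⟩ := exists_maxPair_of_defect hM hB hD
  exact blockRank_eq_one_of_nil hM hB (nil_of_defGrp he.isDefGrp he.bpair.blk fun Q hQ x _ hx ho =>
    mem_centralizer_of_isCyclic (isCyclic_of_injective (inclusion hQ) (inclusion_injective hQ))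
      (he.bpair.pair.isP.to_le hQ) hx (Nat.odd_iff.2 (by omega)))

variable (hM : IsPModular 2 M) (hB : IsPBlock M B) (he : MaxPair 2 ⊤ (eb M B) P e)
include hM hB he

theorem kz_le_of_good {y : G} (hy : y ∈ P) {n : ℕ} (hn : n ≤ 4 * orderOf y)
    (h : ∀ w, FConj 2 P e y w → Nat.card (P ⊓ Cen w : Subgroup G) ≤ n) : kz B ≤ n := by
  have hp := he.bpair.pair
  obtain ⟨w, h1, h2⟩ := exists_fc hM hp hy
  have h3 := isDefGrp_sbl hM he h1.right h2
  obtain ⟨K, _, _, ρ, b, h4, h5, h6, h7, -⟩ := exists_quot hM hp h1.right h3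
  have h8 := h w h1
  have h9 := card_range_mul (mem_inf.2 ⟨h1.right, self_mem_Cen w⟩) h7
  rw [FConj.orderOf_eq' h1] at hn
  have := orderOf_pos w
  refine (kz_le_of_rank hM (exists_orderOf_of_mem hM.1 hp.isP h1.right)
    (isInducedBlock_sbl hM hB he.bpair h1.right) (h6 ▸ rank_le_of_card_le hM h4 h5
      (by nlinarith))).trans ?_
  rwa [← h3.card_eq_pow_sub hM (sbl_spec hM hp h1.right).1]

theorem kz_le_of_eight {g y : G} (hg : g ∈ P) (hy : y ∈ P) (ho : orderOf g = 8)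
    (hk : y * g * y⁻¹ = g ^ 3 ∨ y * g * y⁻¹ = g ^ 7)
    (hs : ∀ s ∈ P, s * g * s⁻¹ = g ∨ s * g * s⁻¹ = y * g * y⁻¹)
    (hc : Nat.card (P ⊓ Cen g : Subgroup G) = 16)
    (h : ∀ w, FConj 2 P e g w → Nat.card (P ⊓ Cen w : Subgroup G) ≤ 16) : kz B ≤ 8 := by
  classical
  have := charP_k hM
  have hp := he.bpair.pair
  have h3 := isDefGrp_sbl hM he hg (hc ▸ h)
  have hb := (sbl_spec hM hp hg).1
  have hq : (2 : ℂ) ^ blockDefect 2 (sbl 2 P e g) = 16 := by
    exact_mod_cast (h3.card_eq_pow_sub hM hb).symm.trans hc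
  have hx := exists_orderOf_of_mem hM.1 hp.isP hg
  have hind := isInducedBlock_sbl hM hB he.bpair hg
  have hz : ∀ j : ℕ, Nat.Coprime j 8 → zpowers (g ^ j) = zpowers g := fun j hj =>
    le_antisymm (zpowers_le_of_mem (npow_mem_zpowers g j)) (zpowers_le_of_mem
      (mem_zpowers_pow_iff.2 (by rw [ho]; exact hj)))
  have hr : blockRank 2 (sbl 2 P e g) = 1 := by
    obtain ⟨K, _, _, ρ, b, h4, h5, h6, h7, -⟩ := exists_quot hM hp hg h3
    have h9 := card_range_mul (mem_inf.2 ⟨hg, self_mem_Cen g⟩) h7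
    rw [ho, hc] at h9
    exact h6 ▸ rank_eq_one_of_cyc hM h4 h5 (isCyclic_of_prime_card (p := 2) (by omega))
  have hne : ∀ i j : ℕ, i < 8 → j < 8 → g ^ i = g ^ j → i = j := fun i j hi hj =>
    pow_injOn_Iio_orderOf (by simpa [ho] using hi) (by simpa [ho] using hj)
  have h5 : ¬ FConj 2 P e g (g ^ 5) := fun h5 => by
    obtain ⟨F, hF⟩ := hp.exists_isBFS
    obtain ⟨x, f, h6, h7, h8⟩ := h5
    obtain ⟨s, h9, h10⟩ := agree_of_norm hM hF he (Q := zpowers g) (φ := Fus.cj x)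
      (fun s h9 => mem_norm (by
        rcases hs s h9 with h10 | h10 <;> rw [h10]
        · exact mem_zpowers g
        · rcases hk with h11 | h11 <;> rw [h11] <;> exact npow_mem_zpowers g _))
      (fun s h9 h10 => mem_centralizer_of_isCyclic inferInstance
        (hp.isP.to_le (zpowers_le_of_mem hg)) h9 (Nat.odd_iff.2 (by omega)))
      ((hF.mor_iff hp h7).2 ⟨x, trivial, fun _ _ => rfl, by rwa [cjs_zpowers, h6]⟩)
      (by rintro _ ⟨i, rfl⟩; simp only [Fus.cj_apply, ← conj_zpow, h6]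
          exact zpow_mem (npow_mem_zpowers g 5) i)
    have h11 := h10 g (mem_zpowers g)
    rw [Fus.cj_apply, h6] at h11
    rcases hs s h9 with h12 | h12 <;> rw [h12] at h11
    · simpa using hne 5 1 (by omega) (by omega) (by simpa using h11)
    · rcases hk with h13 | h13 <;> simpa using hne 5 _ (by omega) (by omega) (h11.trans h13)
  have hcm : ∀ j : ℕ, Nat.Coprime j 8 → ∀ χ ψ, cm 2 (sbl 2 P e (g ^ j)) (g ^ j) χ ψ =
      cm 2 (sbl 2 P e g) (g ^ j) χ ψ := fun j hj => cm_sbl_of_zpowers_eq hM hp hg (hz j hj) _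
  have key : ∀ χ ψ : IrrCharacter G, ∃ a : ℤ, cm 2 (sbl 2 P e g) g χ ψ +
      cm 2 (sbl 2 P e (g ^ 5)) (g ^ 5) χ ψ = a / 8 ∧ (χ ∈ B → ψ ∈ B →
        blockHeight 2 B (χ : G → ℂ) = 0 → blockHeight 2 B (ψ : G → ℂ) = 0 → Odd a) := fun χ ψ => by
    have c1 := Char.irr_isClassFunction χ.2
    have c2 := Char.irr_isClassFunction ψ.2
    have a1 : ∀ i j : ℕ, Nat.Coprime i 8 → Nat.Coprime j 8 → y * g ^ i * y⁻¹ = g ^ j →
        cm 2 (sbl 2 P e g) (g ^ j) χ ψ = cm 2 (sbl 2 P e g) (g ^ i) χ ψ := fun i j hi hj a1 => by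
      rw [← hcm i hi, ← hcm j hj, ← a1]
      exact ((fConj_conj hM hp ⟨_, pow_mem hg i⟩ ⟨y, hy⟩).cm_eq hM hp c1 c2).symm
    have a2 : g ^ 8 = 1 := ho ▸ pow_orderOf_eq_one g
    obtain ⟨a, a3, a4⟩ := avg_eight hM (Q := zpowers g) (by rw [Nat.card_zpowers, ho]; rfl)
      (z := ⟨g, mem_zpowers g⟩) (by rw [Subgroup.orderOf_mk, ho]) (gen_cm hM (nrm_eSet_le_one hM hb)
        (commute_zpowers_of_le le_rfl) (Char.gen_of_irr χ.2) (Char.gen_of_irr ψ.2)) (by
      simp only [SubgroupClass.coe_pow]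
      refine hk.imp (fun a3 => ⟨?_, ?_⟩) fun a3 => ⟨?_, ?_⟩
      · rw [a1 1 3 (by norm_num) (by norm_num) (by rwa [pow_one]), pow_one]
      · rw [a1 5 7 (by norm_num) (by norm_num) (by
          rw [← conj_pow, a3, ← pow_mul, show 3 * 5 = 8 + 7 from rfl, pow_add, a2, one_mul])]
      · rw [a1 1 7 (by norm_num) (by norm_num) (by rwa [pow_one]), pow_one]
      · rw [a1 5 3 (by norm_num) (by norm_num) (by
          rw [← conj_pow, a3, ← pow_mul, show 7 * 5 = 8 * 4 + 3 from rfl, pow_add, pow_mul, a2,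
            one_pow, one_mul])])
    simp only [SubgroupClass.coe_pow, Nat.cast_ofNat, hq] at a3
    refine ⟨a, by rw [hcm 5 (by norm_num)]; linear_combination a3 / 16, fun b1 b2 b3 b4 =>
      a4 ((v_cm_eq_one_iff hM hx le_rfl hind b1 b2).2 ⟨b3, b4⟩)⟩
  choose A hA hodd using key
  have hg5 := pow_mem hg 5
  have hx5 := exists_orderOf_of_mem hM.1 hp.isP hg5
  have hind5 := isInducedBlock_sbl hM hB he.bpair hg5
  have hsym : ∀ χ ψ, A ψ χ = A χ ψ := fun χ ψ => by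
    have := congrArg (starRingEnd ℂ) (hA χ ψ)
    rw [map_add, conj_cm hM (nrm_eSet_le_one hM hb), conj_cm hM (nrm_eSet_le_one hM hind5.1), hA,
      map_div₀, map_intCast, map_ofNat, div_left_inj' (by norm_num)] at this
    exact_mod_cast this
  have hsq : ∀ χ, ∑ ψ ∈ Finset.univ.filter (· ∈ B), A χ ψ ^ 2 = 8 * A χ χ := fun χ => by
    have c1 := Char.irr_isClassFunction χ.2
    have a1 := sum_cm_mul hM hx rfl hind (χ : G → ℂ) χ
    have a2 := sum_cm_mul hM hx5 rfl hind5 (χ : G → ℂ) χ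
    have a3 := sum_cm_mul_of_not_fConj hM hB he.bpair hg hg5 h5 c1 c1
    have a4 := sum_cm_mul_of_not_fConj hM hB he.bpair hg5 hg (fun h => h5 h.symm) c1 c1
    have a5 : ∑ ψ ∈ Finset.univ.filter (· ∈ B), ((A χ ψ : ℂ) / 8) * (A ψ χ / 8) = A χ χ / 8 := by
      simp only [← hA, add_mul, mul_add, Finset.sum_add_distrib, a1, a2, a3, a4]
      ring
    refine Int.cast_injective (α := ℂ) ?_
    push_cast
    rw [show (8 : ℂ) * A χ χ = 64 * (A χ χ / 8) by ring, ← a5, Finset.mul_sum]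
    exact Finset.sum_congr rfl fun ψ _ => by rw [hsym χ ψ]; ring
  have htr : ∑ χ ∈ Finset.univ.filter (· ∈ B), A χ χ = 16 := by
    have a1 := sum_cm_diag hM hx rfl hind
    have a2 := sum_cm_diag hM hx5 rfl hind5
    simp only [hcm 5 (by norm_num)] at a2
    have a3 := sum_cm_diag hM hx5 (cen_eq_of_zpowers_eq (hz 5 (by norm_num))).symm hind
    have a4 : ∑ χ ∈ Finset.univ.filter (· ∈ B), (A χ χ : ℂ) / 8 = 2 := by
      simp only [← hA, Finset.sum_add_distrib, hcm 5 (by norm_num), a1, a3, hr]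
      norm_num
    refine Int.cast_injective (α := ℂ) ?_
    rw [← Finset.sum_div] at a4
    push_cast
    linear_combination 8 * a4
  set T := Finset.univ.filter fun χ : IrrCharacter G => χ ∈ B ∧ blockHeight 2 B (χ : G → ℂ) = 0
  have hT : T ⊆ Finset.univ.filter (· ∈ B) := Finset.monotone_filter_right _ fun _ _ h => h.1
  have h0 : ∀ χ, 0 ≤ A χ χ := fun χ => by
    have := Finset.sum_nonneg (s := Finset.univ.filter (· ∈ B)) fun ψ _ => sq_nonneg (A χ ψ)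
    rw [hsq] at this
    omega
  rw [kz, Nat.card_eq_fintype_card, Fintype.card_subtype, ← Nat.cast_le (α := ℤ)]
  by_cases h6 : ∃ χ ∈ T, A χ χ = 1
  · obtain ⟨χ, h6, h7⟩ := h6
    have h8 := (Finset.mem_filter.1 h6).2
    have h9 := Finset.card_nsmul_le_sum T (fun ψ => A χ ψ ^ 2) 1 fun ψ hψ => by
      have h9 := (Finset.mem_filter.1 hψ).2
      obtain ⟨c, hc⟩ := hodd χ ψ h8.1 h9.1 h8.2 h9.2
      exact (one_le_sq_iff_one_le_abs _).2 (Int.one_le_abs (by omega))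
    have h10 := Finset.sum_le_sum_of_subset_of_nonneg hT fun ψ _ _ => sq_nonneg (A χ ψ)
    rw [hsq, h7] at h10
    simpa using h9.trans h10
  · have h9 := Finset.card_nsmul_le_sum T (fun χ => A χ χ) 3 fun χ hχ => by
      have h9 := (Finset.mem_filter.1 hχ).2
      obtain ⟨c, hc⟩ := hodd χ χ h9.1 h9.1 h9.2 h9.2
      have := h0 χ
      have : A χ χ ≠ 1 := fun h => h6 ⟨χ, hχ, h⟩
      omega
    have h10 := Finset.sum_le_sum_of_subset_of_nonneg hT fun χ _ _ => h0 χ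
    rw [htr] at h10
    have := h9.trans h10
    rw [nsmul_eq_mul] at this
    have h11 : (T.card : ℤ) ≤ 8 := by omega
    simpa using h11

end CF.BlockK
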