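import Cfsg.Agent.BlockK.O1

/-!
# Fusion in two-groups with small commutator subgroup
-/

namespace CF.BlockK

open Cfsg MonoidAlgebra Subgroup CF.Block CF.BlockB CF.Invol CF.Fus

universe u

section Grp

variable {G : Type*} [Group G] [Finite G] {P H K : Subgroup G} {t u a b : G}

theorem card_le_two_inf (ha : a ∈ K) (h : ∀ b ∈ K, b * a ∈ H ∨ b ∈ H) :
    Nat.card K ≤ 2 * Nat.card (K ⊓ H : Subgroup G) := by
  have h1 := (H.subgroupOf K).index_mul_card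
  rw [← inf_subgroupOf_left, Nat.card_congr (subgroupOfEquivOfLe inf_le_left).toEquiv,
    inf_subgroupOf_left] at h1
  rw [← h1]
  exact Nat.mul_le_mul_right _ (Nat.le_of_dvd two_pos (relIndex_dvd_two_iff.2 ⟨a, ha, h⟩))

theorem comm_mem_two (h : H ≤ P) (hc : Nat.card P ≤ 2 * Nat.card H) (ha : a ∈ P) (hb : b ∈ P) :
    a * b * a⁻¹ * b⁻¹ ∈ H := by
  by_cases h1 : P ≤ H
  · exact h1 (mul_mem (mul_mem (mul_mem ha hb) (inv_mem ha)) (inv_mem hb))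
  obtain ⟨y, hy, hy'⟩ := SetLike.not_le_iff_exists.1 h1
  have h2 := le_antisymm hc (two_card_le h hy hy')
  by_cases h3 : b ∈ H
  · exact mul_mem (conj_mem_two h h2 ha h3) (inv_mem h3)
  by_cases h4 : a ∈ H
  · simpa [mul_assoc] using mul_mem h4 (conj_mem_two h h2 hb (inv_mem h4))
  · rw [mul_assoc]
    exact mul_mem (mul_mem_two h h2 ha hb h4 h3) (mul_mem_two h h2 (inv_mem ha) (inv_mem hb)
      (mt inv_mem_iff.1 h4) (mt inv_mem_iff.1 h3))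

theorem norm_of_comm (h : H ≤ P) (hc : ∀ a ∈ P, ∀ b ∈ P, a * b * a⁻¹ * b⁻¹ ∈ H) :
    P ≤ normalizer (H : Set G) := fun s hs => mem_normalizer_of_le h fun x hx => by
  simpa using mul_mem (hc s hs x (h hx)) hx

theorem card_le_of_two (hc : P ≤ Cen t) (htt : t * t = 1)
    (h : ∀ s ∈ P, s * u * s⁻¹ = u ∨ s * u * s⁻¹ = u * t) :
    Nat.card P ≤ 2 * Nat.card (P ⊓ Cen u : Subgroup G) := by
  by_cases h1 : P ≤ Cen u
  · rw [inf_eq_left.2 h1]; omega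
  obtain ⟨y, hy, hy'⟩ := SetLike.not_le_iff_exists.1 h1
  have h2 : ∀ s ∈ P, s ∉ Cen u → s * u * s⁻¹ = u * t := fun s hs h2 =>
    (h s hs).resolve_left fun h3 => h2 (mem_Cen.2 (mul_inv_eq_iff_eq_mul.1 h3))
  refine card_le_two_inf hy fun s hs => or_iff_not_imp_right.2 fun h3 => mem_Cen.2 ?_
  rw [← mul_inv_eq_iff_eq_mul]
  calc _ = s * (y * u * y⁻¹) * s⁻¹ := by group
    _ = s * u * s⁻¹ * t := by
      rw [h2 y hy hy', ← mul_assoc, mul_assoc _ t, ← mem_Cen.1 (hc (inv_mem hs)), mul_assoc (s * u)]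
    _ = u := by rw [h2 s hs h3, mul_assoc, htt, mul_one]

theorem card_pow (hP : IsPGroup 2 P) (h : H ≤ P) {i : ℕ} (hi : 2 ^ i < Nat.card H) :
    2 ^ (i + 1) ≤ Nat.card H := by
  obtain ⟨j, hj⟩ := (hP.to_le h).exists_card_eq
  rw [hj] at hi ⊢
  exact Nat.pow_le_pow_right two_pos ((Nat.pow_lt_pow_iff_right one_lt_two).1 hi)

end Grp

section Fusion

variable {G : Type*} [Group G] [Finite G] {P Q : Subgroup G} {F : FusionSystem P} {φ : G → G}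
  {t u : G}

/-- all images of `y` have centralizers of order at most `n` -/
def Good (F : FusionSystem P) (n : ℕ) (y : G) : Prop :=
  ∀ φ, Mor F (P ⊓ Cen y) φ → Nat.card (P ⊓ Cen (φ y) : Subgroup G) ≤ n

variable (hF : Sat F 2) (hφ : Mor F Q φ)
include hF hφ

theorem exists_aut_of_norm (h1 : P ≤ normalizer (Q : Set G))
    (h2 : P ≤ normalizer (img φ Q : Set G)) : ∃ g, Mor F P g ∧ ∀ x ∈ Q, ∃ y ∈ Q, φ y = g x := by
  obtain ⟨g, h3, h4⟩ := hF.exists_norm_map' (fn_of_norm F hφ.img_le h2) hφ.isConj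
  rw [NS_eq_of_norm h1] at h3
  exact ⟨g, h3, fun x hx => hφ.mem_img.1 (h4 ▸ mem_img_of_mem hx)⟩

theorem cen_of_pair (hu : u ∈ Q) (ht : t ∈ Q) (h1 : P ≤ Cen t)
    (h2 : ∀ s ∈ P, s * u * s⁻¹ = u ∨ s * u * s⁻¹ = u * t) (h3 : P ≤ Cen (φ u))
    (h4 : P ≤ Cen (φ t)) : P ≤ Cen u := by
  have h5 : zpowers u ⊔ zpowers t ≤ Q := sup_le (zpowers_le_of_mem hu) (zpowers_le_of_mem ht)
  have h6 := hφ.mono h5
  have a1 : u ∈ zpowers u ⊔ zpowers t := mem_sup_left (mem_zpowers u)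
  have a2 : t ∈ zpowers u ⊔ zpowers t := mem_sup_right (mem_zpowers t)
  have h7 : img φ (zpowers u ⊔ zpowers t) ≤ centralizer (P : Set G) := by
    rw [h6.mul.img_sup, (h6.mul.mono le_sup_left).img_zpowers, (h6.mul.mono le_sup_right).img_zpowers]
    exact sup_le (zpowers_le_of_mem fun s hs => h3 hs _ rfl |>.symm)
      (zpowers_le_of_mem fun s hs => h4 hs _ rfl |>.symm)
  obtain ⟨g, h8, h9⟩ := exists_aut_of_norm hF h6 (fun s hs => mem_normalizer_of_le h6.le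
    (show _ ≤ comap (MulAut.conj s).toMonoidHom (zpowers u ⊔ zpowers t) from sup_le
      (zpowers_le_of_mem (show s * u * s⁻¹ ∈ zpowers u ⊔ zpowers t by
      rcases h2 s hs with h | h <;> rw [h]
      exacts [a1, mul_mem a1 a2])) (zpowers_le_of_mem (show s * t * s⁻¹ ∈ zpowers u ⊔ zpowers t by
      rwa [mem_Cen.1 (h1 hs), mul_inv_cancel_right]))))
    ((le_centralizer_iff.1 h7).trans (centralizer_le_normalizer _))
  obtain ⟨y, h10, h11⟩ := h9 u a1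
  have h12 := hφ.le hu
  refine fun s hs => mem_Cen.2 (h8.inj (mul_mem hs h12) (mul_mem h12 hs) ?_)
  rw [h8.mul hs h12, h8.mul h12 hs, ← h11]
  exact h7 (mem_img_of_mem h10) _ (h8.maps hs)

theorem ext_of_cen (hu : u ∈ Q) (h : P ≤ Cen (φ u)) : ∃ ψ, Mor F (P ⊓ Cen u) ψ ∧ ψ u = φ u := by
  have h1 := hφ.mono (zpowers_le_of_mem hu)
  obtain ⟨ψ, h2, h3⟩ := hF.ext_CS (fc_of_cent F h1.img_le (by
    rwa [h1.mul.img_zpowers, centralizer_zpowers'])) h1.iso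
  refine ⟨ψ, h2.mono (le_trans ?_ le_sup_right), h3 u (mem_zpowers u)⟩
  rw [← centralizer_zpowers']
  exact le_rfl

theorem fix_of_cen (hu : u ∈ Q) (h1 : P ≤ Cen u) (h2 : P ≤ Cen t) (h3 : φ u = t) (ht : t ∈ P)
    (h4 : ∀ g, Mor F P g → g t = t) : u = t := by
  obtain ⟨ψ, h5, h6⟩ := ext_of_cen hF hφ hu (h3 ▸ h2)
  rw [inf_eq_left.2 h1] at h5
  exact h5.inj (hφ.le hu) ht (by rw [h6, h3, h4 ψ h5])

omit hφ in
theorem induced_of_transv (hQ : Q ≤ P) (hn : P ≤ normalizer (Q : Set G)) {α : MulAut Q}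
    (hα : α ∈ F.autGroup Q) (ht : t ∈ Q) (h1 : P ≤ Cen t) (h2 : fn α t = t)
    (h3 : ∀ x ∈ Q, fn α x = x ∨ fn α x = x * t) : ∃ s ∈ P, ∀ x ∈ Q, fn α x = s * x * s⁻¹ := by
  have h4 := zpowers_le_of_mem ht
  have h5 : ∀ x ∈ zpowers t, fn α x = x := by
    rintro _ ⟨i, rfl⟩
    simp only [(mulOn_fn α).map_zpow ht, h2]
  refine mem_autInducedBy'.1 (((hF.syl_of_fn (fn_of_norm F hQ hn)).mono
    (C := F.autGroup Q ⊓ stab Q (zpowers t)) (le_inf (autInducedBy_le F hQ) fun β hβ => ?_)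
    inf_le_left).OpIn_le (mem_OpIn₂ (hF.pgroup hQ) inf_le_right ⟨hα, mem_stab_of_maps h4
      fun x hx => (h5 x hx).symm ▸ hx⟩ (fun x hx => ?_) fun x _ => h5 x))
  · obtain ⟨s, h6, h7, rfl⟩ := mem_autInducedBy.1 hβ
    exact cA_mem_stab h4 h7 (mem_norm (by
      rw [mem_Cen.1 (h1 h6), mul_inv_cancel_right]; exact mem_zpowers t))
  · rcases h3 x hx with h6 | h6 <;> simp [h6]

end Fusion

variable {M : Ideal AlgInt} {G : Type u} [Group G] [Finite G] {B : Set (IrrCharacter G)}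
  {P : Subgroup G} {e : (k M)[G]} {F : FusionSystem P} {t x y : G}

theorem kz_le_of_mor (hM : IsPModular 2 M) (hB : IsPBlock M B) (he : MaxPair 2 ⊤ (eb M B) P e)
    (hF : IsBFS 2 ⊤ P e F) (hy : y ∈ P) {n : ℕ} (hn : n ≤ 4 * orderOf y) (h : Good F n y) :
    kz B ≤ n := by
  obtain ⟨w, h1, h2⟩ := BlockB.exists_fc hM he.bpair.pair hy
  obtain ⟨φ, h3, rfl⟩ := BlockB.exists_ext hM hF he h1 h2
  exact kz_le_of_good hM hB he hy hn fun v hv =>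
    (h2 v (h1.symm.trans hM he.bpair.pair hv)).trans (h φ h3)

/-- a group whose commutator subgroup has order two -/
structure C2 (P : Subgroup G) (t : G) : Prop where
  tP : t ∈ P
  t1 : t ≠ 1
  tt : t * t = 1
  tc : P ≤ Cen t
  comm : ∀ x ∈ P, ∀ y ∈ P, x * y * x⁻¹ = y ∨ x * y * x⁻¹ = y * t
  na : ∃ x ∈ P, ∃ y ∈ P, x ∉ Cen y

namespace C2

variable (h : C2 P t)
include h

theorem card (hx : x ∈ P) (hc : ¬ P ≤ Cen x) :
    Nat.card P = 2 * Nat.card (P ⊓ Cen x : Subgroup G) := by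
  obtain ⟨g, h1, h2⟩ := SetLike.not_le_iff_exists.1 hc
  exact le_antisymm (card_le_of_two h.tc h.tt fun s hs => h.comm s hs x hx)
    (two_card_le inf_le_left h1 fun h3 => h2 h3.2)

omit [Finite G] in
theorem conj (hx : x ∈ P) (hy : y ∈ P) (hn : x ∉ Cen y) : x * y * x⁻¹ = y * t :=
  (h.comm x hx y hy).resolve_left fun h1 => hn (mem_Cen.2 (mul_inv_eq_iff_eq_mul.1 h1))

omit [Finite G] in
theorem map_t {Q : Subgroup G} {φ : G → G} (hφ : Mor F Q φ) (hx : x ∈ Q) (hy : y ∈ Q) (ht : t ∈ Q)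
    (hn : x ∉ Cen y) : φ t = t := by
  have h1 := congrArg φ (h.conj (hφ.le hx) (hφ.le hy) hn)
  rw [hφ.mul.map_conj hx hy, hφ.mul hy ht] at h1
  rcases h.comm _ (hφ.maps hx) _ (hφ.maps hy) with h2 | h2 <;> rw [h2] at h1
  · exact absurd (hφ.inj ht (one_mem _) ((left_eq_mul.1 h1).trans hφ.mul.map_one.symm)) h.t1
  · exact (mul_left_cancel h1).symm

theorem key (hF : Sat F 2) {φ : G → G} (hy : y ∈ P) (hc : ¬ P ≤ Cen y)
    (hφ : Mor F (P ⊓ Cen y) φ) (hz : P ≤ Cen (φ y)) :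
    y * y ≠ t ∧ ∃ w ∈ P, w * w = 1 ∧ P ⊓ Cen w = P ⊓ Cen y := by
  have h0 : y ∈ P ⊓ Cen y := ⟨hy, self_mem_Cen y⟩
  have ht : t ∈ P ⊓ Cen y := ⟨h.tP, mem_Cen.2 (mem_Cen.1 (h.tc hy)).symm⟩
  have h1 : ¬ P ≤ Cen (φ t) := fun h1 =>
    hc (cen_of_pair hF hφ h0 ht h.tc (fun s hs => h.comm s hs y hy) hz h1)
  have h2 : φ t ≠ t := fun h2 => h1 (h2.symm ▸ h.tc)
  refine ⟨fun h3 => h1 fun s hs => mem_Cen.2 ?_, ?_⟩
  · rw [← h3, hφ.mul h0 h0, ← mul_assoc, mem_Cen.1 (hz hs), mul_assoc, mem_Cen.1 (hz hs), mul_assoc]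
  obtain ⟨a, ha, b, hb, h3⟩ := h.na
  have h4 := comm_mem_two hφ.img_le (by rw [hφ.card_img, h.card hy hc]) ha hb
  rw [h.conj ha hb h3, mem_Cen.1 (h.tc hb), mul_inv_cancel_right] at h4
  obtain ⟨w, h5, h6⟩ := hφ.mem_img.1 h4
  have h7 : ¬ P ≤ Cen w := fun h7 => h2 (by
    rwa [fix_of_cen hF hφ h5 h7 h.tc h6 h.tP fun g hg => h.map_t hg ha hb h.tP h3] at h6)
  refine ⟨w, h5.1, hφ.inj (mul_mem h5 h5) (one_mem _) (by
    rw [hφ.mul h5 h5, h6, h.tt, hφ.mul.map_one]), (eq_of_le_of_card_ge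
      (le_inf inf_le_left fun s hs => ?_) ?_).symm⟩
  · by_contra h8
    exact h2 (h.map_t hφ hs h5 ht h8)
  · have := h.card hy hc
    have := h.card h5.1 h7
    omega

theorem exists_good (hF : Sat F 2) :
    ∃ y ∈ P, y * y ≠ 1 ∧ ∀ φ, Mor F (P ⊓ Cen y) φ → ¬ P ≤ Cen (φ y) := by
  by_contra h0
  push Not at h0
  have h1 : ∀ x ∈ P, ¬ P ≤ Cen x → ∃ w ∈ P, w * w = 1 ∧ P ⊓ Cen w = P ⊓ Cen x := fun x hx hc => by
    by_cases h1 : x * x = 1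
    · exact ⟨x, hx, h1, rfl⟩
    · obtain ⟨φ, h2, h3⟩ := h0 x hx h1
      exact (h.key hF hx hc h2 h3).2
  obtain ⟨a, ha, b, hb, h2⟩ := h.na
  obtain ⟨v, hv, h3, h4⟩ := h1 b hb fun h3 => h2 (h3 ha)
  obtain ⟨w, hw, h5, h6⟩ := h1 a ha fun h5 => h2 (mem_Cen.2 (mem_Cen.1 (h5 hb)).symm)
  have h7 : w ∉ Cen v := fun h7 => h2 (mem_Cen.2 (mem_Cen.1 (h6.le ⟨hb, mem_Cen.2
    (mem_Cen.1 (h4.le ⟨hw, h7⟩).2).symm⟩).2).symm)
  have h8 : w * v * (w * v) = t := by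
    have := h.conj hw hv h7
    rw [inv_eq_of_mul_eq_one_left h5] at this
    rw [← mul_assoc, this, mul_assoc, ← mem_Cen.1 (h.tc hv), ← mul_assoc, h3, one_mul]
  obtain ⟨φ, h9, h10⟩ := h0 _ (mul_mem hw hv) (h8 ▸ h.t1)
  exact (h.key hF (mul_mem hw hv) (fun h11 => h7 (mem_Cen.2 (mul_left_cancel
    ((mem_Cen.1 (h11 hw)).trans (mul_assoc _ _ _))))) h9 h10).1 h8

theorem kz_le (hM : IsPModular 2 M) (hB : IsPBlock M B) (he : MaxPair 2 ⊤ (eb M B) P e)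
    (h32 : Nat.card P ≤ 32) : 2 * kz B ≤ Nat.card P := by
  have := charP_k hM
  obtain ⟨F, hF⟩ := he.bpair.pair.exists_isBFS
  obtain ⟨y, hy, h1, h2⟩ := h.exists_good (hF.sat he)
  obtain ⟨i, hi⟩ := exists_orderOf_of_mem Nat.prime_two he.bpair.pair.isP hy
  rw [← pow_two, Ne, ← orderOf_dvd_iff_pow_eq_one, hi] at h1
  have h3 : 2 ^ 2 ≤ 2 ^ i := Nat.pow_le_pow_right two_pos (by
    by_contra h3
    exact h1 (pow_dvd_pow 2 (show i ≤ 1 by omega)))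
  have := kz_le_of_mor hM hB he hF hy (n := Nat.card P / 2) (by omega) fun φ hφ => by
    have := h.card (hφ.maps ⟨hy, self_mem_Cen y⟩) (h2 φ hφ)
    omega
  omega

end C2

end CF.BlockK
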