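import Cfsg.Agent.BlockK.O2

/-!
# Fusion in groups of order thirty-two with commutator subgroup of order four
-/

namespace CF.BlockK

open Cfsg MonoidAlgebra Subgroup CF.Block CF.BlockB CF.Invol CF.Fus

universe u

variable {G : Type u} [Group G] [Finite G] {P Z : Subgroup G} {F : FusionSystem P}
  {t d y g x w : G}

theorem comm_of_two (h : Z ≤ P) (hc : Nat.card P ≤ 2 * Nat.card Z)
    (hz : ∀ a ∈ Z, ∀ b ∈ P, a * b = b * a) (hx : x ∈ P) (hy : y ∈ P) : x * y = y * x := by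
  obtain ⟨r, hr, h1⟩ := exists_two h hc
  rcases h1 x hx with h2 | h2
  · exact hz x h2 y hy
  rcases h1 y hy with h3 | h3
  · exact (hz y h3 x hx).symm
  have h4 := hz _ h2 r hr
  have h5 := hz _ h3 x hx
  calc x * y = x * (y * r⁻¹) * r := by group
    _ = y * (r⁻¹ * (x * r⁻¹ * r) * r) := by rw [← h5]; group
    _ = y * x := by rw [h4]; group

/-- a group of order thirty-two and class two with centre of order four -/
structure C4 (P Z : Subgroup G) : Prop where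
  pg : IsPGroup 2 P
  card : Nat.card P = 32
  cZ : Nat.card Z = 4
  mem : ∀ z, z ∈ Z ↔ z ∈ P ∧ P ≤ Cen z
  comm : ∀ x ∈ P, ∀ y ∈ P, x * y * x⁻¹ * y⁻¹ ∈ Z

namespace C4

variable (h : C4 P Z)
include h

omit [Finite G] in
theorem le (hx : x ∈ P) : Z ≤ P ⊓ Cen x := fun z hz =>
  ⟨((h.mem z).1 hz).1, mem_Cen.2 (mem_Cen.1 (((h.mem z).1 hz).2 hx)).symm⟩

omit [Finite G] in
theorem zc (hx : x ∈ P) (hw : w ∈ Z) : w * x = x * w := mem_Cen.1 (h.le hx hw).2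

theorem exists_small : ∃ y ∈ P, Nat.card (P ⊓ Cen y : Subgroup G) ≤ 8 := by
  by_contra h0
  push Not at h0
  have h1 : ∀ y ∈ P, Nat.card P ≤ 2 * Nat.card (P ⊓ Cen y : Subgroup G) := fun y hy => by
    have := card_pow h.pg inf_le_left (i := 3) (h0 y hy)
    rw [h.card]
    omega
  obtain ⟨a, ha, h2⟩ := exists_notMem (H := Z) (K := P) (by rw [h.card, h.cZ]; omega)
  obtain ⟨b, hb, h3⟩ := SetLike.not_le_iff_exists.1 fun h3 => h2 ((h.mem a).2 ⟨ha, h3⟩)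
  obtain ⟨s, -, h4⟩ := exists_two (inf_le_left : P ⊓ Cen b ≤ P) (h1 b hb)
  have h5 : Nat.card (P ⊓ Cen a : Subgroup G) ≤
      2 * Nat.card (P ⊓ Cen a ⊓ (P ⊓ Cen b) : Subgroup G) :=
    card_le_two_inf (a := a) ⟨ha, self_mem_Cen a⟩ fun c hc => or_iff_not_imp_right.2 fun h5 =>
      mul_mem_two inf_le_left (le_antisymm (h1 b hb) (two_card_le inf_le_left ha fun h6 =>
        h3 (mem_Cen.2 (mem_Cen.1 h6.2).symm))) hc.1 ha h5 fun h6 =>
        h3 (mem_Cen.2 (mem_Cen.1 h6.2).symm)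
  have h6 := h1 a ha
  obtain ⟨z, hz, h7⟩ := exists_notMem (H := Z) (K := P ⊓ Cen a ⊓ (P ⊓ Cen b)) (by
    rw [h.cZ]; rw [h.card] at h6; omega)
  obtain ⟨c, hc, h8⟩ := SetLike.not_le_iff_exists.1 fun h8 => h7 ((h.mem z).2 ⟨hz.1.1, h8⟩)
  have h9 := two_card_le (inf_le_left : P ⊓ Cen z ≤ P) hc fun h9 => h8 h9.2
  have h10 := two_card_le (H := Z) (K := P ⊓ Cen z ⊓ centralizer (P ⊓ Cen z : Subgroup G))
    (le_inf (h.le hz.1.1) fun v hv => mem_centralizer_iff.2 fun u hu => (h.zc hu.1 hv).symm)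
    ⟨⟨hz.1.1, self_mem_Cen z⟩, mem_centralizer_iff.2 fun u hu => mem_Cen.1 hu.2⟩ h7
  rw [h.card] at h9
  rw [h.cZ] at h10
  exact h3 (mem_Cen.2 (comm_of_two (inf_le_left :
    P ⊓ Cen z ⊓ centralizer (P ⊓ Cen z : Subgroup G) ≤ _) (by omega)
    (fun u hu v hv => (mem_centralizer_iff.1 hu.2 v hv).symm)
    ⟨hb, mem_Cen.2 (mem_Cen.1 hz.2.2).symm⟩ ⟨ha, mem_Cen.2 (mem_Cen.1 hz.1.2).symm⟩))

theorem exists_good (hF : Sat F 2) : ∃ y ∈ P, y ≠ 1 ∧ Good F 8 y := by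
  obtain ⟨y, hy, h0⟩ := h.exists_small
  have h1 : y ∉ Z := fun h1 => by
    rw [inf_eq_left.2 ((h.mem y).1 h1).2, h.card] at h0
    omega
  refine ⟨y, hy, fun h2 => h1 (h2 ▸ one_mem _), fun φ hφ => ?_⟩
  have hyQ : y ∈ P ⊓ Cen y := ⟨hy, self_mem_Cen y⟩
  have h2 := two_card_le (h.le hy) hyQ h1
  have hn : ∀ R, Z ≤ R → R ≤ P → P ≤ normalizer (R : Set G) := fun R h3 h4 =>
    norm_of_comm h4 fun a ha b hb => h3 (h.comm a ha b hb)
  have h3 := centric_CS_le (centric_iso (centric_of_fc (hF.fc_of_fn (fn_of_norm F inf_le_left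
    (hn _ (h.le hy) inf_le_left))) fun x hx => ⟨hx.1, mem_Cen.2 (hx.2 y hyQ).symm⟩) hφ.iso)
  have h4 : Z ≤ img φ (P ⊓ Cen y) := fun z hz => h3 ⟨((h.mem z).1 hz).1,
    fun x hx => (h.zc (hφ.img_le hx) hz).symm⟩
  have h5 : Nat.card (P ⊓ Cen y : Subgroup G) = 2 * Nat.card Z := by rw [h.cZ] at h2 ⊢; omega
  have h6 := hφ.card_img.trans h5
  have hw := mem_img_of_mem (f := φ) hyQ
  by_cases h7 : φ y ∈ Z
  swap
  · refine (card_le_of_le (H := P ⊓ Cen (φ y)) fun s hs => h3 ⟨hs.1, fun x hx => ?_⟩).trans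
      (hφ.card_img.le.trans h0)
    by_cases h8 : x ∈ Z
    · exact h.zc hs.1 h8
    · have h9 := h.zc hs.1 (mul_mem_two h4 h6 hx hw h8 h7)
      rw [mul_assoc, ← mem_Cen.1 hs.2, ← mul_assoc, ← mul_assoc] at h9
      exact mul_right_cancel h9
  exfalso
  have h8 : ∀ s ∈ P, y⁻¹ * (s * y * s⁻¹) ∈ Z := fun s hs => by
    simpa [mul_assoc] using h.comm _ (inv_mem hy) s hs
  obtain ⟨s, hs, h9, h10⟩ : ∃ s ∈ P, s ∉ P ⊓ Cen y ∧ φ (y⁻¹ * (s * y * s⁻¹)) ∈ Z := by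
    obtain ⟨a, ha, h9⟩ := exists_notMem (H := P ⊓ Cen y) (K := P) (by rw [h.card]; omega)
    obtain ⟨b, hb, h10, h11⟩ : ∃ b ∈ P, b * a ∉ P ⊓ Cen y ∧ b ∉ P ⊓ Cen y := by
      by_contra h10
      push Not at h10
      have := card_le_two_inf ha fun b hb => or_iff_not_imp_left.2 (h10 b hb)
      rw [inf_eq_right.2 inf_le_left, h.card] at this
      omega
    by_contra h12
    push Not at h12
    have h13 := mul_mem_two h4 h6 (mem_img_of_mem (h.le hy (h8 b hb)))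
      (mem_img_of_mem (h.le hy (h8 a ha))) (h12 b hb h11) (h12 a ha h9)
    rw [← hφ.mul (h.le hy (h8 b hb)) (h.le hy (h8 a ha))] at h13
    refine h12 _ (mul_mem hb ha) h10 (Set.mem_of_eq_of_mem (congrArg φ ?_) h13)
    calc _ = y⁻¹ * (b * y * (y⁻¹ * (a * y * a⁻¹) * b⁻¹)) := by group
      _ = _ := by rw [h.zc (inv_mem hb) (h8 a ha)]; group
  have h11 := h8 s hs
  have h12 := hn _ (h.le hy) inf_le_left hs
  have h13 : ∀ x ∈ Z, s * x * s⁻¹ = x := fun x hx => by rw [← h.zc hs hx, mul_inv_cancel_right]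
  obtain ⟨r, hr, h14⟩ := induced_of_transv hF hφ.img_le (hn _ h4 hφ.img_le)
    (hφ.iso.autCongr_mem (cA_mem_autGroup F inf_le_left hs)) (h4 h10) ((h.mem _).1 h10).2
    (by rw [hφ.iso.piso.fn_autCongr _ (h.le hy h11), fn_cA h12 (h.le hy h11), h13 _ h11])
    fun v hv => by
      obtain ⟨x, hx, rfl⟩ := hφ.mem_img.1 hv
      rw [hφ.iso.piso.fn_autCongr _ hx, fn_cA h12 hx, ← hφ.mul hx (h.le hy h11)]
      by_cases h14 : x ∈ Z
      · exact Or.inl (by rw [h13 x h14])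
      · refine Or.inr (congrArg φ ?_)
        have h15 := h13 _ (mul_mem_two (h.le hy) h5 hx (inv_mem hyQ) h14 (mt inv_mem_iff.1 h1))
        calc _ = s * (x * y⁻¹) * s⁻¹ * (s * y * s⁻¹) := by group
          _ = _ := by rw [h15, mul_assoc]
  have h15 := h14 _ hw
  rw [hφ.iso.piso.fn_autCongr _ hyQ, fn_cA h12 hyQ, ← h.zc hr h7, mul_inv_cancel_right] at h15
  exact h9 ⟨hs, mem_Cen.2 (mul_inv_eq_iff_eq_mul.1 (hφ.inj (conj_mem_of_norm h12 hyQ) hyQ h15))⟩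

end C4

/-- a group of order thirty-two and class three -/
structure C3 (P : Subgroup G) (t d y g : G) : Prop where
  pg : IsPGroup 2 P
  card : Nat.card P = 32
  tP : t ∈ P
  dP : d ∈ P
  yP : y ∈ P
  gP : g ∈ P
  t1 : t ≠ 1
  tt : t * t = 1
  tc : P ≤ Cen t
  dd : d * d = 1 ∨ d * d = t
  comm : ∀ x ∈ P, ∀ y ∈ P, ∃ c, x * y * x⁻¹ = c * y ∧ (c = 1 ∨ c = t ∨ c = d ∨ c = d * t)
  cen : ∀ z ∈ P, P ≤ Cen z → ∀ c ∈ P, P ≤ Cen c →
    z = 1 ∨ z = t ∨ c = 1 ∨ c = t ∨ c = z ∨ c = z * t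
  yd : y * d * y⁻¹ = d * t
  gd : g * d = d * g
  yg : y * g * y⁻¹ = d * g

namespace C3

variable (h : C3 P t d y g)
include h

omit [Finite G] in
theorem tx (hx : x ∈ P) : x * t = t * x := mem_Cen.1 (h.tc hx)

omit [Finite G] in
theorem ny : y ∉ Cen d := fun h1 => h.t1 (by
  have := h.yd
  rwa [mem_Cen.1 h1, mul_inv_cancel_right, left_eq_mul] at this)

omit [Finite G] in
theorem conj (hx : x ∈ P) (hn : x ∉ Cen d) : x * d * x⁻¹ = d * t := by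
  have h0 : ∀ z, P ≤ Cen z → x * d * x⁻¹ ≠ z := fun z hz h0 => h.ny (by
    rw [show d = z by
      rw [mul_inv_eq_iff_eq_mul, ← mem_Cen.1 (hz hx)] at h0; exact mul_left_cancel h0]
    exact hz h.yP)
  have h1 : P ≤ Cen 1 := fun _ _ => mem_Cen.2 (by simp)
  obtain ⟨c, h2, rfl | rfl | rfl | rfl⟩ := h.comm x hx d h.dP
  · exact absurd (mem_Cen.2 (mul_inv_eq_iff_eq_mul.1 (h2.trans (one_mul _)))) hn
  · rw [h2, h.tx h.dP]
  · rcases h.dd with h3 | h3 <;> rw [h3] at h2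
    exacts [absurd h2 (h0 _ h1), absurd h2 (h0 _ h.tc)]
  · rw [mul_assoc d t, ← h.tx h.dP, ← mul_assoc d] at h2
    rcases h.dd with h3 | h3 <;> rw [h3] at h2
    exacts [absurd (h2.trans (one_mul _)) (h0 _ h.tc), absurd (h2.trans h.tt) (h0 _ h1)]

theorem cM : Nat.card P = 2 * Nat.card (P ⊓ Cen d : Subgroup G) :=
  le_antisymm (card_le_of_two h.tc h.tt fun s hs => (em (s ∈ Cen d)).imp
    (fun h1 => mul_inv_eq_iff_eq_mul.2 (mem_Cen.1 h1)) (h.conj hs))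
    (two_card_le inf_le_left h.yP fun h1 => h.ny h1.2)

theorem mem (hw : w ∈ P) (h8 : 8 < Nat.card (P ⊓ Cen w : Subgroup G)) : w ∈ Cen d := by
  have h1 := card_pow h.pg inf_le_left (i := 3) h8
  have h2 := comm_mem_two (inf_le_left : P ⊓ Cen w ≤ P) (by rw [h.card]; omega) h.yP h.gP
  rw [h.yg, mul_inv_cancel_right] at h2
  exact mem_Cen.2 (mem_Cen.1 h2.2).symm

omit [Finite G] in
theorem conj_sq (hx : x ∈ P) (hn : x ∉ Cen d) {s : G} (hs : s ∈ P) :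
    s * (x * x) * s⁻¹ = x * x ∨ s * (x * x) * s⁻¹ = x * x * (d * d * t) := by
  have h1 := h.conj hx hn
  have h0 : P ≤ Cen (d * d * t) := fun r hr => mem_Cen.2 (by
    rcases h.dd with h0 | h0 <;> simp [h0, h.tt, h.tx hr])
  obtain ⟨c, h2, h3⟩ := h.comm s hs x hx
  rw [mem_Cen.1 (h0 (mul_mem hx hx)), show s * (x * x) * s⁻¹ = c * (x * c * x⁻¹) * (x * x) by
    calc _ = s * x * s⁻¹ * (s * x * s⁻¹) := by group
      _ = _ := by rw [h2]; group]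
  rcases h3 with rfl | rfl | rfl | rfl
  · simp
  · rw [h.tx hx, mul_inv_cancel_right, h.tt, one_mul]
    exact Or.inl rfl
  · rw [h1, mul_assoc c c]
    exact Or.inr rfl
  · refine Or.inr (congrArg (· * _) ?_)
    rw [← mul_assoc x, mul_assoc _ t x⁻¹, ← h.tx (inv_mem hx), ← mul_assoc (x * d), h1,
      mul_assoc d t t, h.tt, mul_one, mul_assoc, ← h.tx h.dP, mul_assoc]

omit [Finite G] in
theorem comm_d (hw : w ∈ P) (hd : w ∈ Cen d) {c : G} (hc : c = 1 ∨ c = t ∨ c = d ∨ c = d * t) :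
    w * c = c * w := by
  rcases hc with rfl | rfl | rfl | rfl
  exacts [by simp, h.tx hw, mem_Cen.1 hd, by
    rw [← mul_assoc, mem_Cen.1 hd, mul_assoc, h.tx hw, mul_assoc]]

omit [Finite G] in
theorem map_d {φ : G → G} (hφ : Mor F P φ) : φ d = 1 ∨ φ d = t ∨ φ d = d ∨ φ d = d * t := by
  obtain ⟨c, h1, h2⟩ := h.comm _ (hφ.maps h.yP) _ (hφ.maps h.gP)
  rw [← hφ.mul.map_conj h.yP h.gP, h.yg, hφ.mul h.dP h.gP] at h1
  rwa [mul_right_cancel h1]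

theorem good_one (hF : Sat F 2) (h1 : d * d = 1) : Good F 8 y := fun φ hφ => by
  by_contra h2
  have hy : y ∈ P ⊓ Cen y := ⟨h.yP, self_mem_Cen y⟩
  have hw := hφ.maps hy
  have h3 := h.mem hw (not_le.1 h2)
  have h4 : P ≤ Cen (φ (y * y)) := fun s hs => mem_Cen.2 (by
    obtain ⟨c, h4, h5⟩ := h.comm s hs _ hw
    have h6 : c * c = 1 := by
      rcases h5 with rfl | rfl | rfl | rfl
      exacts [mul_one _, h.tt, h1, by
        rw [mul_assoc, ← mul_assoc t, ← h.tx h.dP, mul_assoc d t, h.tt, mul_one, h1]]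
    rw [hφ.mul hy hy, ← mul_inv_eq_iff_eq_mul]
    calc _ = s * φ y * s⁻¹ * (s * φ y * s⁻¹) := by group
      _ = _ := by rw [h4, mul_assoc, ← mul_assoc (φ y), h.comm_d hw h3 h5, ← mul_assoc, ← mul_assoc,
        h6, one_mul])
  obtain ⟨ψ, hψ, h5⟩ := ext_of_cen hF hφ (mul_mem hy hy) h4
  have h6 : ∀ s ∈ P, s * (y * y) * s⁻¹ = y * y ∨ s * (y * y) * s⁻¹ = y * y * t := fun s hs => by
    simpa [h1] using h.conj_sq h.yP h.ny hs
  have h7 : ¬ P ≤ Cen (y * y) := fun h7 => h.t1 (by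
    have h8 : y * y * g * (y * y)⁻¹ = t * g := by
      calc _ = y * (y * g * y⁻¹) * y⁻¹ := by group
        _ = y * (d * g) * y⁻¹ := by rw [h.yg]
        _ = y * d * y⁻¹ * (y * g * y⁻¹) := by group
        _ = _ := by rw [h.yd, h.yg, h.tx h.dP, mul_assoc, ← mul_assoc d, h1, one_mul]
    rwa [← mem_Cen.1 (h7 h.gP), mul_inv_cancel_right, right_eq_mul] at h8)
  have h8 := card_le_of_two h.tc h.tt h6
  have a1 : y ∈ P ⊓ Cen (y * y) := ⟨h.yP, mem_Cen.2 (mul_assoc _ _ _).symm⟩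
  have a2 : t ∈ P ⊓ Cen (y * y) := ⟨h.tP, mem_Cen.2 (h.tx (mul_mem h.yP h.yP)).symm⟩
  have a3 : d ∈ P ⊓ Cen (y * y) := by
    simpa [h.yg] using comm_mem_two inf_le_left h8 h.yP h.gP
  obtain ⟨c, h9, h10⟩ := h.comm _ (hψ.maps a1) _ (hψ.maps a3)
  rw [← hψ.mul.map_conj a1 a3, h.yd, h.tx h.dP, hψ.mul a2 a3] at h9
  rw [← mul_right_cancel h9] at h10
  have h11 : ¬ P ≤ Cen (ψ t) := fun h11 =>
    h7 (cen_of_pair hF hψ (mul_mem a1 a1) a2 h.tc h6 (h5 ▸ h4) h11)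
  have h12 : ∀ x ∈ P ⊓ Cen (y * y), ψ x ∈ Cen d := fun x hx => mem_Cen.2 (by
    have h12 := congrArg ψ (h.tx hx.1)
    rw [hψ.mul hx a2, hψ.mul a2 hx] at h12
    rcases h10 with h10 | h10 | h10 | h10
    · exact absurd (fun _ _ => mem_Cen.2 (by simp [h10])) h11
    · exact absurd (h10.symm ▸ h.tc) h11
    · rwa [h10] at h12
    · rw [h10, mul_assoc, ← h.tx (hψ.maps hx), ← mul_assoc, ← mul_assoc] at h12
      exact mul_right_cancel h12)
  obtain ⟨γ, hγ, h13⟩ := exists_aut_of_norm hF hψ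
    (norm_of_comm inf_le_left fun a ha b hb => comm_mem_two inf_le_left h8 ha hb)
    (norm_of_comm hψ.img_le fun a ha b hb => comm_mem_two hψ.img_le (hψ.card_img ▸ h8) ha hb)
  obtain ⟨x, hx, h14⟩ := h13 y a1
  refine h.ny (mem_Cen.2 (hγ.inj (mul_mem h.yP h.dP) (mul_mem h.dP h.yP) ?_))
  rw [hγ.mul h.yP h.dP, hγ.mul h.dP h.yP]
  exact h.comm_d (hγ.maps h.yP) (h14 ▸ h12 x hx) (h.map_d hγ)

end C3

end CF.BlockK
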