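import Cfsg.Agent.BlockK.O3

/-!
# Olsson's bound for two-blocks of defect at most five
-/

namespace CF.BlockK

open Cfsg MonoidAlgebra Subgroup CF.Block CF.BlockB CF.Invol CF.Fus

universe u

variable {M : Ideal AlgInt} {G : Type u} [Group G] [Finite G] {B : Set (IrrCharacter G)}
  {P : Subgroup G} {e : (k M)[G]} {F : FusionSystem P} {t d y g x z : G}

namespace C3

variable (h : C3 P t d y g)
include h

omit [Finite G] in
theorem four (hz : z ∈ P) (hc : P ≤ Cen z) : z ^ 4 = 1 := by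
  rw [show z ^ 4 = z * z * (z * z) by simp [pow_succ, mul_assoc]]
  rcases h.cen z hz hc _ (mul_mem hz hz) fun s hs => mem_Cen.2 (by
    rw [← mul_assoc, mem_Cen.1 (hc hs), mul_assoc, mem_Cen.1 (hc hs), mul_assoc]) with
    h1 | h1 | h1 | h1 | h1 | h1
  exacts [by simp [h1], by simp [h1, h.tt], by simp [h1], by simp [h1, h.tt],
    by simp [mul_eq_left.1 h1], by simp [mul_left_cancel h1, h.tt]]

omit [Finite G] in
theorem nyg : y * g ∉ Cen d := fun h1 => h.ny (by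
  simpa using mul_mem h1 (inv_mem (mem_Cen.2 h.gd)))

variable (h1 : d * d = t)
include h1

omit [Finite G] in
theorem sq_cen (hx : x ∈ P) (hn : x ∉ Cen d) : P ≤ Cen (x * x) := fun s hs =>
  mem_Cen.2 (mul_inv_eq_iff_eq_mul.1 (by simpa [h1, h.tt] using h.conj_sq hx hn hs))

omit [Finite G] in
theorem sq_yg : y * g * (y * g) = d * g * g * (y * y) := by
  calc _ = y * g * y⁻¹ * (y * y * g) := by group
    _ = _ := by rw [h.yg, ← mem_Cen.1 (h.sq_cen h1 h.yP h.ny h.gP), mul_assoc (d * g)]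

omit [Finite G] in
theorem zc : P ≤ Cen (d * g * g) := fun s hs => mem_Cen.2 (mul_right_cancel (b := y * y) (by
  rw [mul_assoc _ s, mem_Cen.1 (h.sq_cen h1 h.yP h.ny hs), ← mul_assoc _ _ s, mul_assoc s,
    ← h.sq_yg h1]
  exact mem_Cen.1 (h.sq_cen h1 (mul_mem h.yP h.gP) h.nyg hs)))

omit [Finite G] in
theorem zz : (d * g * g) ^ 2 = t * g ^ 4 := by
  have h2 : Commute d g := h.gd.symm
  rw [mul_assoc, ← pow_two, (h2.pow_right 2).mul_pow, pow_two d, h1, ← pow_mul]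

omit [Finite G] in
theorem exists_eight : ∃ x ∈ P, x ^ 4 ≠ 1 := by
  by_contra h2
  push Not at h2
  have h3 := h2 _ (mul_mem h.yP h.gP)
  have h4 : Commute (d * g * g) (y * y) :=
    (mem_Cen.1 (h.zc h1 (mul_mem h.yP h.yP))).symm
  rw [show 4 = 2 * 2 from rfl, pow_mul, pow_two (y * g), h.sq_yg h1, h4.mul_pow, h.zz h1,
    h2 g h.gP, ← pow_two, ← pow_mul, h2 y h.yP] at h3
  exact h.t1 (by simpa using h3)

theorem ab (hx : x ∈ P) (h2 : x ^ 4 ≠ 1) (h3 : 8 < Nat.card (P ⊓ Cen x : Subgroup G)) :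
    (∀ a ∈ P ⊓ Cen d, ∀ b ∈ P ⊓ Cen d, a * b = b * a) ∧
      ∀ a ∈ P ⊓ Cen d, a ^ 4 = 1 → a * a = 1 ∨ a * a = t := by
  obtain ⟨s, h4, h5⟩ := SetLike.not_le_iff_exists.1 fun h4 => h2 (h.four hx h4)
  have h6 := two_card_le (inf_le_left : P ⊓ Cen x ≤ P) h4 fun h6 => h5 h6.2
  have h7 : zpowers x ≤ P ⊓ Cen x := zpowers_le_of_mem ⟨hx, self_mem_Cen x⟩
  obtain ⟨i, hi⟩ := exists_orderOf_of_mem Nat.prime_two h.pg hx
  rw [Ne, ← orderOf_dvd_iff_pow_eq_one, hi] at h2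
  have h8 : 2 ^ 3 ≤ 2 ^ i := Nat.pow_le_pow_right two_pos (by
    by_contra h3
    exact h2 (pow_dvd_pow 2 (show i ≤ 2 by omega)))
  have h9 : Nat.card (P ⊓ Cen x : Subgroup G) ≤ 2 * Nat.card (zpowers x) := by
    rw [Nat.card_zpowers, hi]; rw [h.card] at h6; omega
  have h10 : ∀ a ∈ P ⊓ Cen x, ∀ b ∈ P ⊓ Cen x, a * b = b * a := fun a ha b hb =>
    comm_of_two h7 h9 (fun u hu v hv => (commute_of_mem_zpowers (mem_Cen.1 hv.2) hu).symm) ha hb
  have hd : d ∈ P ⊓ Cen x := ⟨h.dP, mem_Cen.2 (mem_Cen.1 (h.mem hx h3)).symm⟩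
  have h11 : P ⊓ Cen x = P ⊓ Cen d := eq_of_le_of_card_ge
    (le_inf inf_le_left fun a ha => mem_Cen.2 (h10 a ha d hd)) (by
      have := h.cM
      have := card_pow h.pg inf_le_left (i := 3) h3
      have := h.card
      omega)
  have h12 : ∀ a ∈ P ⊓ Cen x, a * a ∈ zpowers x := fun a ha => by
    by_cases h12 : a ∈ zpowers x
    · exact mul_mem h12 h12
    · exact mul_mem_two h7 (le_antisymm h9 (two_card_le h7 ha h12)) ha ha h12 h12
  refine h11 ▸ ⟨h10, fun a ha h13 => or_iff_not_imp_left.2 fun h14 =>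
    eq_of_invol_of_isCyclic inferInstance (h12 a ha) (h1 ▸ h12 d hd)
      (orderOf_eq_prime (by rw [← pow_two, ← pow_mul, h13]) h14)
      (orderOf_eq_prime (by rw [pow_two, h.tt]) h.t1)⟩

omit [Finite G] in
theorem map_t {φ : G → G} (hφ : Mor F P φ) : φ t = t := by
  have h2 : φ t ≠ 1 := fun h2 => h.t1 (hφ.inj h.tP (one_mem _) (h2.trans hφ.mul.map_one.symm))
  rw [← h1, hφ.mul h.dP h.dP] at h2 ⊢
  rcases h.map_d hφ with h3 | h3 | h3 | h3 <;> rw [h3] at h2 ⊢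
  exacts [absurd (mul_one 1) h2, absurd h.tt h2, by
    rw [mul_assoc, ← mul_assoc t, ← h.tx h.dP, mul_assoc d t, h.tt, mul_one]]

theorem cases (hF : Sat F 2) : (∃ v ∈ P, v ≠ 1 ∧ Good F 8 v) ∨ (orderOf g = 8 ∧
    (y * g * y⁻¹ = g ^ 3 ∨ y * g * y⁻¹ = g ^ 7) ∧
    (∀ s ∈ P, s * g * s⁻¹ = g ∨ s * g * s⁻¹ = y * g * y⁻¹) ∧
    Nat.card (P ⊓ Cen g : Subgroup G) = 16) := by
  by_cases hx : ∃ x ∈ P, x ^ 4 ≠ 1 ∧ 8 < Nat.card (P ⊓ Cen x : Subgroup G)
  swap
  · obtain ⟨v, hv, h2⟩ := h.exists_eight h1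
    have h3 : v ∈ P ⊓ Cen v := ⟨hv, self_mem_Cen v⟩
    refine Or.inl ⟨v, hv, fun h4 => h2 (by simp [h4]), fun φ hφ => not_lt.1 fun h4 =>
      hx ⟨_, hφ.maps h3, fun h5 => h2 (hφ.inj (pow_mem h3 4) (one_mem _) ?_), h4⟩⟩
    rw [hφ.mul.map_pow h3, h5, hφ.mul.map_one]
  obtain ⟨x, hx, h2, h3⟩ := hx
  obtain ⟨h4, h5⟩ := h.ab h1 hx h2 h3
  have hg : g ∈ P ⊓ Cen d := ⟨h.gP, mem_Cen.2 h.gd⟩
  have hz := h.zc h1
  have hzP := mul_mem (mul_mem h.dP h.gP) h.gP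
  have h6 : g ^ 4 ≠ 1 := fun h6 => h.ny (mem_Cen.2 (by
    have h7 := mem_Cen.1 (hz h.yP)
    rcases h5 g hg h6 with h8 | h8 <;> rw [mul_assoc d g g, h8] at h7
    · simpa using h7
    · rw [mul_assoc d, ← h.tx h.yP, ← mul_assoc, ← mul_assoc] at h7
      exact mul_right_cancel h7))
  have h7 : g ^ 8 = 1 := by
    have h7 := h.four hzP hz
    have h8 : Commute t (g ^ 4) := (h.tx (pow_mem h.gP 4)).symm
    rwa [show 4 = 2 * 2 from rfl, pow_mul, h.zz h1, h8.mul_pow, pow_two t, h.tt, one_mul,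
      ← pow_mul] at h7
  have h8 : g ^ 4 = t := by
    have h8 := h5 _ (pow_mem hg 2) (by rw [← pow_mul, h7])
    rw [← pow_add] at h8
    exact h8.resolve_left h6
  by_cases h9 : d * g * g = 1 ∨ d * g * g = t
  · have h10 : y ∉ Cen g := fun h10 => h.t1 (by
      have h11 := h.yg
      rw [mem_Cen.1 h10, mul_inv_cancel_right, right_eq_mul] at h11
      rw [← h1, h11, mul_one])
    refine Or.inr ⟨orderOf_eq_prime_pow (p := 2) (n := 2) h6 h7, h9.symm.imp (fun h11 => ?_)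
      fun h11 => ?_, fun s hs => (em (s ∈ Cen d)).imp (fun h11 => ?_) fun h11 => ?_, ?_⟩
    · rw [h.yg, ← mul_left_inj g, h11, ← pow_succ, h8]
    · rw [h.yg, ← mul_left_inj g, h11, ← pow_succ, h7]
    · rw [h4 s ⟨hs, h11⟩ g hg, mul_inv_cancel_right]
    · have h12 := h4 _ (mul_mem_two inf_le_left h.cM (inv_mem h.yP) hs
        (fun h12 => h.ny (inv_mem_iff.1 h12.2)) fun h12 => h11 h12.2) g hg
      calc _ = y * (y⁻¹ * s * g) * s⁻¹ := by group
        _ = _ := by rw [h12]; group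
    · have h11 := two_card_le (inf_le_left : P ⊓ Cen g ≤ P) h.yP fun h11 => h10 h11.2
      have h12 := card_le_of_le (le_inf inf_le_left fun a ha => mem_Cen.2 (h4 a ha g hg) :
        P ⊓ Cen d ≤ P ⊓ Cen g)
      have := h.cM
      have := h.card
      omega
  have h10 : d * g * g * (d * g * g) = 1 := by rw [← pow_two, h.zz h1, h8, h.tt]
  obtain ⟨v, hv, h11, h12⟩ : ∃ v ∈ P, v ∉ Cen d ∧ (v * v = d * g * g ∨ v * v = d * g * g * t) := by
    rcases h.cen _ hzP hz _ (mul_mem h.yP h.yP) (h.sq_cen h1 h.yP h.ny) with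
      h11 | h11 | h11 | h11 | h11
    exacts [absurd (Or.inl h11) h9, absurd (Or.inr h11) h9,
      ⟨_, mul_mem h.yP h.gP, h.nyg, Or.inl (by rw [h.sq_yg h1, h11, mul_one])⟩,
      ⟨_, mul_mem h.yP h.gP, h.nyg, Or.inr (by rw [h.sq_yg h1, h11])⟩, ⟨y, h.yP, h.ny, h11⟩]
  refine Or.inl ⟨v, hv, fun h13 => h11 (h13 ▸ one_mem _), fun φ hφ => not_lt.1 fun h13 => h9 ?_⟩
  have h14 : v ∈ P ⊓ Cen v := ⟨hv, self_mem_Cen v⟩
  have h15 : v * v = 1 ∨ v * v = t := by
    refine (h5 _ ⟨hφ.maps h14, h.mem (hφ.maps h14) h13⟩ ?_).imp (fun h15 => ?_) fun h15 => ?_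
    · rw [← hφ.mul.map_pow h14, show 4 = 2 * 2 from rfl, pow_mul, pow_two, pow_two,
        ← hφ.mul.map_one]
      rcases h12 with h12 | h12 <;> rw [h12]
      · rw [h10]
      · rw [mul_assoc _ t, ← mul_assoc t, ← h.tx hzP, mul_assoc _ t t, h.tt, mul_one, h10]
    · exact hφ.inj (mul_mem h14 h14) (one_mem _) (by rw [hφ.mul h14 h14, h15, hφ.mul.map_one])
    · exact fix_of_cen hF hφ (mul_mem h14 h14) (h.sq_cen h1 hv h11) h.tc
        (by rw [hφ.mul h14 h14, h15]) h.tP fun γ hγ => h.map_t h1 hγ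
  rcases h12 with h12 | h12 <;> rw [h12] at h15
  · exact h15
  · exact h15.symm.imp mul_eq_right.1 fun h16 => by
      rw [← mul_one (d * g * g), ← h.tt, ← mul_assoc, h16, one_mul]

end C3

variable (hM : IsPModular 2 M) (hB : IsPBlock M B) (he : MaxPair 2 ⊤ (eb M B) P e)
include hM hB he

theorem kz_le_eight (hF : IsBFS 2 ⊤ P e F) (h : ∃ y ∈ P, y ≠ 1 ∧ Good F 8 y) : kz B ≤ 8 := by
  obtain ⟨y, hy, h1, h2⟩ := h
  have h3 : 1 < orderOf y := Nat.one_lt_iff_ne_zero_and_ne_one.2 ⟨(orderOf_pos y).ne',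
    mt orderOf_eq_one_iff.1 h1⟩
  exact kz_le_of_mor hM hB he hF hy (by omega) h2

theorem C3.kz_le (h : C3 P t d y g) : kz B ≤ 8 := by
  have := charP_k hM
  obtain ⟨F, hF⟩ := he.bpair.pair.exists_isBFS
  rcases h.dd with h1 | h1
  · exact kz_le_eight hM hB he hF ⟨y, h.yP, fun h2 => h.ny (h2 ▸ one_mem _),
      h.good_one (hF.sat he) h1⟩
  rcases h.cases h1 (hF.sat he) with h2 | ⟨h2, h3, h4, h5⟩
  · exact kz_le_eight hM hB he hF h2
  refine kz_le_of_eight hM hB he h.gP h.yP h2 h3 h4 h5 fun w hw => ?_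
  obtain ⟨s, h6, h7⟩ := SetLike.not_le_iff_exists.1 fun h6 => by
    have := orderOf_dvd_of_pow_eq_one (h.four hw.right h6)
    rw [← FConj.orderOf_eq' hw, h2] at this
    omega
  have h8 := two_card_le (inf_le_left : P ⊓ Cen w ≤ P) h6 fun h8 => h7 h8.2
  rw [h.card] at h8
  omega

theorem kz_eq_four (hn : ¬ IsMulCommutative P) (h : (_root_.commutator P).index = 4) :
    kz B = 4 := by
  have := charP_k hM
  have := Fintype.ofFinite P
  have hp := he.bpair.pair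
  have h4 : 4 < Nat.card P := by
    have h1 := (_root_.commutator P).index_mul_card
    have h2 : 1 < Nat.card (_root_.commutator P) := (one_lt_card_iff_ne_bot _).2
      fun h2 => hn (center_eq_top_iff.1 ((commutator_eq_bot_iff_center_eq_top _).1 h2))
    rw [h] at h1
    omega
  rcases Fus.dqs_of_index hp.isP hn h with ⟨m, ⟨φ⟩⟩ | ⟨m, ⟨φ⟩⟩ | hs
  · have h1 : Nat.card P = 2 * m := (Nat.card_congr φ.toEquiv).trans DihedralGroup.nat_card
    obtain ⟨n, a, b, rfl, h⟩ := exists_dh hp.isP (by omega) φ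
    refine (dihedral_main hM hB he h ?_).2.2.1
    by_contra h2
    have := Nat.pow_le_pow_right two_pos (show n ≤ 1 by omega)
    omega
  · have h0 : m ≠ 0 := by
      rintro rfl
      have := Finite.of_equiv _ φ.toEquiv
      have : Finite ℤ := Finite.of_injective (QuaternionGroup.a (n := 0)) fun _ _ h => by injection h
      exact not_finite ℤ
    have : NeZero m := ⟨h0⟩
    have h1 : Nat.card P = 4 * m := by
      rw [Nat.card_congr φ.toEquiv, Nat.card_eq_fintype_card, QuaternionGroup.card]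
    obtain ⟨i, hi⟩ := hp.isP.exists_card_eq
    obtain ⟨n, -, rfl⟩ := (Nat.dvd_prime_pow Nat.prime_two).1 (hi ▸ h1 ▸ Dvd.intro_left 4 rfl)
    obtain ⟨a, b, h⟩ := exists_qt φ
    have h2 : n ≠ 0 := by rintro rfl; omega
    exact (quat_main hM hB he h (by omega) fun l => h.orderOf_b_eq_four.2 (by ring)).2.2.1
  · obtain ⟨m, a, b, h⟩ := exists_qd hs
    exact (qd_main hM hB he h).1

omit hM hB he in
theorem exists_c3 (hP : IsPGroup 2 P) (h32 : Nat.card P = 32) (hK : Nat.card (⁅P, P⁆ :) = 4)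
    (hZ : Nat.card (CS P P) ≤ 4) (ht : t ∈ ⁅P, P⁆ ⊓ CS P P) (h1 : t ≠ 1)
    (hn : ¬ ⁅P, P⁆ ≤ CS P P) : ∃ d y g, C3 P t d y g := by
  have hKP : ⁅P, P⁆ ≤ P := by rw [← map_subtype_commutator]; exact map_subtype_le _
  have hc : ∀ a ∈ P, ∀ b ∈ P, a * b * a⁻¹ * b⁻¹ ∈ ⁅P, P⁆ := fun a ha b hb =>
    commutator_mem_commutator ha hb
  have hm : ∀ z, z ∈ CS P P ↔ z ∈ P ∧ P ≤ Cen z := fun z => Iff.rfl.and
    ⟨fun h s hs => mem_Cen.2 (h s hs), fun h s hs => mem_Cen.1 (h hs)⟩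
  have tc := ((hm t).1 ht.2).2
  obtain ⟨a, ha, h2⟩ := SetLike.not_le_iff_exists.1 hn
  have h3 := two_card_le (inf_le_left : ⁅P, P⁆ ⊓ CS P P ≤ _) ha fun h3 => h2 h3.2
  have h4 := two_card_le bot_le ht h1
  have h5 : Nat.card (⁅P, P⁆ ⊓ CS P P : Subgroup G) = 2 := by rw [card_bot] at h4; omega
  have tt : t * t = 1 := by rw [← pow_two, ← h5, pow_card_of_mem ht]
  have h6 : ∀ c ∈ ⁅P, P⁆ ⊓ CS P P, c = 1 ∨ c = t := fun c hc =>
    eq_or_of_mul_self tt (eq_zpowers (h5 ▸ Nat.prime_two) ht h1 ▸ hc)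
  have h7 : ∀ d ∈ ⁅P, P⁆, d ∉ CS P P → ∀ c ∈ ⁅P, P⁆, c ∉ CS P P → c = d ∨ c = d * t :=
    fun d hd h7 c hc h8 => (h6 _ (mul_mem_two inf_le_left (by omega) (inv_mem hd) hc
      (fun h9 => h7 (inv_mem_iff.1 h9.2)) fun h9 => h8 h9.2)).imp
      (fun h9 => (inv_mul_eq_one.1 h9).symm) inv_mul_eq_iff_eq_mul.1
  have h8 : ∀ d ∈ ⁅P, P⁆, d ∉ CS P P → ∀ x ∈ P, x ∉ Cen d → x * d * x⁻¹ = d * t :=
    fun d hd h8 x hx h9 => (h7 d hd h8 _ (by simpa using mul_mem (hc x hx d (hKP hd)) hd)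
      fun h10 => h8 (by simpa [mul_assoc] using
        conj_mem_of_norm' (NS_le_norm_CS (NS_self.ge hx)) h10)).resolve_left
      fun h10 => h9 (mem_Cen.2 (mul_inv_eq_iff_eq_mul.1 h10))
  obtain ⟨y, hy, h9⟩ := SetLike.not_le_iff_exists.1 fun h9 => h2 ((hm a).2 ⟨hKP ha, h9⟩)
  obtain ⟨r, hr, h10⟩ : ∃ r ∈ P, y * r * y⁻¹ * r⁻¹ ∉ CS P P := by
    by_contra h10
    push Not at h10
    have h11 := card_le_of_two tc tt (u := y) fun s hs => (h6 _ ⟨hc y hy s hs, h10 s hs⟩).imp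
      (fun h11 => ?_) fun h11 => ?_
    · exact h9 (mem_Cen.2 (mem_Cen.1 (commutator_le.2 (fun a ha b hb =>
        comm_mem_two inf_le_left h11 ha hb) ha).2).symm)
    · rw [← one_mul (s * y * s⁻¹), ← h11]; group
    · rw [← one_mul (s * y * s⁻¹), ← tt, mem_Cen.1 (tc hy), mul_assoc, mul_right_inj, ← h11]
      group
  obtain ⟨d, hd⟩ : ∃ d, d = y * r * y⁻¹ * r⁻¹ := ⟨_, rfl⟩
  have h11 : d ∈ ⁅P, P⁆ := hd ▸ hc y hy r hr
  rw [← hd] at h10
  have h12 : y * d * y⁻¹ = d * t := h8 d h11 h10 y hy fun h12 => h9 (mem_Cen.2 (by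
    have h13 := mem_Cen.1 h12
    rcases h7 a ha h2 d h11 h10 with h14 | h14 <;> rw [h14] at h13
    · exact h13
    · rw [mul_assoc a, ← mem_Cen.1 (tc hy), ← mul_assoc, ← mul_assoc] at h13
      exact mul_right_cancel h13))
  obtain ⟨g, hg, h13, h14⟩ : ∃ g ∈ P, g * d = d * g ∧ y * g * y⁻¹ = d * g := by
    by_cases h13 : r ∈ Cen d
    · exact ⟨r, hr, mem_Cen.1 h13, by rw [hd]; group⟩
    refine ⟨_, mul_mem hr hy, mul_inv_eq_iff_eq_mul.1 ?_, by rw [hd]; group⟩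
    calc _ = r * (y * d * y⁻¹) * r⁻¹ := by group
      _ = r * d * r⁻¹ * t := by
        rw [h12, ← mul_assoc, mul_assoc _ t, ← mem_Cen.1 (tc (inv_mem hr)), mul_assoc (r * d)]
      _ = d := by rw [h8 d h11 h10 r hr h13, mul_assoc, tt, mul_one]
  refine ⟨d, y, g, hP, h32, hKP ht.1, hKP h11, hy, hg, h1, tt, tc, h6 _ (mul_mem_two inf_le_left
    (by omega) h11 h11 (fun h => h10 h.2) fun h => h10 h.2), fun a ha b hb =>
    ⟨_, (inv_mul_cancel_right _ _).symm, ?_⟩, fun z h15 h16 c h17 h18 => ?_, h12, h13, h14⟩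
  · by_cases h15 : a * b * a⁻¹ * b⁻¹ ∈ CS P P
    · exact (h6 _ ⟨hc a ha b hb, h15⟩).imp_right Or.inl
    · exact Or.inr (Or.inr (h7 d h11 h10 _ (hc a ha b hb) h15))
  have h19 := (hm z).2 ⟨h15, h16⟩
  have h20 := (hm c).2 ⟨h17, h18⟩
  by_cases h21 : z ∈ ⁅P, P⁆
  · exact (h6 z ⟨h21, h19⟩).imp_right Or.inl
  by_cases h22 : c ∈ ⁅P, P⁆
  · exact Or.inr (Or.inr ((h6 c ⟨h22, h20⟩).imp_right Or.inl))
  have h23 := two_card_le (inf_le_right : ⁅P, P⁆ ⊓ CS P P ≤ _) h19 fun h => h21 h.1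
  exact Or.inr (Or.inr (Or.inr (Or.inr ((h6 _ (mul_mem_two inf_le_right (by omega) (inv_mem h19) h20
    (fun h => h21 (inv_mem_iff.1 h.1)) fun h => h22 h.1)).imp
    (fun h => (inv_mul_eq_one.1 h).symm) inv_mul_eq_iff_eq_mul.1))))

/-- Olsson's bound for two-blocks of defect at most five. -/
theorem kz_le_index (h32 : Nat.card P ≤ 32) : kz B ≤ (_root_.commutator P).index := by
  have := charP_k hM
  have hP := he.bpair.pair.isP
  have h0 := (_root_.commutator P).index_mul_card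
  by_cases hn : IsMulCommutative P
  · rw [(commutator_eq_bot_iff_center_eq_top _).2 (center_eq_top_iff.2 hn), index_bot]
    refine (Nat.card_le_card_of_injective (fun χ => (⟨χ.1, χ.2.1⟩ : B))
      fun _ _ h => Subtype.ext (Subtype.mk.inj h)).trans ?_
    have hD := (isDefectGroup_iff hM hB _).2 he.isDefGrp
    by_cases h1 : Nat.card P ≤ 16
    · exact card_le_sixteen hM hB hD bot_le (by simp) inferInstance (by rwa [relIndex_bot_left])
    obtain ⟨u, hu, h2⟩ := exists_notMem (H := ⊥) (K := P) (by rw [card_bot]; omega)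
    refine card_le_sixteen hM hB hD (zpowers_le_of_mem hu) (fun z hz d hd => congrArg Subtype.val
      (hn.1.1 ⟨z, zpowers_le_of_mem hu hz⟩ ⟨d, hd⟩)) inferInstance ?_
    have h3 := two_card_le bot_le (mem_zpowers u) h2
    have h4 := ((zpowers u).subgroupOf P).index_mul_card
    rw [Nat.card_congr (subgroupOfEquivOfLe (zpowers_le_of_mem hu)).toEquiv] at h4
    rw [card_bot] at h3
    unfold relIndex
    nlinarith
  by_cases h4 : (_root_.commutator P).index = 4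
  · exact (kz_eq_four hM hB he hn h4).trans_le h4.ge
  have h1 : 8 ≤ (_root_.commutator P).index := by
    obtain ⟨c, h1⟩ := Fgs2.sq_dvd_index_commutator hP fun _ => hn inferInstance
    have := (_root_.commutator P).index_ne_zero_of_finite
    omega
  have := hP.isNilpotent
  obtain ⟨t, h2, h3⟩ := (bot_or_exists_ne_one _).resolve_left (Solv.normal_inf_center_ne_bot
    (_root_.commutator P) fun h2 => hn (center_eq_top_iff.1
      ((commutator_eq_bot_iff_center_eq_top _).1 h2)))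
  have ht : (t : G) ∈ ⁅P, P⁆ ⊓ CS P P := by
    rw [← map_subtype_commutator, ← map_center]
    exact ⟨mem_map_of_mem _ h2.1, mem_map_of_mem _ h2.2⟩
  have h5 : (t : G) ≠ 1 := by simpa using h3
  have h6 := two_card_le bot_le ht.1 h5
  have hc : ∀ a ∈ P, ∀ b ∈ P, a * b * a⁻¹ * b⁻¹ ∈ ⁅P, P⁆ := fun a ha b hb =>
    commutator_mem_commutator ha hb
  have hm : ∀ z, z ∈ CS P P ↔ z ∈ P ∧ P ≤ Cen z := fun z => Iff.rfl.and
    ⟨fun h s hs => mem_Cen.2 (h s hs), fun h s hs => mem_Cen.1 (h hs)⟩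
  rw [card_commutator] at h0
  rw [card_bot] at h6
  by_cases h7 : Nat.card (⁅P, P⁆ :) = 2
  · have tt : (t : G) * t = 1 := by rw [← pow_two, ← h7, pow_card_of_mem ht.1]
    have tc := ((hm t).1 ht.2).2
    have h8 := C2.kz_le ⟨t.2, h5, tt, tc, fun x hx y hy => (eq_or_of_mul_self tt
      (eq_zpowers (h7 ▸ Nat.prime_two) ht.1 h5 ▸ hc x hx y hy)).imp mul_inv_eq_one.1 fun h => by
        rw [mem_Cen.1 (tc hy), ← h, inv_mul_cancel_right], by
      by_contra h8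
      push Not at h8
      exact hn ⟨⟨fun x y => Subtype.ext (mem_Cen.1 (h8 x x.2 y y.2))⟩⟩⟩ hM hB he h32
    rw [h7] at h0
    omega
  have h8 := card_pow hP (i := 1) (H := ⁅P, P⁆)
    (by rw [← map_subtype_commutator]; exact map_subtype_le _) (by omega)
  have h9 : Nat.card (⁅P, P⁆ :) = 4 := by
    have := Nat.mul_le_mul_right (Nat.card (⁅P, P⁆ :)) h1
    omega
  rw [h9] at h0
  have h10 : Nat.card (CS P P) ≤ 4 := by
    by_contra h10
    have h11 := card_pow hP (i := 2) (CS_le (P := P)) (by omega)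
    have h12 := (center P).index_mul_card
    rw [card_center] at h12
    have h13 := (sq_of_le hP hn (by
      have := Nat.mul_le_mul_left (center P).index h11
      omega)).card_comm
    rw [card_commutator] at h13
    omega
  refine le_trans ?_ h1
  by_cases h11 : ⁅P, P⁆ ≤ CS P P
  · obtain ⟨F, hF⟩ := he.bpair.pair.exists_isBFS
    have := card_le_of_le h11
    exact kz_le_eight hM hB he hF (C4.exists_good ⟨hP, by omega, by omega, hm,
      fun a ha b hb => h11 (hc a ha b hb)⟩ (hF.sat he))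
  · obtain ⟨d, y, g, h⟩ := exists_c3 hP (by omega) h9 h10 ht h5 h11
    exact h.kz_le hM hB he

end CF.BlockK
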