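import Cfsg.Agent.BlockK.O4

/-!
# Groups of order thirty-two and class three with elementary commutator subgroup are resistant
-/

namespace CF.BlockK

open Cfsg MonoidAlgebra Subgroup CF.Block CF.BlockB CF.Invol CF.Fus

universe u

variable {G : Type u} [Group G] [Finite G] {P E H K : Subgroup G} {F : FusionSystem P}
  {t d y g x w a b c s : G}

theorem le_of_two (h : H ≤ K) (hc : Nat.card K = 2 * Nat.card H) (h1 : H ≤ E) (hx : x ∈ K)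
    (h2 : x ∉ H) (h3 : x ∈ E) : K ≤ E := fun v hv => by
  by_cases h4 : v ∈ H
  · exact h1 h4
  · simpa using mul_mem (h1 (mul_mem_two h hc hv hx h4 h2)) (inv_mem h3)

omit [Finite G] in
theorem fn_one' (α : MulAut P) : fn α 1 = 1 := (mulOn_fn α).map_one

namespace C3

variable (h : C3 P t d y g) (h1 : d * d = 1)
include h

omit [Finite G] in
theorem derM (ha : a ∈ P ⊓ Cen d) (hb : b ∈ P ⊓ Cen d) :
    a * b * a⁻¹ = b ∨ a * b * a⁻¹ = b * t := by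
  obtain ⟨c, h2, h3⟩ := h.comm a ha.1 b hb.1
  obtain ⟨c₁, h4, h5⟩ := h.comm y h.yP a ha.1
  obtain ⟨c₂, h6, h7⟩ := h.comm y h.yP b hb.1
  have h8 : y * c * y⁻¹ = c := by
    have a1 : c₁ ∈ P ⊓ Cen d := by
      rcases h5 with rfl | rfl | rfl | rfl
      exacts [one_mem _, ⟨h.tP, mem_Cen.2 (h.tx h.dP).symm⟩, ⟨h.dP, self_mem_Cen _⟩,
        mul_mem ⟨h.dP, self_mem_Cen _⟩ ⟨h.tP, mem_Cen.2 (h.tx h.dP).symm⟩]
    have a2 := h.comm_d (mul_mem (mul_mem ha hb) (inv_mem ha)).1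
      (mul_mem (mul_mem ha hb) (inv_mem ha)).2 h5
    have a3 := h.comm_d ha.1 ha.2 h7
    have a4 := h.comm_d a1.1 a1.2 h7
    have a5 : c * c₂ = c₂ * c := by
      refine h.comm_d ?_ ?_ h7 <;> rcases h3 with rfl | rfl | rfl | rfl
      exacts [one_mem _, h.tP, h.dP, mul_mem h.dP h.tP, one_mem _, mem_Cen.2 (h.tx h.dP).symm,
        self_mem_Cen _, mul_mem (self_mem_Cen _) (mem_Cen.2 (h.tx h.dP).symm)]
    refine mul_right_cancel (b := c₂ * b) ?_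
    calc _ = y * (c * b) * y⁻¹ := by rw [← h6]; group
      _ = y * a * y⁻¹ * (y * b * y⁻¹) * (y * a * y⁻¹)⁻¹ := by rw [← h2]; group
      _ = c₁ * (a * c₂) * b * a⁻¹ * c₁⁻¹ := by rw [h4, h6]; group
      _ = c₂ * (c₁ * (a * b * a⁻¹)) * c₁⁻¹ := by rw [a3, ← mul_assoc c₁ c₂, a4]; group
      _ = _ := by rw [← a2, h2, ← mul_assoc c, a5]; group
  rcases h3 with rfl | rfl | rfl | rfl
  · exact Or.inl (h2.trans (one_mul _))
  · exact Or.inr (h2.trans (h.tx hb.1).symm)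
  · exact absurd (mem_Cen.2 (mul_inv_eq_iff_eq_mul.1 h8)) h.ny
  · refine absurd (mem_Cen.2 (mul_right_cancel (b := t) ?_)) h.ny
    rw [mul_assoc, mul_inv_eq_iff_eq_mul.1 h8, mul_assoc, ← h.tx h.yP, mul_assoc]

theorem two_of_out (hx : x ∈ P) (hn : x ∉ Cen d) (hw : w ∈ P ⊓ Cen d)
    (h2 : x * w * x⁻¹ = w ∨ x * w * x⁻¹ = w * t) (hs : s ∈ P) :
    s * w * s⁻¹ = w ∨ s * w * s⁻¹ = w * t := by
  by_cases h3 : s ∈ Cen d
  · exact h.derM ⟨hs, h3⟩ hw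
  have h4 := mul_mem_two inf_le_left h.cM hs (inv_mem hx) (fun h4 => h3 h4.2)
    fun h4 => hn (inv_mem_iff.1 h4.2)
  have h5 := h.derM h4 hw
  rw [show s * w * s⁻¹ = s * x⁻¹ * (x * w * x⁻¹) * (s * x⁻¹)⁻¹ by group]
  rcases h2 with h2 | h2 <;> rw [h2]
  · exact h5
  · rw [← mul_assoc _ w, mul_assoc _ t, ← h.tx (inv_mem h4.1), ← mul_assoc]
    rcases h5 with h5 | h5 <;> rw [h5] <;> simp [mul_assoc, h.tt]

include h1

omit [Finite G] in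
theorem kk (hc : c = 1 ∨ c = t ∨ c = d ∨ c = d * t) : c * c = 1 := by
  rcases hc with rfl | rfl | rfl | rfl
  exacts [mul_one _, h.tt, h1, by
    rw [mul_assoc, ← mul_assoc t, ← h.tx h.dP, mul_assoc d t, h.tt, mul_one, h1]]

omit [Finite G] in
theorem change (ha : a ∈ P) (hn : a ∉ Cen d) (hb : b ∈ P ⊓ Cen d) (h2 : a * b * a⁻¹ = c * b)
    (hc : c = d ∨ c = d * t) : C3 P t c a b := by
  have h3 : d * t * t = d := by rw [mul_assoc, h.tt, mul_one]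
  refine ⟨h.pg, h.card, h.tP, hc.elim (· ▸ h.dP) (· ▸ mul_mem h.dP h.tP), ha, hb.1, h.t1, h.tt,
    h.tc, Or.inl (h.kk h1 (Or.inr (Or.inr hc))), fun x hx y hy => ?_, h.cen, ?_,
    h.comm_d hb.1 hb.2 (Or.inr (Or.inr hc)), h2⟩
  · obtain ⟨c, h4, h5⟩ := h.comm x hx y hy
    rcases hc with rfl | rfl
    · exact ⟨c, h4, h5⟩
    · exact ⟨c, h4, h5.imp_right (Or.imp_right fun h5 => by rw [h3]; exact h5.symm)⟩
  · rcases hc with rfl | rfl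
    · exact h.conj ha hn
    · rw [← mul_assoc a, mul_assoc _ t, ← h.tx (inv_mem ha), ← mul_assoc, h.conj ha hn]

omit [Finite G] in
theorem ug : y * y * g * (y * y)⁻¹ = t * g := by
  calc _ = y * (y * g * y⁻¹) * y⁻¹ := by group
    _ = y * (d * g) * y⁻¹ := by rw [h.yg]
    _ = y * d * y⁻¹ * (y * g * y⁻¹) := by group
    _ = _ := by rw [h.yd, h.yg, h.tx h.dP, mul_assoc, ← mul_assoc d, h1, one_mul]

omit [Finite G] in
theorem nug : g ∉ Cen (y * y) := fun h2 => h.t1 (by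
  have h3 := h.ug h1
  rwa [← mem_Cen.1 h2, mul_inv_cancel_right, right_eq_mul] at h3)

omit h1 in
theorem uM : y * y ∈ P ⊓ Cen d :=
  mul_mem_two inf_le_left h.cM h.yP h.yP (fun h2 => h.ny h2.2) fun h2 => h.ny h2.2

omit h1 in
theorem kA (hc : c = 1 ∨ c = t ∨ c = d ∨ c = d * t) : c ∈ P ⊓ Cen d ⊓ Cen (y * y) ⊓ Cen g := by
  have h2 : c ∈ P := by
    rcases hc with rfl | rfl | rfl | rfl
    exacts [one_mem _, h.tP, h.dP, mul_mem h.dP h.tP]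
  exact ⟨⟨⟨h2, mem_Cen.2 (h.comm_d h.dP (self_mem_Cen d) hc).symm⟩,
    mem_Cen.2 (h.comm_d h.uM.1 h.uM.2 hc).symm⟩,
    mem_Cen.2 (h.comm_d h.gP (mem_Cen.2 h.gd) hc).symm⟩

theorem cards : Nat.card (P ⊓ Cen d : Subgroup G) = 16 ∧
    Nat.card (P ⊓ Cen d ⊓ Cen (y * y) : Subgroup G) = 8 ∧
    Nat.card (P ⊓ Cen d ⊓ Cen (y * y) ⊓ Cen g : Subgroup G) = 4 ∧
    Nat.card (P ⊓ Cen d ⊓ Cen (y * y) ⊓ Cen g ⊓ Cen y : Subgroup G) = 2 := by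
  have a1 := h.cM
  have a2 := two_card_le (inf_le_left : P ⊓ Cen d ⊓ Cen (y * y) ≤ _) ⟨h.gP, mem_Cen.2 h.gd⟩
    fun h2 => h.nug h1 h2.2
  have a3 := two_card_le (inf_le_left : P ⊓ Cen d ⊓ Cen (y * y) ⊓ Cen g ≤ _)
    ⟨h.uM, self_mem_Cen _⟩ fun h2 => h.nug h1 (mem_Cen.2 (mem_Cen.1 h2.2).symm)
  have a4 := two_card_le (inf_le_left : P ⊓ Cen d ⊓ Cen (y * y) ⊓ Cen g ⊓ Cen y ≤ _)
    (h.kA (Or.inr (Or.inr (Or.inl rfl)))) fun h2 => h.ny (mem_Cen.2 (mem_Cen.1 h2.2).symm)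
  have a5 := two_card_le (K := P ⊓ Cen d ⊓ Cen (y * y) ⊓ Cen g ⊓ Cen y) bot_le
    ⟨h.kA (Or.inr (Or.inl rfl)), mem_Cen.2 (h.tx h.yP).symm⟩ h.t1
  rw [card_bot] at a5
  rw [h.card] at a1
  omega

theorem mem4 (hx : x ∈ P ⊓ Cen d ⊓ Cen (y * y) ⊓ Cen g ⊓ Cen y) : x = 1 ∨ x = t :=
  eq_or_of_mul_self h.tt ((eq_zpowers ((h.cards h1).2.2.2 ▸ Nat.prime_two) (mem_inf.2
    ⟨h.kA (Or.inr (Or.inl rfl)), mem_Cen.2 (h.tx h.yP).symm⟩) h.t1).le hx)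

theorem cen' (hx : x ∈ P) (hc : P ≤ Cen x) : x = 1 ∨ x = t :=
  have a : ∀ s ∈ P, x ∈ Cen s := fun _ hs => mem_Cen.2 (mem_Cen.1 (hc hs)).symm
  h.mem4 h1 ⟨⟨⟨⟨hx, a d h.dP⟩, a _ h.uM.1⟩, a g h.gP⟩, a y h.yP⟩

theorem mem3 (hx : x ∈ P ⊓ Cen d ⊓ Cen (y * y) ⊓ Cen g) : x = 1 ∨ x = t ∨ x = d ∨ x = d * t := by
  by_cases h2 : x ∈ Cen y
  · exact (h.mem4 h1 ⟨hx, h2⟩).imp_right Or.inl
  have h3 := h.cards h1
  exact Or.inr (Or.inr ((h.mem4 h1 (mul_mem_two inf_le_left (by omega)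
    (inv_mem (h.kA (Or.inr (Or.inr (Or.inl rfl))))) hx (fun h4 => h.ny (mem_Cen.2
      (mem_Cen.1 (inv_mem_iff.1 h4.2)).symm)) fun h4 => h2 h4.2)).imp
    (fun h4 => (inv_mul_eq_one.1 h4).symm) inv_mul_eq_iff_eq_mul.1))

theorem le3 (ht : t ∈ E) (hd : d ∈ E) : P ⊓ Cen d ⊓ Cen (y * y) ⊓ Cen g ≤ E := fun x hx => by
  rcases h.mem3 h1 hx with rfl | rfl | rfl | rfl
  exacts [one_mem _, ht, hd, mul_mem hd ht]

theorem gen (hy : y ∈ E) (hg : g ∈ E) : P ≤ E := by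
  have h2 := h.cards h1
  have hd : d ∈ E := by simpa [h.yg] using mul_mem (mul_mem (mul_mem hy hg) (inv_mem hy)) (inv_mem hg)
  have ht : t ∈ E := by simpa [h.yd] using mul_mem (inv_mem hd) (mul_mem (mul_mem hy hd) (inv_mem hy))
  exact le_of_two inf_le_left h.cM (le_of_two inf_le_left (by omega) (le_of_two inf_le_left
    (by omega) (h.le3 h1 ht hd) ⟨h.uM, self_mem_Cen _⟩
    (fun h3 => h.nug h1 (mem_Cen.2 (mem_Cen.1 h3.2).symm)) (mul_mem hy hy))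
    ⟨h.gP, mem_Cen.2 h.gd⟩ (fun h3 => h.nug h1 h3.2) hg) h.yP (fun h3 => h.ny h3.2) hy

theorem der (hE : E ≤ P) (hn : ¬ P ≤ E) (ha : a ∈ E) (hb : b ∈ E) :
    a * b * a⁻¹ = b ∨ a * b * a⁻¹ = b * t := by
  obtain ⟨c, h2, rfl | rfl | hc⟩ := h.comm a (hE ha) b (hE hb)
  · exact Or.inl (h2.trans (one_mul _))
  · exact Or.inr (h2.trans (h.tx (hE hb)).symm)
  have h3 := h.kk h1 (Or.inr (Or.inr hc))
  by_cases h4 : a ∈ Cen d <;> by_cases h5 : b ∈ Cen d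
  · exact h.derM ⟨hE ha, h4⟩ ⟨hE hb, h5⟩
  · refine absurd ((h.change h1 (hE hb) h5 ⟨hE ha, h4⟩ ?_ hc).gen h3 hb ha) hn
    rw [← one_mul (b * a * b⁻¹), ← h3, mul_assoc c, ← mul_assoc c (b * a), ← mul_assoc c b, ← h2]
    group
  · exact absurd ((h.change h1 (hE ha) h4 ⟨hE hb, h5⟩ h2 hc).gen h3 ha hb) hn
  · exact absurd ((h.change h1 (hE ha) h4 (mul_mem_two inf_le_left h.cM (hE hb) (hE ha)
      (fun h6 => h5 h6.2) fun h6 => h4 h6.2) (by rw [← mul_assoc c, ← h2]; group) hc).gen h3 ha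
      (mul_mem hb ha)) hn

omit [Finite G] in
theorem sqM (hx : x ∈ P ⊓ Cen d) : P ≤ Cen (x * x) := fun s hs => mem_Cen.2 (by
  obtain ⟨c, h2, h3⟩ := h.comm s hs x hx.1
  rw [← mul_inv_eq_iff_eq_mul]
  calc _ = s * x * s⁻¹ * (s * x * s⁻¹) := by group
    _ = _ := by rw [h2, mul_assoc, ← mul_assoc x, h.comm_d hx.1 hx.2 h3, ← mul_assoc,
      ← mul_assoc, h.kk h1 h3, one_mul])

omit h1 in
theorem conj_out (hx : x ∈ P) (hn : x ∉ Cen d) (hw : w ∈ P ⊓ Cen d)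
    (h2 : ¬ ∀ s ∈ P, s * w * s⁻¹ = w ∨ s * w * s⁻¹ = w * t) :
    ∃ c, x * w * x⁻¹ = c * w ∧ (c = d ∨ c = d * t) := by
  obtain ⟨c, h3, h4⟩ := h.comm x hx w hw.1
  refine ⟨c, h3, or_iff_not_imp_left.2 fun h5 => by_contra fun h6 => h2 fun s =>
    h.two_of_out hx hn hw ?_⟩
  rcases h4 with rfl | rfl | h4 | h4
  exacts [Or.inl (h3.trans (one_mul _)), Or.inr (h3.trans (h.tx hw.1).symm), absurd h4 h5,
    absurd h4 h6]

theorem mem_of_sq (hx : x ∈ P) (hc : P ≤ Cen (x * x)) : x ∈ Cen d := by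
  by_contra hn
  obtain ⟨c, h2, h3⟩ := h.conj_out hx hn ⟨h.gP, mem_Cen.2 h.gd⟩ fun h2 => by
    have h3 := h2 y h.yP
    rw [h.yg, h.tx h.gP, mul_left_inj, mul_eq_right] at h3
    rcases h3 with h3 | h3 <;> exact h.ny (mem_Cen.2 (by simp [h3, h.tx h.yP]))
  exact (h.change h1 hx hn ⟨h.gP, mem_Cen.2 h.gd⟩ h2 h3).nug (h.kk h1 (Or.inr (Or.inr h3)))
    (hc h.gP)

omit h1 in
theorem tM : t ∈ P ⊓ Cen d := ⟨h.tP, mem_Cen.2 (h.tx h.dP).symm⟩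

variable (hF : Sat F 2)
include hF

omit h1 in
theorem keep (hw : w ∈ P ⊓ Cen d) (h2 : ¬ ∀ s ∈ P, s * w * s⁻¹ = w ∨ s * w * s⁻¹ = w * t)
    (hn : P ≤ normalizer (P ⊓ Cen w : Subgroup G)) (hs : s ∈ P ⊓ Cen d)
    {α : MulAut (P ⊓ Cen w : Subgroup G)} (hα : α ∈ F.autGroup _) (ht : fn α t = t)
    (hM : P ⊓ Cen w ≤ Cen d) : fn α d ∈ Cen s := by
  have a1 : t ∈ P ⊓ Cen w := ⟨h.tP, mem_Cen.2 (h.tx hw.1).symm⟩
  have a2 : d ∈ P ⊓ Cen w := ⟨h.dP, mem_Cen.2 (mem_Cen.1 hw.2).symm⟩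
  have a3 : fn α⁻¹ t = t := by rw [← ht, fn_inv_fn, ht]
  have a4 : ∀ x ∈ P ⊓ Cen w, fn (α⁻¹ * cA _ s * α) x = x ∨ fn (α⁻¹ * cA _ s * α) x = x * t :=
    fun x hx => by
      rw [fn_mul, fn_mul, fn_cA (hn hs.1) (fn_mem α hx)]
      refine (h.derM hs ⟨(fn_mem α hx).1, hM (fn_mem α hx)⟩).imp (fun a4 => ?_) fun a4 => ?_
      · rw [a4, fn_inv_fn]
      · rw [a4, mulOn_fn _ (fn_mem α hx) a1, fn_inv_fn, a3]
  obtain ⟨r, hr, a5⟩ := induced_of_transv hF inf_le_left hn (mul_mem (mul_mem (inv_mem hα)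
    (cA_mem_autGroup F inf_le_left hs.1)) hα) a1 h.tc (by
      rw [fn_mul, fn_mul, ht, fn_cA (hn hs.1) a1, h.tx hs.1, mul_inv_cancel_right, a3]) a4
  have a6 : r ∈ Cen d := by_contra fun a6 => h2 fun _ =>
    h.two_of_out hr a6 hw (a5 w ⟨hw.1, self_mem_Cen w⟩ ▸ a4 w ⟨hw.1, self_mem_Cen w⟩)
  have a7 := congrArg (fn α) (a5 d a2)
  rw [fn_mul, fn_mul, fn_fn_inv, fn_cA (hn hs.1) (fn_mem α a2), mem_Cen.1 a6,
    mul_inv_cancel_right] at a7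
  exact mem_Cen.2 (mul_inv_eq_iff_eq_mul.1 a7).symm

theorem fixt {Q : Subgroup G} {φ : G → G} (hφ : Mor F Q φ) (hw : w ∈ Q) (e : φ w = t) : w = t := by
  obtain ⟨ψ, hψ, h2⟩ := ext_of_cen hF hφ hw (e ▸ h.tc)
  rw [e] at h2
  have hP := hφ.le hw
  have a0 : w ∈ P ⊓ Cen w := ⟨hP, self_mem_Cen w⟩
  have a1 : t ∈ P ⊓ Cen w := ⟨h.tP, mem_Cen.2 (h.tx hP).symm⟩
  have h3 : w ≠ 1 := fun h3 => h.t1 (by rw [← h2, h3, hψ.mul.map_one])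
  by_cases h4 : P ≤ Cen w
  · exact (h.cen' h1 hP h4).resolve_left h3
  have h5 : ¬ P ≤ P ⊓ Cen w := fun h5 => h4 (h5.trans inf_le_right)
  have h6 : ¬ P ≤ img ψ (P ⊓ Cen w) := fun h6 => h5 (eq_of_le_of_card_ge inf_le_left
    ((card_le_of_le h6).trans hψ.card_img.le)).ge
  by_cases h7 : ∀ a ∈ P ⊓ Cen w, ∀ b ∈ P ⊓ Cen w, a * b * a⁻¹ = b
  swap
  · push Not at h7
    obtain ⟨a, ha, b, hb, h7⟩ := h7
    have h8 := congrArg ψ ((h.der h1 inf_le_left h5 ha hb).resolve_left h7)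
    rw [hψ.mul.map_conj ha hb, hψ.mul hb a1] at h8
    rcases h.der h1 hψ.img_le h6 (mem_img_of_mem ha) (mem_img_of_mem hb) with h9 | h9 <;>
      rw [h9] at h8
    · exact absurd (hψ.inj a1 (one_mem _) ((left_eq_mul.1 h8).trans hψ.mul.map_one.symm)) h.t1
    · exact hψ.inj a0 a1 (h2.trans (mul_left_cancel h8))
  exfalso
  have h8 : w * w = 1 := hψ.inj (mul_mem a0 a0) (one_mem _) (by
    rw [hψ.mul a0 a0, h2, h.tt, hψ.mul.map_one])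
  have h9 : w ∈ P ⊓ Cen d := ⟨hP, h.mem_of_sq h1 hP fun _ _ => mem_Cen.2 (by simp [h8])⟩
  have a2 : d ∈ P ⊓ Cen w := ⟨h.dP, mem_Cen.2 (mem_Cen.1 h9.2).symm⟩
  have h10 : P ⊓ Cen w ≤ Cen d := fun x hx => mem_Cen.2 (mul_inv_eq_iff_eq_mul.1 (h7 x hx d a2))
  have hc := h.cards h1
  have h11 : ¬ 8 < Nat.card (P ⊓ Cen w : Subgroup G) := fun h11 => by
    have h12 := card_pow h.pg inf_le_left (i := 3) h11
    have h13 := (eq_of_le_of_card_ge (le_inf inf_le_left h10) (by omega)).ge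
    exact h.nug h1 (mem_Cen.2 (mul_inv_eq_iff_eq_mul.1
      (h7 g (h13 ⟨h.gP, mem_Cen.2 h.gd⟩) _ (h13 h.uM))))
  have h12 : ¬ ∀ s ∈ P, s * w * s⁻¹ = w ∨ s * w * s⁻¹ = w * t := fun h12 => by
    have := card_le_of_two h.tc h.tt h12
    have := h.card
    omega
  have h13 : P ⊓ Cen d ⊓ Cen (y * y) ⊓ Cen g ≤ P ⊓ Cen w := h.le3 h1 a1 a2
  have h14 : w ∉ P ⊓ Cen d ⊓ Cen (y * y) ⊓ Cen g := fun h14 => h12 fun s hs => by
    rcases h.mem3 h1 h14 with rfl | rfl | rfl | rfl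
    · simp
    · exact Or.inl (by rw [h.tx hs, mul_inv_cancel_right])
    · exact (em (s ∈ Cen w)).imp (fun a => mul_inv_eq_iff_eq_mul.2 (mem_Cen.1 a)) (h.conj hs)
    · rw [← mul_assoc s, mul_assoc _ t, ← h.tx (inv_mem hs), ← mul_assoc, mul_left_inj, mul_left_inj]
      exact (em (s ∈ Cen d)).imp (fun a => mul_inv_eq_iff_eq_mul.2 (mem_Cen.1 a)) (h.conj hs)
  have h15 := two_card_le h13 a0 h14
  have h16 : Nat.card (P ⊓ Cen w : Subgroup G) =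
    2 * Nat.card (P ⊓ Cen d ⊓ Cen (y * y) ⊓ Cen g : Subgroup G) := by omega
  have hn : P ≤ normalizer (P ⊓ Cen w : Subgroup G) := norm_of_comm inf_le_left fun a ha b hb => by
    obtain ⟨c, a3, a4⟩ := h.comm a ha b hb
    rw [a3, mul_inv_cancel_right]
    exact h13 (h.kA a4)
  have h17 := centric_CS_le (centric_iso (centric_of_fc (hF.fc_of_fn (fn_of_norm F inf_le_left hn))
    fun x hx => ⟨hx.1, mem_Cen.2 (hx.2 w a0).symm⟩) hψ.iso)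
  have h18 : ∀ x ∈ P ⊓ Cen w, x * x = 1 := fun x hx => by
    by_cases a3 : x ∈ P ⊓ Cen d ⊓ Cen (y * y) ⊓ Cen g
    · exact h.kk h1 (h.mem3 h1 a3)
    have a4 := h.kk h1 (h.mem3 h1 (mul_mem_two h13 h16 hx a0 a3 h14))
    rwa [mul_assoc, ← mul_assoc w, ← mem_Cen.1 hx.2, mul_assoc x w, h8, mul_one] at a4
  have h19 : img ψ (P ⊓ Cen w) ≤ P ⊓ Cen d := img_le_iff.2 fun x hx => ⟨hψ.maps hx,
    h.mem_of_sq h1 (hψ.maps hx) fun _ _ => mem_Cen.2 (by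
      simp [← hψ.mul hx hx, h18 x hx, hψ.mul.map_one])⟩
  obtain ⟨s, hs, h20⟩ := exists_notMem (H := img ψ (P ⊓ Cen w)) (K := P ⊓ Cen d) (by
    rw [hψ.card_img]; omega)
  have a3 : t ∈ img ψ (P ⊓ Cen w) := h2 ▸ mem_img_of_mem a0
  have h21 : s ∈ normalizer (img ψ (P ⊓ Cen w) : Set G) := mem_normalizer_of_le hψ.img_le
    fun x hx => by
      rcases h.derM hs (h19 hx) with a4 | a4 <;> rw [a4]
      exacts [hx, mul_mem hx a3]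
  obtain ⟨τ, hτ, h22⟩ : ∃ τ ∈ F.autGroup (P ⊓ Cen w), ∀ x ∈ P ⊓ Cen w,
      ψ (fn τ x) = s * ψ x * s⁻¹ := ⟨_, hψ.iso.autCongr_symm_mem (cA_mem_autGroup F hψ.img_le hs.1),
    fun x hx => by rw [hψ.iso.piso.fn_autCongr_symm _ hx, fn_cA h21 (mem_img_of_mem hx)]⟩
  have h23 : ∀ x ∈ P ⊓ Cen w, fn τ x = x ∨ fn τ x = x * w := fun x hx =>
    (h.derM hs (h19 (mem_img_of_mem hx))).imp (fun a4 => hψ.inj (fn_mem τ hx) hx
      ((h22 x hx).trans a4)) fun a4 => hψ.inj (fn_mem τ hx) (mul_mem hx a0) (by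
        rw [h22 x hx, a4, hψ.mul hx a0, h2])
  have h24 : fn τ w = w := hψ.inj (fn_mem τ a0) a0 (by
    rw [h22 w a0, h2, h.tx hs.1, mul_inv_cancel_right])
  have h25 : ∀ α ∈ F.autGroup (P ⊓ Cen w), fn α t = t → ∀ c, c = d ∨ c = d * t →
      fn α c ∈ P ⊓ Cen d ⊓ Cen (y * y) ⊓ Cen g := fun α hα a4 c a5 => by
    have a6 : fn α d ∈ P ⊓ Cen d ⊓ Cen (y * y) ⊓ Cen g := ⟨⟨⟨(fn_mem α a2).1, h10 (fn_mem α a2)⟩,
      h.keep hF h9 h12 hn h.uM hα a4 h10⟩, h.keep hF h9 h12 hn ⟨h.gP, mem_Cen.2 h.gd⟩ hα a4 h10⟩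
    rcases a5 with rfl | rfl
    · exact a6
    · rw [mulOn_fn α a2 a1, a4]
      exact mul_mem a6 (h.kA (Or.inr (Or.inl rfl)))
  rcases h23 t a1 with h26 | h26
  · have h27 : fn τ d = d := (h23 d a2).resolve_right fun h27 => h14 ((mul_mem_cancel_left
      (h.kA (Or.inr (Or.inr (Or.inl rfl))))).1 (h27 ▸ h25 τ hτ h26 d (Or.inl rfl)))
    refine h20 (h17 ⟨hs.1, fun v hv => ?_⟩)
    obtain ⟨x, hx, rfl⟩ := hψ.mem_img.1 hv
    have h28 : ∀ x ∈ P ⊓ Cen d ⊓ Cen (y * y) ⊓ Cen g, fn τ x = x := fun x hx => by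
      rcases h.mem3 h1 hx with rfl | rfl | rfl | rfl
      exacts [fn_one' τ, h26, h27, by rw [mulOn_fn τ a2 a1, h26, h27]]
    rw [eq_comm, ← mul_inv_eq_iff_eq_mul, ← h22 x hx]
    by_cases a4 : x ∈ P ⊓ Cen d ⊓ Cen (y * y) ⊓ Cen g
    · rw [h28 x a4]
    · have a5 := h28 _ (mul_mem_two h13 h16 hx a0 a4 h14)
      rw [mulOn_fn τ hx a0, h24] at a5
      rw [mul_right_cancel a5]
  obtain ⟨c, h27, h28⟩ : ∃ c, (c = d ∨ c = d * t) ∧ fn τ c = c := by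
    rcases h23 d a2 with h27 | h27
    · exact ⟨d, Or.inl rfl, h27⟩
    · refine ⟨_, Or.inr rfl, ?_⟩
      rw [mulOn_fn τ a2 a1, h27, h26, mul_assoc, ← mul_assoc w, h.tx hP, mul_assoc t, h8, mul_one]
  obtain ⟨r, hr, h29, h30⟩ : ∃ r ∈ P, r ∉ Cen d ∧ r * w * r⁻¹ = c * w := by
    obtain ⟨c', h29, h30⟩ := h.conj_out h.yP h.ny h9 h12
    by_cases h31 : c' = c
    · exact ⟨y, h.yP, h.ny, h31 ▸ h29⟩
    have h32 := h.change h1 h.yP h.ny h9 h29 h30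
    refine ⟨_, inv_mem h.yP, mt inv_mem_iff.1 h.ny, ?_⟩
    have h33 : c = c' * t := by
      rcases h27 with rfl | rfl <;> rcases h30 with rfl | rfl
      exacts [absurd rfl h31, by rw [mul_assoc, h.tt, mul_one], rfl, absurd rfl h31]
    rw [h33, inv_inv, ← mul_left_inj y⁻¹, ← mul_right_inj y, show y * (c' * t * w * y⁻¹) =
      y * c' * y⁻¹ * (y * t * y⁻¹) * (y * w * y⁻¹) by group, h32.yd, h29, h.tx h.yP,
      mul_inv_cancel_right t, mul_assoc c' t t, h.tt, mul_one, ← mul_assoc c' c',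
      h.kk h1 (Or.inr (Or.inr h30))]
    group
  have h31 := h.change h1 hr h29 h9 h30 h27
  have h32 := h.kk h1 (Or.inr (Or.inr h27))
  have a4 := h13 (h.kA (Or.inr (Or.inr h27)))
  have b1 : r * t * r⁻¹ = t := by rw [h.tx hr, mul_inv_cancel_right]
  have b2 : ∀ x ∈ P ⊓ Cen w, ∀ z ∈ P ⊓ Cen w, fn (cA (P ⊓ Cen w) r) x = z →
      fn (cA (P ⊓ Cen w) r)⁻¹ z = x := fun x _ z _ b2 => by rw [← b2, fn_inv_fn]
  have b3 : fn (cA (P ⊓ Cen w) r) (c * w) = t * w := by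
    rw [mulOn_fn _ a4 a0, fn_cA (hn hr) a4, fn_cA (hn hr) a0, h31.yd, h30, h31.tx h31.dP,
      mul_assoc, ← mul_assoc c, h32, one_mul]
  have b4 : fn (cA (P ⊓ Cen w) r) (c * t) = c := by
    rw [mulOn_fn _ a4 a1, fn_cA (hn hr) a4, fn_cA (hn hr) a1, h31.yd, b1, mul_assoc, h.tt, mul_one]
  have hr' := cA_mem_autGroup F (inf_le_left : P ⊓ Cen w ≤ P) hr
  refine h14 (Set.mem_of_eq_of_mem ?_ (h25 _ (mul_mem (mul_mem (mul_mem (mul_mem hτ hr') hτ)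
    (inv_mem hr')) hτ) ?_ c h27)) <;> simp only [fn_mul]
  · rw [h28, b2 _ (mul_mem a4 a1) _ a4 b4, mulOn_fn τ a4 a1, h28, h26, ← mul_assoc,
      mulOn_fn _ (mul_mem a4 a1) a0, b4, fn_cA (hn hr) a0, h30, ← mul_assoc, h32, one_mul, h24]
  · rw [h26, b2 _ (mul_mem a4 a0) _ (mul_mem a1 a0) b3, mulOn_fn τ a4 a0, h28, h24, b3,
      mulOn_fn τ a1 a0, h26, h24, mul_assoc, h8, mul_one]

theorem not_ess : ¬ F.IsEssential 2 E := fun hE => by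
  have h2 := (hF.ess_lt hE).le
  have h3 : t ∈ E := hF.ess_centric hE ⟨h.tP, fun x hx => h.tx (h2 hx)⟩
  have h4 : ∀ α ∈ F.autGroup E, fn α t = t := fun α hα => by
    have h4 := h.fixt h1 hF (mor_fn h2 hα) (fn_mem α⁻¹ h3) (fn_fn_inv α t)
    rw [← h4, fn_fn_inv, h4]
  have h5 : F.autGroup E ≤ stab E (zpowers t) := fun α hα =>
    mem_stab_of_maps (zpowers_le_of_mem h3) (by
      rintro _ ⟨i, rfl⟩
      simp only [(mulOn_fn α).map_zpow h3, h4 α hα]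
      exact zpow_mem (mem_zpowers t) i)
  have h6 : ∀ s ∈ P, ∀ x ∈ E, x ∈ zpowers t → s * x * s⁻¹ = x := fun s hs x _ hx => by
    rw [(commute_of_mem_zpowers (h.tx hs) hx).eq, mul_inv_cancel_right]
  have h7 : ∀ s ∈ P, ∀ x ∈ P, ∃ c, x⁻¹ * (s * x * s⁻¹) = c ∧
      (c = 1 ∨ c = t ∨ c = d ∨ c = d * t) := fun s hs x hx => by
    obtain ⟨c, h7, h8⟩ := h.comm _ (inv_mem hx) s hs
    exact ⟨c, by rw [← mul_inv_cancel_right c s, ← h7]; group, h8⟩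
  have h8 : ∀ s ∈ NS P E, s ∈ Cen d → s ∈ E := fun s hs h8 => hF.ess_mem₃ hE h5
    (D := E ⊓ Cen d) (fun α hα => mem_stab_of_maps inf_le_left fun x hx => ⟨fn_mem α hx.1,
      h.mem_of_sq h1 (h2 (fn_mem α hx.1)) (by
        rw [← mulOn_fn α hx.1 hx.1]
        rcases h.cen' h1 (h2 (mul_mem hx.1 hx.1)) (h.sqM h1 ⟨h2 hx.1, hx.2⟩) with h9 | h9 <;>
          rw [h9]
        exacts [fun _ _ => mem_Cen.2 (by simp [fn_one']), (h4 α hα).symm ▸ h.tc])⟩) hs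
    (fun x hx => ⟨E.mul_mem (E.inv_mem hx) (conj_mem_of_norm hs.2 hx), by
      obtain ⟨c, h9, h10⟩ := h7 s hs.1 x (h2 hx)
      exact h9 ▸ (h.kA h10).1.1.2⟩) (fun x hx h9 => by
      rcases h.derM ⟨hs.1, h8⟩ ⟨h2 hx, h9.2⟩ with h10 | h10 <;> simp [h10]) (h6 s hs.1)
  obtain ⟨s, hs, h9⟩ := SetLike.exists_of_lt (hF.ess_NS hE)
  have h10 : s ∉ Cen d := fun h10 => h9 (h8 s hs h10)
  have h11 : E ≤ Cen d := fun x hx => by_contra fun h11 => h9 ((mul_mem_cancel_right hx).1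
    (h8 _ (mul_mem hs (le_NS h2 hx)) (mul_mem_two inf_le_left h.cM hs.1 (h2 hx)
      (fun h => h10 h.2) fun h => h11 h.2).2))
  have h12 : P ⊓ Cen d ≤ E := fun x hx => h8 x ⟨hx.1, mem_normalizer_of_le h2 fun v hv => by
    rcases h.derM hx ⟨h2 hv, h11 hv⟩ with h12 | h12 <;> rw [h12]
    exacts [hv, mul_mem hv h3]⟩ hx.2
  refine h9 (hF.ess_mem₃ hE h5 (D := CS E E) (fun α _ => mem_stab_of_maps CS_le
    fun x hx => ⟨fn_mem α hx.1, fun v hv => ?_⟩) hs (fun x hx => ?_) (fun x hx h13 => ?_)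
    (h6 s hs.1))
  · rw [← fn_fn_inv α v, ← mulOn_fn α (fn_mem _ hv) hx.1, ← mulOn_fn α hx.1 (fn_mem _ hv),
      hx.2 _ (fn_mem _ hv)]
  · obtain ⟨c, h13, h14⟩ := h7 s hs.1 x (h2 hx)
    exact h13 ▸ ⟨h12 (h.kA h14).1.1, fun v hv => h.comm_d (h2 hv) (h11 hv) h14⟩
  · have h14 := h.conj hs.1 h10
    rcases h.mem3 h1 ⟨⟨⟨h2 hx, h11 hx⟩, mem_Cen.2 (h13.2 _ (h12 h.uM)).symm⟩,
      mem_Cen.2 (h13.2 _ (h12 ⟨h.gP, mem_Cen.2 h.gd⟩)).symm⟩ with rfl | rfl | rfl | rfl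
    · simp
    · simp [h.tx hs.1]
    · simp [h14]
    · rw [← mul_assoc s, mul_assoc _ t, ← h.tx (inv_mem hs.1), ← mul_assoc (s * d), h14,
        inv_mul_cancel_left]
      exact mem_zpowers t

omit hF in
theorem aut : IsPGroup 2 (F.autGroup P) := isPGroup_of_coprime fun σ hσ ho => by
  have hφ := mor_fn le_rfl hσ
  have h2 : ∀ x, x ∈ (Fx σ).map P.subtype ↔ x ∈ P ∧ fn σ x = x := fun x =>
    ⟨by rintro ⟨x, hx, rfl⟩; exact ⟨x.2, (fn_coe σ x).trans (congrArg Subtype.val hx)⟩,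
      fun hx => ⟨⟨x, hx.1⟩, Subtype.ext ((fn_coe σ ⟨x, hx.1⟩).symm.trans hx.2), rfl⟩⟩
  have h3 : ∀ {H K : Subgroup G}, H ≤ K → K ≤ P → Nat.card K = 2 * Nat.card H →
      H ≤ (Fx σ).map P.subtype → ∀ x ∈ K, x ∉ H → fn σ x ∈ K → K ≤ (Fx σ).map P.subtype :=
    fun {H K} a1 a2 a3 a4 x hx a5 a6 => le_of_two a1 a3 a4 hx a5 (by
      by_cases a7 : fn σ x ∈ H
      · exact (h2 x).2 ⟨a2 hx, fn_inj σ ((h2 _).1 (a4 a7)).2⟩
      obtain ⟨v, a8, a9⟩ := a4 (mul_mem_two a1 a3 (inv_mem hx) a6 (mt inv_mem_iff.1 a5) a7)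
      refine ⟨⟨x, a2 hx⟩, fix_of_mem (pow_orderOf_eq_one σ) ?_ (coprime_orderOf Nat.prime_two h.pg
        ((Nat.Prime.coprime_iff_not_dvd Nat.prime_two).1 ho.symm) _), rfl⟩
      rwa [show (⟨x, a2 hx⟩ : P)⁻¹ * σ ⟨x, a2 hx⟩ = v from
        Subtype.ext (a9.trans (by rw [fn_of_mem σ (a2 hx)]; rfl)).symm])
  have hc := h.cards h1
  have h4 : fn σ t = t := (h.cen' h1 (fn_mem σ h.tP) fun s hs => mem_Cen.2 (by
    rw [← fn_fn_inv σ s, ← mulOn_fn σ (fn_mem _ hs) h.tP, ← mulOn_fn σ h.tP (fn_mem _ hs),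
      h.tx (fn_mem _ hs)])).resolve_left fun h4 => h.t1 (fn_inj σ (h4.trans (fn_one' σ).symm))
  have h5 := h3 (inf_le_left : P ⊓ Cen d ⊓ Cen (y * y) ⊓ Cen g ⊓ Cen y ≤ _)
    (fun _ h => h.1.1.1) (by omega) (fun x hx => by
      rcases h.mem4 h1 hx with rfl | rfl
      exacts [one_mem _, (h2 _).2 ⟨h.tP, h4⟩]) d (h.kA (Or.inr (Or.inr (Or.inl rfl))))
    (fun h5 => h.ny (mem_Cen.2 (mem_Cen.1 h5.2).symm)) (h.kA (h.map_d hφ))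
  have h6 : ∀ x ∈ P ⊓ Cen d, fn σ x ∈ P ⊓ Cen d := fun x hx => ⟨fn_mem σ hx.1, mem_Cen.2 (by
    rw [← ((h2 d).1 (h5 (h.kA (Or.inr (Or.inr (Or.inl rfl)))))).2, ← mulOn_fn σ hx.1 h.dP,
      ← mulOn_fn σ h.dP hx.1, mem_Cen.1 hx.2])⟩
  have h7 := h3 (inf_le_left : P ⊓ Cen d ⊓ Cen (y * y) ⊓ Cen g ≤ _) (fun _ h => h.1.1) (by omega)
    h5 _ ⟨h.uM, self_mem_Cen _⟩ (fun h7 => h.nug h1 (mem_Cen.2 (mem_Cen.1 h7.2).symm))
    ⟨h6 _ h.uM, mem_Cen.2 (by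
      have a1 := fn_mem σ h.yP
      rw [mulOn_fn σ h.yP h.yP, ← mul_inv_eq_iff_eq_mul, show fn σ y * fn σ y * (y * y) *
        (fn σ y * fn σ y)⁻¹ = fn σ y * (fn σ y * (y * y) * (fn σ y)⁻¹) * (fn σ y)⁻¹ by group]
      rcases h.conj_sq h.yP h.ny a1 with a2 | a2 <;> rw [a2]
      · exact a2
      · rw [h1, one_mul] at a2 ⊢
        rw [← mul_assoc, mul_assoc _ t, ← h.tx (inv_mem a1), ← mul_assoc, a2, mul_assoc, h.tt,
          mul_one])⟩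
  have h8 := h3 inf_le_left le_rfl h.cM (h3 inf_le_left inf_le_left (by omega) h7 g
    ⟨h.gP, mem_Cen.2 h.gd⟩ (fun h8 => h.nug h1 h8.2) (h6 g ⟨h.gP, mem_Cen.2 h.gd⟩)) y h.yP
    (fun h8 => h.ny h8.2) (fn_mem σ h.yP)
  exact MulEquiv.ext fun x => Subtype.ext ((fn_coe σ x).symm.trans ((h2 x).1 (h8 x.2)).2)

end C3

theorem C3.rank_eq {M : Ideal AlgInt} {B : Set (IrrCharacter G)} {e : (k M)[G]}
    (h : C3 P t d y g) (h1 : d * d = 1) (hM : IsPModular 2 M) (hB : IsPBlock M B)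
    (he : MaxPair 2 ⊤ (eb M B) P e) : blockRank 2 B = 1 := by
  have := charP_k hM
  obtain ⟨F, hF⟩ := he.bpair.pair.exists_isBFS
  have hS := hF.sat he
  exact blockRank_eq_one_of_nil hM hB ((hF.isNilBlk_iff he).2 (hS.eq_inner
    (hS.normal_top_of_no_ess fun _ => h.not_ess h1 hS) (hS.autGroup_top_eq (h.aut h1)).le))

end CF.BlockK
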