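import Cfsg.Agent.BlockK.Q1

/-!
# The `k(B)` bound for two-generated defect groups of order at most sixty-four
-/

namespace CF.BlockK

local notation "𝐊" => commutator

open Cfsg MonoidAlgebra Subgroup CF.Block CF.BlockB CF.Invol CF.Fus Function
open scoped commutatorElement

universe u

section Grp

variable {X Y : Type*} [Group X] [Group Y] {a b z t d y g u : X} {ρ : X →* Y}

theorem mem_of_gen (hg : closure {a, b} = ⊤) {H : Subgroup X} (ha : a ∈ H) (hb : b ∈ H) (x : X) :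
    x ∈ H := (hg.ge.trans ((closure_le H).2 (by rintro _ (rfl | rfl) <;> assumption))) (mem_top x)

theorem cen_of_gen (hg : closure {a, b} = ⊤) (ha : a * z = z * a) (hb : b * z = z * b) :
    z ∈ center X := mem_center_iff.2 fun x =>
  mem_Cen.1 (mem_of_gen hg (mem_Cen.2 ha) (mem_Cen.2 hb) x)

theorem gen_map (hg : closure {a, b} = ⊤) (hρ : Surjective ρ) : closure {ρ a, ρ b} = ⊤ := by
  rw [← Set.image_pair, ← MonoidHom.map_closure, hg, ← MonoidHom.range_eq_map,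
    MonoidHom.range_eq_top.2 hρ]

theorem normal_of_cen (hz : z ∈ center X) : (zpowers z).Normal := ⟨fun n hn s => by
  rwa [mem_center_iff.1 (zpowers_le_of_mem hz hn) s, mul_inv_cancel_right]⟩

theorem comm_le_of_gen (hg : closure {a, b} = ⊤) (hc : ⁅a, b⁆ ∈ center X) :
    𝐊 X ≤ zpowers ⁅a, b⁆ := by
  have := normal_of_cen hc
  have h1 := gen_map hg (QuotientGroup.mk'_surjective (zpowers ⁅a, b⁆))
  have h2 := commutatorElement_eq_one_iff_mul_comm.1 ((map_commutatorElement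
    (QuotientGroup.mk' _) a b).symm.trans ((QuotientGroup.eq_one_iff (N := zpowers ⁅a, b⁆) _).2 (mem_zpowers _)))
  refine commutator_le.2 fun x _ y _ => (QuotientGroup.eq_one_iff _).1 ?_
  exact (map_commutatorElement (QuotientGroup.mk' _) x y).trans
    (commutatorElement_eq_one_iff_mul_comm.2 (mem_center_iff.1 (mem_of_gen h1
      (cen_of_gen h1 rfl h2.symm) (cen_of_gen h1 h2 rfl) _) _))

theorem map_comm_eq (hρ : Surjective ρ) : (𝐊 X).map ρ = 𝐊 Y := by
  rw [map_commutator_eq, MonoidHom.range_eq_top.2 hρ]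
  rfl

theorem eq_or_of_map (hk : ρ.ker = zpowers u) (hu : u * u = 1) (h : ρ a = ρ b) :
    a = b ∨ a = b * u :=
  (eq_or_of_mul_self hu (hk.le (show ρ (b⁻¹ * a) = 1 by simp [h]))).imp
    (fun h => (inv_mul_eq_one.1 h).symm) inv_mul_eq_iff_eq_mul.1

/-- generators of a group of class three with commutator subgroup of order four -/
structure T3 (t d y g : X) : Prop where
  t1 : t ≠ 1
  tt : t * t = 1
  tc : t ∈ center X
  dK : d ∈ 𝐊 X
  dd : d * d = 1 ∨ d * d = t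
  mem : ∀ k ∈ 𝐊 X, k = 1 ∨ k = t ∨ k = d ∨ k = d * t
  yd : y * d * y⁻¹ = d * t
  gd : g * d = d * g
  yg : y * g * y⁻¹ = d * g

variable [Finite X]

theorem index_le_of_gen (hg : closure {a, b} = ⊤) {i j : ℕ} (hi : 0 < i) (hj : 0 < j)
    (ha : a ^ i ∈ 𝐊 X) (hb : b ^ j ∈ 𝐊 X) : (𝐊 X).index ≤ i * j := by
  have h1 := gen_map (ρ := Abelianization.of) hg (QuotientGroup.mk'_surjective _)
  have h2 : ∀ (x : X) (n : ℕ), 0 < n → x ^ n ∈ 𝐊 X →
      Nat.card (zpowers (Abelianization.of x)) ≤ n := fun x n hn hx => by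
    rw [Nat.card_zpowers]
    exact orderOf_le_of_pow_eq_one hn (by
      rw [← map_pow]; exact (QuotientGroup.eq_one_iff _).2 hx)
  refine le_trans ?_ (Nat.mul_le_mul (h2 a i hi ha) (h2 b j hj hb))
  rw [← Nat.card_prod]
  refine Nat.card_le_card_of_surjective (β := Abelianization X) (fun x => x.1 * x.2) fun x => ?_
  obtain ⟨v, hv, w, hw, h3⟩ := mem_sup.1 (mem_of_gen h1 (mem_sup_left (mem_zpowers _))
    (mem_sup_right (mem_zpowers _)) x)
  exact ⟨(⟨v, hv⟩, ⟨w, hw⟩), h3⟩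

theorem card_two (hu : u * u = 1) (h1 : u ≠ 1) : Nat.card (zpowers u) = 2 := by
  rw [Nat.card_zpowers, orderOf_eq_prime (by rw [pow_two, hu]) h1]

theorem card_quot (hρ : Surjective ρ) (hk : ρ.ker = zpowers u) (hu : u * u = 1) (h1 : u ≠ 1) :
    2 * Nat.card Y = Nat.card X ∧ (u ∈ 𝐊 X → 2 * Nat.card (𝐊 Y) = Nat.card (𝐊 X)) ∧
      (u ∉ 𝐊 X → Nat.card (𝐊 Y) = Nat.card (𝐊 X)) := by
  rw [← map_comm_eq hρ, ← relIndex_ker, hk, ← card_two hu h1]
  refine ⟨?_, fun h => Fgs1.card_mul_relIndex (zpowers_le_of_mem h), fun h => ?_⟩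
  · rw [← (zpowers u).card_mul_index, ← hk, index_ker, MonoidHom.range_eq_top.2 hρ, card_top]
  · rw [← inf_relIndex_right, (eq_bot_iff_forall (zpowers u ⊓ 𝐊 X)).2 fun x hx =>
      (eq_or_of_mul_self hu hx.1).resolve_right fun h2 => h (h2 ▸ hx.2), relIndex_bot_left]

theorem exists_inf (hX : IsPGroup 2 X) (h : ¬ 𝐊 X ≤ center X) :
    ∃ t ∈ 𝐊 X ⊓ center X, t ≠ 1 :=
  have := hX.isNilpotent
  (bot_or_exists_ne_one _).resolve_left (Solv.normal_inf_center_ne_bot _ fun h1 => h (h1 ▸ bot_le))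

theorem not_cen (hg : closure {a, b} = ⊤) (h32 : Nat.card X = 32) (h4 : Nat.card (𝐊 X) = 4) :
    ¬ 𝐊 X ≤ center X := fun h => by
  have h1 : ⁅a, b⁆ ∈ 𝐊 X := commutator_mem_commutator (mem_top a) (mem_top b)
  obtain ⟨c, hc⟩ : ∃ c, c = ⁅a, b⁆ := ⟨_, rfl⟩
  have h2 := card_le_of_le (comm_le_of_gen hg (h h1))
  rw [← hc] at h1 h2
  have h3 : c * c ≠ 1 := fun h3 => by
    have := orderOf_le_of_pow_eq_one two_pos ((pow_two c).trans h3)
    rw [Nat.card_zpowers] at h2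
    omega
  have h5 : c ^ 4 = 1 := h4 ▸ pow_card_of_mem h1
  have hz := mem_center_iff.1 (h h1)
  have e1 : a * b * a⁻¹ = c * b := by rw [hc, commutatorElement_def]; group
  have e2 : a * a * b * (a * a)⁻¹ = c * c * b := by
    calc _ = a * (a * b * a⁻¹) * a⁻¹ := by group
      _ = c * (a * b * a⁻¹) := by rw [e1, ← mul_assoc a c, hz a, ← e1]; group
      _ = _ := by rw [e1, mul_assoc]
  have e3 : ∀ s k, k ∈ center X → s * b * s⁻¹ = k * b → s * (b * b) * s⁻¹ = k * k * (b * b) :=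
    fun s k hk e => by
      calc _ = s * b * s⁻¹ * (s * b * s⁻¹) := by group
        _ = _ := by rw [e, mul_assoc, ← mul_assoc b, mem_center_iff.1 hk b]; group
  have e4 := e3 a c (h h1) e1
  have e5 := e3 _ _ (mul_mem (h h1) (h h1)) e2
  rw [show c * c * (c * c) = c ^ 4 by simp [pow_succ, mul_assoc], h5, one_mul] at e5
  have n1 : a * a ∉ Cen b := fun n => h3 (by rwa [mem_Cen.1 n, mul_inv_cancel_right,
    right_eq_mul] at e2)
  have n2 : a ∉ Cen (b * b) := fun n => h3 (by rwa [mem_Cen.1 n, mul_inv_cancel_right,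
    right_eq_mul] at e4)
  have a1 := card_le_of_le (le_inf (fun k hk => mem_Cen.2 (mem_center_iff.1 (h hk) a).symm)
    (fun k hk => mem_Cen.2 (mem_center_iff.1 (h hk) b).symm) : 𝐊 X ≤ Cen a ⊓ Cen b)
  have hsq : ∀ s : X, Cen s ≤ Cen (s * s) := fun s v hv => mem_Cen.2 (by
    rw [← mul_assoc, mem_Cen.1 hv, mul_assoc, mem_Cen.1 hv, mul_assoc])
  have a2 := two_card_le (inf_le_inf_left (Cen a) (hsq b)) ⟨mul_mem (self_mem_Cen a)
    (self_mem_Cen a), mem_Cen.2 (mul_inv_eq_iff_eq_mul.1 e5)⟩ fun n => n1 n.2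
  have a3 := two_card_le (inf_le_left : Cen a ⊓ Cen (b * b) ≤ _) (self_mem_Cen a) fun n => n2 n.2
  have a4 := two_card_le (hsq a) (mem_Cen.2 (mul_inv_eq_iff_eq_mul.1 e5).symm)
    fun n => n2 (mem_Cen.2 (mem_Cen.1 n).symm)
  have a5 := two_card_le (le_top (a := Cen (a * a))) (mem_top b)
    fun n => n1 (mem_Cen.2 (mem_Cen.1 n).symm)
  rw [card_top] at a5
  omega

omit [Finite X] in
theorem exists_t3 [Finite Y] (hY : IsPGroup 2 Y) (hg : closure {a, b} = ⊤) (hρ : Surjective ρ)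
    (h4 : Nat.card (𝐊 Y) = 4) (hn : ¬ 𝐊 Y ≤ center Y) :
    ∃ y g : X, closure {y, g} = ⊤ ∧ ∃ t d, T3 t d (ρ y) (ρ g) := by
  obtain ⟨t, ht, h1⟩ := exists_inf hY hn
  obtain ⟨r, hr, h2⟩ := SetLike.not_le_iff_exists.1 hn
  have h3 := two_card_le (inf_le_left : 𝐊 Y ⊓ center Y ≤ _) hr fun h3 => h2 h3.2
  have h5 := two_card_le bot_le ht h1
  have h6 : Nat.card (𝐊 Y ⊓ center Y : Subgroup Y) = 2 := by rw [card_bot] at h5; omega
  have tt : t * t = 1 := by rw [← pow_two, ← h6, pow_card_of_mem ht]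
  have h7 : ∀ c ∈ 𝐊 Y ⊓ center Y, c = 1 ∨ c = t := fun c hc =>
    eq_or_of_mul_self tt (eq_zpowers (h6 ▸ Nat.prime_two) ht h1 ▸ hc)
  have h8 : ∀ d ∈ 𝐊 Y, d ∉ center Y → ∀ c ∈ 𝐊 Y, c ∉ center Y → c = d ∨ c = d * t :=
    fun d hd h8 c hc h9 => (h7 _ (mul_mem_two inf_le_left (by omega) (inv_mem hd) hc
      (fun h => h8 (inv_mem_iff.1 h.2)) fun h => h9 h.2)).imp
      (fun h => (inv_mul_eq_one.1 h).symm) inv_mul_eq_iff_eq_mul.1
  have h9 : ∀ d ∈ 𝐊 Y, d ∉ center Y → ∀ x ∉ Cen d, x * d * x⁻¹ = d * t :=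
    fun d hd h9 x h10 => (h8 d hd h9 _ (Normal.conj_mem inferInstance d hd x)
      (mt (Normal.mem_comm_iff inferInstance).1 (by simpa using h9))).resolve_left
      fun h11 => h10 (mem_Cen.2 (mul_inv_eq_iff_eq_mul.1 h11))
  have h10 : ∀ y g : Y, ⁅y, g⁆ ∉ center Y → y ∉ Cen ⁅y, g⁆ → g ∈ Cen ⁅y, g⁆ → T3 t ⁅y, g⁆ y g :=
    fun y g a1 a2 a3 =>
      have a4 : ⁅y, g⁆ ∈ 𝐊 Y := commutator_mem_commutator (mem_top y) (mem_top g)
      ⟨h1, tt, ht.2, a4, h7 _ (mul_mem_two inf_le_left (by omega) a4 a4 (fun h => a1 h.2)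
        fun h => a1 h.2), fun k hk => (em (k ∈ center Y)).elim
        (fun a5 => (h7 k ⟨hk, a5⟩).imp_right Or.inl) fun a5 => Or.inr (Or.inr (h8 _ a4 a1 k hk a5)),
        h9 _ a4 a1 y a2, mem_Cen.1 a3, (inv_mul_cancel_right _ _).symm⟩
  have h11 := gen_map hg hρ
  have h12 : ⁅ρ a, ρ b⁆ ∉ center Y := fun h =>
    hn ((comm_le_of_gen h11 h).trans (zpowers_le_of_mem h))
  have h13 : ⁅ρ a, ρ b⁆ ∈ 𝐊 Y := commutator_mem_commutator (mem_top _) (mem_top _)
  by_cases ha : ρ a ∈ Cen ⁅ρ a, ρ b⁆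
  · have h14 : Cen ⁅ρ b, ρ a⁆ = Cen ⁅ρ a, ρ b⁆ := by
      ext x
      rw [← commutatorElement_inv, mem_Cen, mem_Cen]
      exact Commute.inv_right_iff
    refine ⟨b, a, by rwa [Set.pair_comm], t, _, h10 _ _ (by
      rwa [← commutatorElement_inv, inv_mem_iff]) (h14 ▸ fun hb => h12 ?_) (h14 ▸ ha)⟩
    exact cen_of_gen h11 (mem_Cen.1 ha) (mem_Cen.1 hb)
  by_cases hb : ρ b ∈ Cen ⁅ρ a, ρ b⁆
  · exact ⟨a, b, hg, t, _, h10 _ _ h12 ha hb⟩
  have h14 : ⁅ρ a, ρ (b * a)⁆ = ⁅ρ a, ρ b⁆ := by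
    rw [map_mul, commutatorElement_def, commutatorElement_def]; group
  refine ⟨a, b * a, (eq_top_iff' _).2 (mem_of_gen hg (subset_closure (by simp)) (by
    simpa using mul_mem (subset_closure (by simp) : b * a ∈ closure {a, b * a})
      (inv_mem (subset_closure (by simp) : a ∈ closure {a, b * a})))), t, _,
    h10 _ _ (h14 ▸ h12) (h14 ▸ ha) (h14 ▸ mem_Cen.2 (mul_inv_eq_iff_eq_mul.1 ?_))⟩
  calc _ = ρ b * (ρ a * ⁅ρ a, ρ b⁆ * (ρ a)⁻¹) * (ρ b)⁻¹ := by rw [map_mul]; group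
    _ = ρ b * ⁅ρ a, ρ b⁆ * (ρ b)⁻¹ * t := by
      rw [h9 _ h13 h12 _ ha, ← mul_assoc, mul_assoc _ t, ← mem_center_iff.1 ht.2, ← mul_assoc]
    _ = _ := by rw [h9 _ h13 h12 _ hb, mul_assoc, tt, mul_one]

variable (hX : IsPGroup 2 X) (hg : closure {a, b} = ⊤) (h64 : Nat.card X = 64)
  (hZ : ∀ z ∈ center X, z * z = 1) (hE : ∀ x : X, x ^ 8 = 1)
include hg h64 hZ

theorem not_le_center : ¬ 𝐊 X ≤ center X := fun h => by
  have h1 : ∀ x : X, x ^ 4 ∈ 𝐊 X := fun x => by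
    rw [show x ^ 4 = x * x * (x * x) by simp [pow_succ, mul_assoc], hZ _ (mem_center_iff.2 fun s => ?_)]
    · exact one_mem _
    have h1 := h (commutator_mem_commutator (mem_top s) (mem_top x))
    calc s * (x * x) = ⁅s, x⁆ * (x * ⁅s, x⁆) * x * s := by simp only [commutatorElement_def]; group
      _ = _ := by rw [mem_center_iff.1 h1 x, ← mul_assoc, hZ _ h1, one_mul]
  have h2 := h (commutator_mem_commutator (mem_top a) (mem_top b))
  have h3 := card_le_of_le (comm_le_of_gen hg h2)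
  have h4 := orderOf_le_of_pow_eq_one two_pos ((pow_two _).trans (hZ _ h2))
  have h5 := index_le_of_gen hg four_pos four_pos (h1 a) (h1 b)
  have h6 := (𝐊 X).index_mul_card
  rw [Nat.card_zpowers] at h3
  nlinarith

include hX hE

theorem exists_eight' (h8 : Nat.card (𝐊 X) = 8) :
    ∃ z ∈ 𝐊 X ⊓ center X, z ≠ 1 ∧ ∀ k ∈ 𝐊 X, k * k ∈ zpowers z := by
  obtain ⟨z, hz, h1⟩ := exists_inf hX (not_le_center hg h64 hZ)
  have := normal_of_cen hz.2
  have hρ := QuotientGroup.mk'_surjective (zpowers z)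
  have hk := QuotientGroup.ker_mk' (zpowers z)
  generalize QuotientGroup.mk' (zpowers z) = ρ at hρ hk
  have zz := hZ z hz.2
  have zc := mem_center_iff.1 hz.2
  obtain ⟨h2, h3, -⟩ := card_quot hρ hk zz h1
  have h4 := h3 hz.1
  obtain ⟨y, g, h5, t, d, h⟩ := exists_t3 (hX.to_quotient _) hg hρ (by omega)
    (not_cen (gen_map hg hρ) (by omega) (by omega))
  have h6 : ∀ k ∈ 𝐊 X, ρ k ∈ 𝐊 (X ⧸ zpowers z) := fun k hk =>
    (map_comm_eq hρ).le (mem_map_of_mem ρ hk)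
  have tc := mem_center_iff.1 h.tc
  have h7 : d * t * (d * t) = d * d := by
    rw [mul_assoc, ← mul_assoc t, ← tc d, mul_assoc d t, h.tt, mul_one]
  rcases h.dd with h9 | h9
  · refine ⟨z, hz, h1, fun k h10 => hk.le (show ρ (k * k) = 1 from ?_)⟩
    rcases h.mem _ (h6 k h10) with e | e | e | e <;> rw [map_mul, e]
    exacts [mul_one _, h.tt, h9, h7.trans h9]
  obtain ⟨c, hc⟩ : ∃ c, c = ⁅y, g⁆ := ⟨_, rfl⟩
  have c1 : c ∈ 𝐊 X := hc ▸ commutator_mem_commutator (mem_top _) (mem_top _)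
  have c2 : ρ c = d := by rw [hc, map_commutatorElement, commutatorElement_def, h.yg]; group
  have c3 : y * g * y⁻¹ = c * g := by rw [hc, commutatorElement_def]; group
  have sq : ∀ v w : X, v = w ∨ v = w * z → v * v = w * w := by
    rintro v w (rfl | rfl)
    exacts [rfl, by rw [mul_assoc, ← mul_assoc z, ← zc w, mul_assoc w z, zz, mul_one]]
  have c4 : ρ (c * c) = t := by rw [map_mul, c2, h9]
  have c5 := eq_or_of_map hk zz (a := g * c * g⁻¹) (b := c) (by
    rw [map_mul, map_mul, map_inv, c2, h.gd, mul_inv_cancel_right])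
  have c6 : g * (c * c) = c * c * g := by
    rw [← mul_inv_eq_iff_eq_mul]
    exact (show _ = g * c * g⁻¹ * (g * c * g⁻¹) by group).trans (sq _ _ c5)
  rcases eq_or_of_map hk zz (a := c * c * (c * c)) (b := 1) (by rw [map_mul, c4, h.tt, map_one])
    with c7 | c7
  · have c8 := sq _ _ (eq_or_of_map hk zz (a := y * c * y⁻¹) (b := c * (c * c)) (by
      rw [map_mul, map_mul, map_inv, c2, h.yd, map_mul, c2, c4]))
    refine ⟨c * c, ⟨mul_mem c1 c1, cen_of_gen h5 (mul_inv_eq_iff_eq_mul.1 ?_) c6⟩,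
      fun e => h.t1 (by rw [← c4, e, map_one]), fun k h10 => ?_⟩
    · calc _ = y * c * y⁻¹ * (y * c * y⁻¹) := by group
        _ = c * c * (c * c * (c * c)) := by rw [c8]; group
        _ = _ := by rw [c7, mul_one]
    obtain ⟨i, hi⟩ : ∃ i : ℕ, ρ k = ρ (c ^ i) := by
      rcases h.mem _ (h6 k h10) with e | e | e | e
      exacts [⟨0, by simp [e]⟩, ⟨2, by rw [e, pow_two, c4]⟩, ⟨1, by rw [e, pow_one, c2]⟩,
        ⟨3, by rw [e, pow_succ', pow_two, map_mul, c2, c4]⟩]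
    rw [sq _ _ (eq_or_of_map hk zz hi), ← (Commute.refl c).mul_pow]
    exact npow_mem_zpowers _ i
  exfalso
  rw [one_mul] at c7
  have h10 : ρ g ^ 4 ∈ 𝐊 (X ⧸ zpowers z) := by
    have a1 : 𝐊 (X ⧸ zpowers z) ≤ Cen d := fun k hk => mem_Cen.2 (by
      rcases h.mem k hk with rfl | rfl | rfl | rfl
      exacts [by simp, (tc d).symm, rfl, by rw [mul_assoc, ← tc d]])
    have a2 := Fgs1.card_mul_relIndex a1
    have a3 := two_card_le (le_top (a := Cen d)) (mem_top (ρ y)) fun a3 => h.t1 (by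
      have := h.yd
      rwa [mem_Cen.1 a3, mul_inv_cancel_right, left_eq_mul] at this)
    have a4 := ((𝐊 (X ⧸ zpowers z)).relIndex_dvd_card (Cen d)).trans (card_subgroup_dvd_card _)
    have a5 := pow_relIndex_mem (𝐊 (X ⧸ zpowers z)) (mem_Cen.2 h.gd)
    rw [card_top] at a3
    rw [show Nat.card (X ⧸ zpowers z) = 32 by omega] at a3 a4
    obtain ⟨i, hi⟩ : (𝐊 (X ⧸ zpowers z)).relIndex (Cen d) ∣ 4 := by
      have a6 : (𝐊 (X ⧸ zpowers z)).relIndex (Cen d) ≤ 4 := by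
        rw [show Nat.card (𝐊 (X ⧸ zpowers z)) = 4 by omega] at a2
        omega
      generalize (𝐊 (X ⧸ zpowers z)).relIndex (Cen d) = r at a4 a6
      interval_cases r <;> omega
    rw [hi, pow_mul]
    exact pow_mem a5 i
  have h11 : g ^ 4 * g ^ 4 = 1 := by rw [← pow_add, hE]
  have h12 : ρ g ^ 4 * ρ g ^ 4 = 1 := by rw [← map_pow, ← map_mul, h11, map_one]
  have h13 : y * g ^ 4 * y⁻¹ = g ^ 4 := by
    rcases h.mem _ h10 with e | e | e | e
    · rcases eq_or_of_map hk zz (b := 1) ((map_pow ρ g 4).trans (e.trans ρ.map_one.symm)) with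
        e | e <;> simp [e, zc y]
    · exact absurd (h11.symm.trans ((sq _ _ (eq_or_of_map hk zz ((map_pow ρ g 4).trans
        (e.trans c4.symm)))).trans c7)).symm h1
    · exact absurd (by rw [← h9, ← e, h12]) h.t1
    · exact absurd (by rw [← h9, ← h7, ← e, h12]) h.t1
  have h14 : (c * g) ^ 2 = c * c * (g * g) ∨ (c * g) ^ 2 = c * c * (g * g) * z := by
    rw [show (c * g) ^ 2 = c * (g * c * g⁻¹) * (g * g) by rw [pow_two]; group]
    exact c5.imp (fun e => by rw [e]) fun e => by rw [e, mul_assoc _ (g * g), zc (g * g)]; group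
  have h15 : Commute (c * c) (g * g) := (Commute.mul_left c6 c6).symm
  rw [← conj_pow, c3, show 4 = 2 + 2 from rfl, pow_add, sq _ _ h14, ← pow_two, h15.mul_pow,
    pow_two (c * c), c7, ← pow_two g, ← pow_mul, mul_eq_right] at h13
  exact h1 h13

theorem exists_quot64 : ∃ u ∈ center X, ∀ {Y : Type u} [Group Y] (ρ : X →* Y), Surjective ρ →
    ρ.ker = zpowers u → (IsMetacyclic Y ∧ ¬ IsMulCommutative Y) ∨ (Nat.card Y = 32 ∧
      Nat.card (𝐊 Y) = 4 ∧ ∀ k ∈ 𝐊 Y, k * k = 1) := by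
  have h0 := not_le_center hg h64 hZ
  have h1 : ∀ u ∈ center X, u ≠ 1 → (u ∈ 𝐊 X ∧ Nat.card (𝐊 X) = 8 ∨
      u ∉ 𝐊 X ∧ Nat.card (𝐊 X) = 4) → (∀ k ∈ 𝐊 X, k * k ∈ zpowers u) → ∀ {Y : Type u} [Group Y]
      (ρ : X →* Y), Surjective ρ → ρ.ker = zpowers u → (IsMetacyclic Y ∧ ¬ IsMulCommutative Y) ∨
      (Nat.card Y = 32 ∧ Nat.card (𝐊 Y) = 4 ∧ ∀ k ∈ 𝐊 Y, k * k = 1) :=
    fun u a1 a2 a3 a4 Y _ ρ hρ hk => by
      obtain ⟨a5, a6, a7⟩ := card_quot hρ hk (hZ u a1) a2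
      refine Or.inr ⟨by omega, a3.elim (fun a => by have := a6 a.1; omega) fun a =>
        (a7 a.1).trans a.2, fun k a8 => ?_⟩
      obtain ⟨k, a9, rfl⟩ := (map_comm_eq hρ).ge a8
      rw [← map_mul]
      exact hk.ge (a4 k a9)
  have hn : ¬ IsMulCommutative X := fun h => h0 (center_eq_top_iff.2 h ▸ le_top)
  have h2 := (𝐊 X).index_mul_card
  have h3 : 8 ≤ (𝐊 X).index := by
    obtain ⟨c, h3⟩ := Fgs2.sq_dvd_index_commutator hX fun _ => hn inferInstance
    have := (𝐊 X).index_ne_zero_of_finite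
    have : (𝐊 X).index ≠ 4 := fun h4 => by
      obtain ⟨n, v, -, -, -, -, h5, -⟩ := Fgs2.taussky hX h4 hn
      have h6 := (zpowers v).index_mul_card
      have := orderOf_le_of_pow_eq_one (by omega) (hE v)
      rw [Nat.card_zpowers, h5] at h6
      omega
    omega
  obtain ⟨z, hz, h4⟩ := exists_inf hX h0
  obtain ⟨r, hr, h5⟩ := SetLike.not_le_iff_exists.1 h0
  have h6 := two_card_le (inf_le_left : 𝐊 X ⊓ center X ≤ _) hr fun h => h5 h.2
  have h7 := two_card_le bot_le hz h4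
  rw [card_bot] at h7
  by_cases h8 : Nat.card (𝐊 X) = 4
  swap
  · have h9 := card_pow (hX.to_subgroup ⊤) (le_top (a := 𝐊 X)) (i := 2) (by omega)
    have h10 : Nat.card (𝐊 X) = 8 := by
      have := Nat.mul_le_mul_right (Nat.card (𝐊 X)) h3
      omega
    obtain ⟨u, a1, a2, a3⟩ := exists_eight' hX hg h64 hZ hE h10
    exact ⟨u, a1.2, h1 u a1.2 a2 (Or.inl ⟨a1.1, h10⟩) a3⟩
  obtain ⟨y, g, h9, t, d, h⟩ := exists_t3 (ρ := MonoidHom.id X) hX hg surjective_id h8 h0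
  have tc := mem_center_iff.1 h.tc
  have yd : y * d * y⁻¹ = d * t := h.yd
  have gd : g * d = d * g := h.gd
  have yg : y * g * y⁻¹ = d * g := h.yg
  have e1 : y * (g * g) * y⁻¹ = d * d * (g * g) := by
    calc _ = y * g * y⁻¹ * (y * g * y⁻¹) := by group
      _ = _ := by rw [yg, mul_assoc, ← mul_assoc g, gd]; group
  rcases h.dd with h10 | h10
  · have h11 : ∀ u, ∀ k ∈ 𝐊 X, k * k ∈ zpowers u := fun u k hk => by
      rcases h.mem k hk with rfl | rfl | rfl | rfl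
      · simp
      · simp [h.tt]
      · simp [h10]
      · rw [mul_assoc, ← mul_assoc t, ← tc d, mul_assoc d t, h.tt, mul_one, h10]; exact one_mem _
    have e2 : y * y * g * (y * y)⁻¹ = t * g := by
      calc _ = y * (y * g * y⁻¹) * y⁻¹ := by group
        _ = y * (d * g) * y⁻¹ := by rw [yg]
        _ = y * d * y⁻¹ * (y * g * y⁻¹) := by group
        _ = _ := by rw [yd, yg, tc d, mul_assoc, ← mul_assoc d, h10, one_mul]
    have a1 : g ^ 2 ∈ center X := cen_of_gen h9 (mul_inv_eq_iff_eq_mul.1 (by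
      rw [pow_two, e1, h10, one_mul])) (by group)
    have a2 : y ^ 4 ∈ center X := cen_of_gen h9 (by group) (mul_inv_eq_iff_eq_mul.1 (by
      calc y ^ 4 * g * (y ^ 4)⁻¹ = y * y * (y * y * g * (y * y)⁻¹) * (y * y)⁻¹ := by
            simp [pow_succ, mul_assoc]
        _ = t * (y * y * g * (y * y)⁻¹) := by rw [e2, ← mul_assoc _ t, tc (y * y), ← e2]; group
        _ = g := by rw [e2, ← mul_assoc, h.tt, one_mul])).symm
    by_cases a3 : g ^ 2 ∈ 𝐊 X
    · by_cases a4 : y ^ 4 ∈ 𝐊 X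
      · have := index_le_of_gen h9 four_pos two_pos a4 a3
        rw [h8] at h2
        omega
      · exact ⟨_, a2, h1 _ a2 (fun e => a4 (e ▸ one_mem _)) (Or.inr ⟨a4, h8⟩) (h11 _)⟩
    · exact ⟨_, a1, h1 _ a1 (fun e => a3 (e ▸ one_mem _)) (Or.inr ⟨a3, h8⟩) (h11 _)⟩
  have a1 : d * (g * g) ∈ center X := cen_of_gen h9 (mul_inv_eq_iff_eq_mul.1 (by
    calc _ = y * d * y⁻¹ * (y * (g * g) * y⁻¹) := by group
      _ = _ := by rw [yd, e1, h10, mul_assoc, ← mul_assoc t, h.tt, one_mul])) (by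
    rw [← mul_assoc, gd]; group)
  refine ⟨_, a1, fun ρ hρ hk => Or.inl ⟨?_, fun hc => h.t1 ?_⟩⟩
  · have a2 := gen_map h9 hρ
    have a3 : ρ d ∈ zpowers (ρ g) := by
      rw [eq_inv_of_mul_eq_one_left ((map_mul ρ _ _).symm.trans (hk.ge (mem_zpowers _))), map_mul]
      exact inv_mem (mul_mem (mem_zpowers _) (mem_zpowers _))
    have := Finite.of_surjective ρ hρ
    have a4 : (zpowers (ρ g)).Normal := normalizer_eq_top_iff.1 ((eq_top_iff' _).2 (mem_of_gen a2
      (mem_norm (by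
        rw [← map_inv, ← map_mul, ← map_mul, yg, map_mul]; exact mul_mem a3 (mem_zpowers _)))
      (le_normalizer (mem_zpowers _))))
    refine ⟨_, a4, inferInstance, ⟨QuotientGroup.mk' _ (ρ y), mem_of_gen (gen_map a2
      (QuotientGroup.mk'_surjective _)) (mem_zpowers _) ?_⟩⟩
    rw [show QuotientGroup.mk' _ (ρ g) = 1 from (QuotientGroup.eq_one_iff _).2 (mem_zpowers _)]
    exact one_mem _
  · have a2 : d ∈ center X := zpowers_le_of_mem a1 (hk.le (show ρ d = 1 by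
      have := congrArg ρ yg
      rwa [map_mul, map_mul, map_mul, map_inv, hc.1.1 (ρ y), mul_inv_cancel_right,
        right_eq_mul] at this))
    rwa [mem_center_iff.1 a2 y, mul_inv_cancel_right, left_eq_mul] at yd

end Grp

variable {M : Ideal AlgInt} {G : Type u} [Group G] [Finite G] {B : Set (IrrCharacter G)}
  {P : Subgroup G} {e : (k M)[G]}

theorem rank_eq_of_gam (hM : IsPModular 2 M) (hB : IsPBlock M B) (he : MaxPair 2 ⊤ (eb M B) P e)
    (h32 : Nat.card P = 32) (h4 : Nat.card (𝐊 P) = 4) (hn : ¬ 𝐊 P ≤ center P)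
    (h2 : ∀ k ∈ 𝐊 P, k * k = 1) : blockRank 2 B = 1 := by
  have hP := he.bpair.pair.isP
  obtain ⟨t, ht, h1⟩ := exists_inf hP hn
  obtain ⟨d, y, g, h⟩ := exists_c3 (t := (t : G)) hP h32 (card_commutator P ▸ h4) (by
      by_contra h5
      have h6 := card_pow hP (i := 2) (CS_le (P := P)) (by omega)
      have h7 := (center P).index_mul_card
      rw [card_center] at h7
      have h8 := (sq_of_le hP (fun h => hn (center_eq_top_iff.2 h ▸ le_top)) (by
        have := Nat.mul_le_mul_left (center P).index h6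
        omega)).card_comm
      omega) (by
      rw [← map_subtype_commutator, ← map_center]
      exact ⟨mem_map_of_mem _ ht.1, mem_map_of_mem _ ht.2⟩) (by simpa using h1) (by
      rwa [← map_subtype_commutator, ← map_center, map_le_map_iff_of_injective P.subtype_injective])
  refine h.rank_eq ?_ hM hB he
  have h5 := congrArg Subtype.val (h2 _ (commutator_mem_commutator (mem_top ⟨y, h.yP⟩)
    (mem_top ⟨g, h.gP⟩)))
  simpa [commutatorElement_def, h.yg] using h5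

/-- Brauer's bound for two-generated defect groups of order at most sixty-four. -/
theorem card_le_two_gen (hM : IsPModular 2 M) (hB : IsPBlock M B) (hD : IsDefectGroup 2 M B P)
    (h64 : Nat.card P ≤ 64) {a b : G} (ha : a ∈ P) (hb : b ∈ P) (hg : closure {a, b} = P) :
    Nat.card B ≤ Nat.card P := by
  have := charP_k hM
  obtain ⟨e, he⟩ := exists_maxPair_of_defect hM hB hD
  have hP := he.bpair.pair.isP
  have hc : ∀ z ∈ center P, P ≤ Cen (z : G) := fun z hz g hg =>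
    mem_Cen.2 (congrArg Subtype.val (mem_center_iff.1 hz ⟨g, hg⟩))
  have hi : ∀ x : P, (zpowers x).index * orderOf x = Nat.card P := fun x => by
    rw [← Nat.card_zpowers, index_mul_card]
  by_cases h1 : ∃ z ∈ center P, (zpowers z).index ≤ 16
  · obtain ⟨z, h1, h2⟩ := h1
    exact card_le_two hM hB he z (hc z h1) h2
  by_cases h2 : ∃ x : P, (zpowers x).index ≤ 4
  · obtain ⟨x, h2⟩ := h2
    refine card_le_of_index_le_four hM hB hD (zpowers_le_of_mem x.2) inferInstance ?_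
    rwa [← P.subtype_apply, ← MonoidHom.map_zpowers, relIndex, subgroupOf,
      comap_map_eq_self_of_injective P.subtype_injective]
  push Not at h1 h2
  have h3 : ∀ (x : P) (i : ℕ), ¬ 2 ^ (i + 1) ≤ orderOf x → x ^ 2 ^ i = 1 := fun x i h3 => by
    obtain ⟨j, hj⟩ := hP.exists_orderOf_eq_pow x
    rw [← orderOf_dvd_iff_pow_eq_one, hj]
    exact pow_dvd_pow 2 (not_lt.1 fun h => h3 (hj ▸ Nat.pow_le_pow_right two_pos h))
  have h4 : Nat.card P = 64 := by
    have h4 := h1 1 (one_mem _)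
    have h5 := hi 1
    rw [orderOf_one] at h5
    have : Nontrivial P := Finite.one_lt_card_iff_nontrivial.1 (by omega)
    have := hP.center_nontrivial
    obtain ⟨z, hz⟩ := exists_ne (1 : center P)
    have h6 := h1 z z.2
    have h7 := hi z
    have h8 : 1 < orderOf (z : P) := Nat.one_lt_iff_ne_zero_and_ne_one.2 ⟨(orderOf_pos _).ne',
      mt orderOf_eq_one_iff.1 (by simpa using hz)⟩
    have := card_pow hP le_rfl (i := 5) (by
      have := Nat.mul_le_mul h6 h8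
      omega)
    omega
  have h5 : closure {(⟨a, ha⟩ : P), ⟨b, hb⟩} = ⊤ := map_injective P.subtype_injective (by
    rw [MonoidHom.map_closure, Set.image_pair, ← MonoidHom.range_eq_map, range_subtype]
    exact hg)
  obtain ⟨u, h6, h7⟩ := exists_quot64 hP h5 h4 (fun z hz => (pow_two z).symm.trans (h3 z 1 fun h => by
    have := Nat.mul_le_mul (h1 z hz) h
    have := hi z
    omega)) fun x => h3 x 3 fun h => by
      have := Nat.mul_le_mul (h2 x) h
      have := hi x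
      omega
  obtain ⟨K, _, _, Q, ρ, c, f, h⟩ := exists_dm hM hB he u (hc u h6)
  refine card_le_of_cen hM hB he hD u.2 (hc u h6) (Or.inl (h.rank ▸ ?_))
  rcases h7 ρ h.surj h.ker with ⟨h8, h9⟩ | ⟨h8, h9, h10⟩
  · exact rank_le_of_meta hM h.blk ((isDefectGroup_iff hM h.blk _).2 h.max.isDefGrp) h8
      fun n k ⟨φ⟩ => absurd ⟨⟨fun x y => φ.injective (by rw [map_mul, map_mul, mul_comm])⟩⟩ h9
  · rw [rank_eq_of_gam hM h.blk h.max h8 h9 (not_cen (gen_map h5 h.surj) h8 h9) h10]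
    omega

end CF.BlockK
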